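import Groth.Agent.S15048
import Mathlib.AlgebraicGeometry.Group.Affine
import Mathlib.AlgebraicGeometry.Morphisms.FlatRank
import Mathlib.RingTheory.Finiteness.ModuleFinitePresentation
import Mathlib.RingTheory.Flat.EquationalCriterion

/-!
# Deligne's theorem in scheme form: commutative finite locally free group schemes are killed by
their rank
-/

set_option autoImplicit false
universe u

open CategoryTheory Limits MonoidalCategory CartesianMonoidalCategory MonObj GrpObj AlgebraicGeometry
open WithConv TensorProduct Coalgebra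

namespace K267.DeligneSch

section Hopf

variable {R : Type u} [CommRing R] {C : Type u} [CommRing C] [HopfAlgebra R C]

/-- A Hopf algebra whose spectrum is commutative is cocommutative. -/
theorem isCocomm_of_isCommMonObj
    (h : IsCommMonObj ((Spec (CommRingCat.of C)).asOver (Spec (CommRingCat.of R)))) :
    Coalgebra.IsCocomm R C := by
  let f : WithConv (C →ₐ[R] C ⊗[R] C) := toConv (Algebra.TensorProduct.includeLeft)
  let g : WithConv (C →ₐ[R] C ⊗[R] C) := toConv (Algebra.TensorProduct.includeRight)
  have hfg : f * g = g * f := by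
    apply (Spec.mapMulEquiv (R := R) (S := C) (T := C ⊗[R] C)).injective
    rw [map_mul, map_mul]
    exact Hom.commGroup.mul_comm _ _
  refine ⟨?_⟩
  apply LinearMap.ext
  intro a
  have h1 : (f * g) a = (g * f) a := congrArg (fun k : WithConv (C →ₐ[R] C ⊗[R] C) => k a) hfg
  rw [AlgHom.convMul_apply, AlgHom.convMul_apply, ← (ℛ R a).eq] at h1
  rw [LinearMap.comp_apply, ← (ℛ R a).eq]
  simpa [f, g] using h1.symm

/-- `G` is killed by `n` when its Hopf algebra is. -/
theorem id_pow_eq_one_spec (n : ℕ) (h : (toConv (AlgHom.id R C)) ^ n = 1) :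
    (𝟙 ((Spec (CommRingCat.of C)).asOver (Spec (CommRingCat.of R)))) ^ n = 1 := by
  have h1 := congrArg (Spec.mapMulEquiv (R := R) (S := C) (T := C)) h
  rw [map_pow, map_one] at h1
  have h2 : Spec.mapMulEquiv (R := R) (S := C) (T := C) (toConv (AlgHom.id R C)) =
      𝟙 ((Spec (CommRingCat.of C)).asOver (Spec (CommRingCat.of R))) := by
    apply Over.OverMorphism.ext
    change Spec.map (CommRingCat.ofHom (AlgHom.id R C).toRingHom) = 𝟙 _
    rw [← Spec.map_id]
    rfl
  rwa [h2] at h1

end Hopf

section Affine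

variable {R : Type u} [CommRing R]

theorem data_of_iso {R C : Type u} [CommRing R] [CommRing C] [Algebra R C] {X : Scheme.{u}}
    (f : X ⟶ Spec (CommRingCat.of R)) [IsFinite f] [Flat f] [LocallyOfFinitePresentation f]
    (j : Spec (CommRingCat.of C) ⟶ X) [IsIso j]
    (hw : j ≫ f = Spec.map (CommRingCat.ofHom (algebraMap R C))) (r : ℕ)
    (hr : ∀ s, Scheme.Hom.finrank f s = r) :
    Module.Finite R C ∧ Module.Projective R C ∧ ∀ p : PrimeSpectrum R, Module.rankAtStalk C p = r := by
  have hfin : Module.Finite R C := by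
    have : IsFinite (j ≫ f) := inferInstance
    rw [hw, IsFinite.SpecMap_iff] at this
    exact RingHom.finite_algebraMap.mp this
  have hfl : Module.Flat R C := by
    have : Flat (j ≫ f) := inferInstance
    rw [hw, Flat.SpecMap_iff] at this
    exact (RingHom.flat_algebraMap_iff (R := R) (S := C)).mp this
  have hfp : Algebra.FinitePresentation R C := by
    have : LocallyOfFinitePresentation (j ≫ f) := inferInstance
    rw [hw, HasRingHomProperty.Spec_iff (P := @LocallyOfFinitePresentation)] at this
    exact (RingHom.finitePresentation_algebraMap (A := R) (B := C)).mp this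
  have hfp' : Module.FinitePresentation R C :=
    Module.FinitePresentation.of_finite_of_finitePresentation R C
  refine ⟨hfin, Module.Flat.projective_of_finitePresentation, ?_⟩
  intro p
  rw [← Scheme.Hom.finrank_SpecMap_algebraMap, ← hw, Scheme.Hom.finrank_comp_left_of_isIso]
  exact hr p

theorem isCommMonObj_of_iso {D : Type*} [Category D] [CartesianMonoidalCategory D]
    [BraidedCategory D] {G G' : D} [MonObj G] [MonObj G'] [IsCommMonObj G] (i : G' ⟶ G)
    [IsMonHom i] [Mono i] : IsCommMonObj G' := by
  refine ⟨?_⟩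
  rw [← cancel_mono i, Category.assoc, IsMonHom.mul_hom,
    ← BraidedCategory.braiding_naturality_assoc, IsCommMonObj.mul_comm]

theorem id_pow_eq_one_affine (G : Over (Spec (CommRingCat.of R))) [GrpObj G] [IsCommMonObj G]
    [IsFinite G.hom] [Flat G.hom] [LocallyOfFinitePresentation G.hom] (r : ℕ)
    (hr : ∀ s, Scheme.Hom.finrank G.hom s = r) : (𝟙 G) ^ r = 1 := by
  have : IsAffine G.left := isAffine_of_isAffineHom G.hom
  have h2 : (hopfSpec (CommRingCat.of R)).essImage (Grp.mk G) := essImage_hopfSpec.2 this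
  obtain ⟨C, ⟨e⟩⟩ := h2
  let C' : Type u := C.unop
  let G' : Over (Spec (CommRingCat.of R)) := (Spec (CommRingCat.of C')).asOver (Spec (CommRingCat.of R))
  let i : G' ≅ G := (Grp.forget _).mapIso e
  have hi : IsMonHom i.hom := inferInstanceAs (IsMonHom (e.hom.hom.hom))
  have hi' : IsMonHom i.inv := inferInstanceAs (IsMonHom (e.inv.hom.hom))
  have hil : IsIso i.hom.left := inferInstanceAs (IsIso ((Over.forget _).map i.hom))
  -- commutativity
  have hc : IsCommMonObj G' := isCommMonObj_of_iso i.hom
  have hil' : IsIso (X := Spec (CommRingCat.of C')) i.hom.left := hil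
  obtain ⟨hfin, hproj, hrank⟩ := data_of_iso (R := R) (C := C') G.hom i.hom.left (Over.w i.hom) r hr
  have hcc : Coalgebra.IsCocomm R C' := isCocomm_of_isCommMonObj hc
  have key := id_pow_eq_one_spec (R := R) (C := C') r (Groth.Agent.S15048.result R C' r hrank)
  have h3 : i.inv ≫ (((𝟙 G') ^ r) ≫ i.hom) = (𝟙 G) ^ r := by
    rw [MonObj.pow_comp, Category.id_comp, MonObj.comp_pow, Iso.inv_hom_id]
  rw [← h3]
  have h4 : (𝟙 G') ^ r = 1 := key
  rw [h4, MonObj.one_comp, MonObj.comp_one]

end Affine

section General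

attribute [local instance] Functor.grpObjObj

lemma map_pow_one {S S' : Scheme.{u}} (f : S' ⟶ S) (A : Over S) [GrpObj A] (d : ℕ) :
    (Over.pullback f).map (𝟙 A ^ d) = 𝟙 ((Over.pullback f).obj A) ^ d := by
  rw [← CategoryTheory.Functor.map_id]
  exact map_pow (Functor.homMonoidHom (Over.pullback f) (X := A) (M := A)) (𝟙 A) d

lemma map_one_one {S S' : Scheme.{u}} (f : S' ⟶ S) (A : Over S) [GrpObj A] :
    (Over.pullback f).map (1 : A ⟶ A) = 1 :=
  map_one (Functor.homMonoidHom (Over.pullback f) (X := A) (M := A))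

theorem id_pow_eq_one {S : Scheme.{u}} (G : Over S) [GrpObj G] [IsCommMonObj G]
    [IsFinite G.hom] [Flat G.hom] [LocallyOfFinitePresentation G.hom]
    (r : ℕ) (hr : ∀ s : S, Scheme.Hom.finrank G.hom s = r) : (𝟙 G) ^ r = 1 := by
  apply Over.OverMorphism.ext
  refine Scheme.Cover.hom_ext (S.affineOpenCover.openCover.pullback₁ G.hom) _ _ fun i => ?_
  let f : Spec (S.affineOpenCover.X i) ⟶ S := S.affineOpenCover.f i
  let G' : Over (Spec (S.affineOpenCover.X i)) := (Over.pullback f).obj G
  let gG : GrpObj G' := Functor.grpObjObj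
  have h1 : IsFinite G'.hom := inferInstanceAs (IsFinite (pullback.snd G.hom f))
  have h2 : Flat G'.hom := inferInstanceAs (Flat (pullback.snd G.hom f))
  have h3 : LocallyOfFinitePresentation G'.hom :=
    inferInstanceAs (LocallyOfFinitePresentation (pullback.snd G.hom f))
  have h4 : IsCommMonObj G' := inferInstance
  have h5 := @id_pow_eq_one_affine (S.affineOpenCover.X i) _ G' gG h4 h1 h2 h3 r (fun s => by
    have := Scheme.Hom.finrank_pullback_snd G.hom f s
    exact this.trans (hr _))
  have h6 : (Over.pullback f).map (𝟙 G ^ r) = (Over.pullback f).map (1 : G ⟶ G) := by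
    rw [map_pow_one, map_one_one]
    exact h5
  have h7 : ∀ k : G ⟶ G, ((Over.pullback f).map k).left ≫ pullback.fst G.hom f =
      pullback.fst G.hom f ≫ k.left := fun k => pullback.lift_fst _ _ _
  change pullback.fst G.hom f ≫ (𝟙 G ^ r).left = pullback.fst G.hom f ≫ (1 : G ⟶ G).left
  rw [← h7, ← h7, h6]

theorem pow_eq_one {S : Scheme.{u}} (G : Over S) [GrpObj G] [IsCommMonObj G]
    [IsFinite G.hom] [Flat G.hom] [LocallyOfFinitePresentation G.hom]
    (r : ℕ) (hr : ∀ s : S, Scheme.Hom.finrank G.hom s = r) (T : Over S) (g : T ⟶ G) :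
    g ^ r = 1 := by
  have h := MonObj.comp_pow (𝟙 G) r g
  rw [Category.comp_id] at h
  rw [← h, id_pow_eq_one G r hr, MonObj.comp_one]

end General

end K267.DeligneSch
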