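import Groth.Agent.GrpSch.K267.TorsFin
import Groth.Agent.GrpSch.K270.MB.Shape

/-!
# Finite parts of the torsion in the vocabulary of `K270.MB`
-/

set_option autoImplicit false

universe u

open CategoryTheory CategoryTheory.Limits MonoidalCategory CartesianMonoidalCategory MonObj GrpObj
  AlgebraicGeometry

namespace K267.FinMB

open Groth.Agent Groth.Agent.Sga3B.KerGrp K267.FinPart K267.TorsFin

theorem isFinPart_of_isTors {R : Type u} [CommRing R] [IsLocalRing R]
    {A : Over (Spec (CommRingCat.of R))} [GrpObj A] {N : ℕ} {F : Over (Spec (CommRingCat.of R))}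
    [GrpObj F] {f : F ⟶ A} [IsMonHom f] (hf : IsTors A N f) : K270.MB.IsFinPart R A N f where
  mon := inferInstance
  closed := hf.cl
  finite := hf.fin
  flat := hf.flat
  pow := hf.pow
  cl x hx hT := hf.lift_closed x hT hx
  opn {T} x hx hr := by
    obtain ⟨t, ht⟩ := exists_lift ((𝟙 A : A ⟶ A) ^ N) x (by rw [comp_one_pow, hx])
    obtain ⟨k, hk⟩ := exists_lift ((𝟙 A : A ⟶ A) ^ N) f (by rw [comp_one_pow, hf.pow])
    have h1 := hf.op k hk
    have h2 : Mono (kerι ((𝟙 A : A ⟶ A) ^ N)).left :=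
      inferInstanceAs (Mono (pullback.fst _ _))
    have h2' : Function.Injective (kerι ((𝟙 A : A ⟶ A) ^ N)).left := by
      have h3 : IsPreimmersion (kerι ((𝟙 A : A ⟶ A) ^ N)).left := by
        have h4 : IsImmersion (η[A] : 𝟙_ (Over (Spec (CommRingCat.of R))) ⟶ A).left := by
          have h5 : (η[A] : 𝟙_ (Over (Spec (CommRingCat.of R))) ⟶ A).left ≫ A.hom = 𝟙 _ :=
            unit_w
          have h6 : IsImmersion ((η[A] : 𝟙_ (Over (Spec (CommRingCat.of R))) ⟶ A).left ≫ A.hom) := by
            rw [h5]; infer_instance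
          exact IsImmersion.of_comp _ A.hom
        exact inferInstanceAs (IsPreimmersion (pullback.fst ((𝟙 A : A ⟶ A) ^ N).left
          (η[A] : 𝟙_ (Over (Spec (CommRingCat.of R))) ⟶ A).left))
      exact (kerι ((𝟙 A : A ⟶ A) ^ N)).left.injective
    have h3 : Set.range t.left ⊆ Set.range k.left := by
      rintro _ ⟨p, rfl⟩
      obtain ⟨q, hq⟩ := hr p
      refine ⟨q, h2' ?_⟩
      rw [← Scheme.Hom.comp_apply, ← Scheme.Hom.comp_apply, ← Over.comp_left, ← Over.comp_left, hk,
        ht, hq]
    refine ⟨Over.homMk (IsOpenImmersion.lift k.left t.left h3) ?_, ?_⟩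
    · rw [← Over.w k, IsOpenImmersion.lift_fac_assoc]
      exact Over.w _
    · rw [← hk, ← ht, ← Category.assoc]
      congr 1
      ext1
      exact IsOpenImmersion.lift_fac _ _ _

/-- Finite parts exist (semi-stable `A`, any `n > 0`, no connectedness). -/
theorem exists_isFinPart {R : Type u} [CommRing R] [HenselianLocalRing R]
    (A : Over (Spec (CommRingCat.of R))) [GrpObj A] [IsCommMonObj A] [Smooth A.hom]
    [IsSeparated A.hom] [QuasiCompact A.hom] (hA : SGA7.FibresUnipotentRankZero A) (N : ℕ)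
    (hN : 0 < N) : ∃ (F : Over (Spec (CommRingCat.of R))) (_ : GrpObj F) (f : F ⟶ A),
      K270.MB.IsFinPart R A N f := by
  obtain ⟨F, _, f, _, hf⟩ := exists_isTors A hA N hN
  exact ⟨F, inferInstance, f, isFinPart_of_isTors hf⟩

end K267.FinMB
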