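import Groth.Agent.SGA7.K567.SemiAb
import Groth.Agent.Sga7.H740.MulGeo
import Groth.Agent.Sga7.H738.RankZeroBc
import Groth.Agent.Sga7.H760.L2
import Groth.Agent.Sga7.H760.Nhd
import Groth.Agent.Sga3.H219.NeutralK
import Groth.Agent.Ega3B.NormalBirational
import Groth.Agent.CycB.ImageInt
import Groth.Agent.Ega4fib.H141.TopConn
import Groth.Agent.S5319
import Groth.Agent.Sga7.H742.PowUnram
import Groth.Agent.Books.AlgPts

/-!
# Multiplication by `n` on semi-stable group schemes

`S` any scheme, `G` a commutative smooth separated `S`-group scheme of finite type none of whose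
geometric fibres contains the additive group (`SGA7.FibresUnipotentRankZero`).

* `rankZero_bc`, `rankZero_of_closed`: base change and closed subgroups;
* `flat_lqf_pow`: `[n] : G ⟶ G` is flat and locally quasi-finite for `0 < n`;
* `exists_section`: Zariski's main theorem for a section over a nonempty open of a local normal
  integral scheme;
* `exists_torsion_point`: over a field, every component `C` of `G` with `n C ⊆ G⁰` contains a point
  of the kernel of `[n]`.
-/

set_option autoImplicit false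

universe u

open CategoryTheory CategoryTheory.Limits MonoidalCategory CartesianMonoidalCategory MonObj GrpObj
  AlgebraicGeometry

namespace K267.SemiPow

open Groth.Agent Groth.Agent.Sga3B.KerGrp

theorem l2 : Sga7.H738.RankZeroBc.L2Prop.{u} := fun k _ _ G _ _ j _ hj => Sga7.H760.L2 k G j hj

theorem rankZero_bc {S S' : Scheme.{u}} (f : S' ⟶ S) (G : Over S) [GrpObj G]
    [LocallyOfFiniteType G.hom] (h : SGA7.FibresUnipotentRankZero G) :
    SGA7.FibresUnipotentRankZero (Red.bc f G) :=
  Sga7.H738.RankZeroBc.fibresUnipotentRankZero_bc l2 f G h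

theorem rankZero_of_closed {S : Scheme.{u}} {U G : Over S} [GrpObj U] [GrpObj G] (i : U ⟶ G)
    [IsMonHom i] [IsClosedImmersion i.left] (h : SGA7.FibresUnipotentRankZero G) :
    SGA7.FibresUnipotentRankZero U := by
  intro s j hj hj'
  refine h s (j ≫ (Over.pullback (Red.geomPt s)).map i) ?_ ?_
  · have : IsMonHom ((Over.pullback (Red.geomPt s)).map i) := inferInstance
    infer_instance
  · have h1 : IsClosedImmersion ((Over.pullback (Red.geomPt s)).map i).left :=
      MorphismProperty.of_isPullback (P := @IsClosedImmersion)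
        (Sga3C.ActBase.isPullback_map_left (Red.geomPt s) i).flip inferInstance
    rw [Over.comp_left]
    infer_instance

section Pow

variable {S : Scheme.{u}} (G : Over S) [GrpObj G] [IsCommMonObj G] [Smooth G.hom]
  [IsSeparated G.hom] [QuasiCompact G.hom]

theorem isMonHom_pow (G : Over S) [GrpObj G] [IsCommMonObj G] (n : ℕ) :
    IsMonHom ((𝟙 G : G ⟶ G) ^ n) := by
  have h := Groth.Agent.Grpsch.MulFinFlat.isMonHom_zpow (𝟙 G) (n : ℤ)
  rwa [zpow_natCast] at h

/-- Multiplication by `n` on a fibre is quasi-finite. -/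
theorem lqf_pow_fibre (hG : SGA7.FibresUnipotentRankZero G) (n : ℕ) (hn : 0 < n) (s : S) :
    LocallyQuasiFinite (SGA7.fibreHom s ((𝟙 G : G ⟶ G) ^ n)).left := by
  have hqc : QuasiCompact ((𝟙 G : G ⟶ G) ^ n).left := by
    have : QuasiCompact (((𝟙 G : G ⟶ G) ^ n).left ≫ G.hom) := by rw [Over.w]; infer_instance
    exact QuasiCompact.of_comp _ G.hom
  have hlft : LocallyOfFiniteType ((𝟙 G : G ⟶ G) ^ n).left := by
    have : LocallyOfFiniteType (((𝟙 G : G ⟶ G) ^ n).left ≫ G.hom) := by
      rw [Over.w]; infer_instance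
    exact locallyOfFiniteType_of_comp _ G.hom
  have i1 : LocallyOfFiniteType (Red.geomFibre s G).hom :=
    inferInstanceAs (LocallyOfFiniteType (pullback.snd G.hom (Red.geomPt s)))
  have i3 : QuasiCompact (Red.geomFibre s G).hom :=
    inferInstanceAs (QuasiCompact (pullback.snd G.hom (Red.geomPt s)))
  have i4 : IsSeparated (Red.geomFibre s G).hom :=
    inferInstanceAs (IsSeparated (pullback.snd G.hom (Red.geomPt s)))
  have h1 : LocallyQuasiFinite ((Over.pullback (Red.geomPt s)).map ((𝟙 G : G ⟶ G) ^ n)).left := by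
    rw [K567.SemiAb.map_one_pow]
    exact Sga7.H740.MulGeo.locallyQuasiFinite_of_noGa (Red.geomFibre s G) (fun j hj hj' => hG s j hj hj') n hn
  exact Sga7.H760.KerBc.lqf_fibreHom _ s (Red.geomPt s)
    ((Scheme.Hom.comp_apply _ _ _).trans (Scheme.fromSpecResidueField_apply _ _))

theorem flat_pow_fibre (hG : SGA7.FibresUnipotentRankZero G) (n : ℕ) (hn : 0 < n) (s : S) :
    Flat (SGA7.fibreHom s ((𝟙 G : G ⟶ G) ^ n)).left := by
  have i1 : Smooth (Red.bc (S.fromSpecResidueField s) G).hom :=
    inferInstanceAs (Smooth (Limits.pullback.snd G.hom (S.fromSpecResidueField s)))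
  have i2 : QuasiCompact (Red.bc (S.fromSpecResidueField s) G).hom :=
    inferInstanceAs (QuasiCompact (Limits.pullback.snd G.hom (S.fromSpecResidueField s)))
  have i3 := lqf_pow_fibre G hG n hn s
  have i4 := isMonHom_pow G n
  have i5 : IsMonHom (SGA7.fibreHom s ((𝟙 G : G ⟶ G) ^ n)) := inferInstance
  exact Sga7.H760.FieldHom.flat_of_krullDim_le (k := S.residueField s) _ le_rfl
    (Sga7.H760.FibreFlat.dim_bc_ne_top G s)

/-- Multiplication by `n` on a semi-stable group scheme is flat and locally quasi-finite. -/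
theorem flat_lqf_pow (hG : SGA7.FibresUnipotentRankZero G) (n : ℕ) (hn : 0 < n) :
    Flat ((𝟙 G : G ⟶ G) ^ n).left ∧ LocallyQuasiFinite ((𝟙 G : G ⟶ G) ^ n).left := by
  have hlft : LocallyOfFiniteType ((𝟙 G : G ⟶ G) ^ n).left := by
    have : LocallyOfFiniteType (((𝟙 G : G ⟶ G) ^ n).left ≫ G.hom) := by
      rw [Over.w]; infer_instance
    exact locallyOfFiniteType_of_comp _ G.hom
  have i4 := isMonHom_pow G n
  constructor
  · have hL : LocallyOfFinitePresentation G.hom := inferInstance
    refine Sga3C.FlatPt.flat_of_forall_isFlatAt _ fun x => ?_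
    have := flat_pow_fibre G hG n hn (G.hom x)
    exact Sga7.H760.FibreFlat.isFlatAt_of_flat_fibreHom ((𝟙 G : G ⟶ G) ^ n) (G.hom x) x rfl
  · obtain ⟨_, hι⟩ := exists_grpObj ((𝟙 G : G ⟶ G) ^ n)
    refine (S5319.result S G G ((𝟙 G : G ⟶ G) ^ n) (fun s => ?_) (kerObj ((𝟙 G : G ⟶ G) ^ n))
      (kerι ((𝟙 G : G ⟶ G) ^ n)) (isPullback_ker _)).1.mpr fun s => lqf_pow_fibre G hG n hn s
    exact inferInstanceAs (LocallyOfFiniteType (pullback.snd G.hom (S.fromSpecResidueField s)))

end Pow

section Torsion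

/-- Points with values in an algebraically closed field lift along surjective morphisms locally of
finite type. -/
theorem exists_lift_point {X Y : Scheme.{u}} (f : X ⟶ Y) [LocallyOfFiniteType f] [Surjective f]
    {Ω : Type u} [Field Ω] [IsAlgClosed Ω] (y : Spec (CommRingCat.of Ω) ⟶ Y) :
    ∃ x : Spec (CommRingCat.of Ω) ⟶ X, x ≫ f = y := by
  have h1 : Surjective (pullback.snd f y) := inferInstance
  have h2 : LocallyOfFiniteType (pullback.snd f y) := inferInstance
  obtain ⟨w, -⟩ := (pullback.snd f y).surjective (IsLocalRing.closedPoint Ω)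
  have hJ := LocallyOfFiniteType.jacobsonSpace (pullback.snd f y)
  obtain ⟨z, -, hz⟩ := nonempty_inter_closedPoints (X := ↥(pullback f y)) (Z := Set.univ)
    ⟨w, trivial⟩ isOpen_univ.isLocallyClosed
  have hz' : IsClosed {z} := hz
  refine ⟨pointOfClosedPoint (pullback.snd f y) z hz' ≫ pullback.fst f y, ?_⟩
  rw [Category.assoc, pullback.condition, pointOfClosedPoint_comp_assoc]

/-- Every component `C` of a semi-stable group over a field with `n C ⊆ G⁰` contains a point of the
kernel of `[n]`. -/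
theorem exists_torsion_point {k : Type u} [Field k] (G : Over (Spec (CommRingCat.of k))) [GrpObj G]
    [IsCommMonObj G] [Smooth G.hom] [QuasiCompact G.hom]
    (hG : SGA7.FibresUnipotentRankZero G) (n : ℕ) (hn : 0 < n) (a : G.left)
    (ha : ((𝟙 G : G ⟶ G) ^ n).left a ∈ connectedComponent (Books.AlgPts.pt η[G])) :
    ∃ x : G.left, x ∈ connectedComponent a ∧ ((𝟙 G : G ⟶ G) ^ n).left x = Books.AlgPts.pt η[G] := by
  obtain ⟨U, _, u, hu, hcl, hop, hsm, hqc, hconn, hr⟩ := Sga3.H219.NeutralK.exists_neutral G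
  have hmono : Mono u := by
    have : Mono u.left := inferInstance
    exact Functor.mono_of_mono_map (Over.forget _) this
  have hcomm : IsCommMonObj U := Sga7.H758.AlgClosed.isCommMonObj_of_mono u
  have hUr := rankZero_of_closed u hG
  obtain ⟨-, hsurj, -⟩ := K567.SemiAb.flat_surjective_pow U hUr n hn
  let Ω : Type u := AlgebraicClosure (G.left.residueField a)
  let g : Spec (CommRingCat.of Ω) ⟶ G.left :=
    Spec.map (CommRingCat.ofHom (algebraMap (G.left.residueField a) Ω)) ≫ G.left.fromSpecResidueField a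
  have hg : g (IsLocalRing.closedPoint Ω) = a :=
    (Scheme.Hom.comp_apply _ _ _).trans (Scheme.fromSpecResidueField_apply _ _)
  let T : Over (Spec (CommRingCat.of k)) := Over.mk (g ≫ G.hom)
  let a' : T ⟶ G := Over.homMk g rfl
  have hsub : Subsingleton T.left := inferInstanceAs (Subsingleton (PrimeSpectrum Ω))
  obtain ⟨p₀, hp₀⟩ : ∃ p₀ : T.left, a'.left p₀ = a := ⟨_, hg⟩
  -- `a' ^ n` factors through the neutral component
  obtain ⟨y, hy⟩ : ∃ y : T ⟶ U, y ≫ u = a' ^ n := by
    have h1 : Set.range (a' ^ n).left ⊆ Set.range u.left := by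
      rintro _ ⟨z, rfl⟩
      have hz : z = p₀ := Subsingleton.elim _ _
      subst hz
      rw [hr]
      have h2 : a' ^ n = a' ≫ ((𝟙 G : G ⟶ G) ^ n) := by rw [MonObj.comp_pow, Category.comp_id]
      rw [h2, Over.comp_left, Scheme.Hom.comp_apply, hp₀]
      exact ha
    refine ⟨Over.homMk (IsOpenImmersion.lift u.left (a' ^ n).left h1) ?_, ?_⟩
    · rw [← Over.w u, IsOpenImmersion.lift_fac_assoc]
      exact Over.w _
    · ext1
      exact IsOpenImmersion.lift_fac _ _ _
  have hlft : LocallyOfFiniteType ((𝟙 U : U ⟶ U) ^ n).left := by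
    have : LocallyOfFiniteType (((𝟙 U : U ⟶ U) ^ n).left ≫ U.hom) := by
      rw [Over.w]; infer_instance
    exact locallyOfFiniteType_of_comp _ U.hom
  obtain ⟨b, hb⟩ : ∃ b : T ⟶ U, b ^ n = y := by
    obtain ⟨b, hb⟩ := exists_lift_point ((𝟙 U : U ⟶ U) ^ n).left (Ω := Ω) y.left
    have hbw : b ≫ U.hom = T.hom := by
      rw [← Over.w ((𝟙 U : U ⟶ U) ^ n), ← Category.assoc]
      exact (congrArg (· ≫ U.hom) hb).trans (Over.w y)
    let b1 : T ⟶ U := Over.homMk b hbw
    refine ⟨b1, ?_⟩
    have h2 : b1 ^ n = b1 ≫ ((𝟙 U : U ⟶ U) ^ n) := by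
      rw [MonObj.comp_pow, Category.comp_id]
    rw [h2]
    ext1
    exact hb
  let φ : T ⊗ U ⟶ G := (fst T U ≫ a') * (snd T U ≫ u)
  have hconnT : PreconnectedSpace (T ⊗ U).left := by
    let _ : GrpObj (Over.mk U.hom) := inferInstanceAs (GrpObj U)
    have h2 : GeometricallyIrreducible U.hom := Sga3C.GrpIrr.geometricallyIrreducible_of_connectedSpace U.hom
    have h3 : GeometricallyIrreducible (pullback.fst T.hom U.hom) := inferInstance
    have hne : Nonempty T.left := ⟨p₀⟩
    have h4 : IrreducibleSpace ↥(pullback T.hom U.hom) :=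
      GeometricallyIrreducible.irreducibleSpace_of_subsingleton (pullback.fst T.hom U.hom)
    have h5 : PreconnectedSpace ↥(pullback T.hom U.hom) := inferInstance
    exact h5
  have hrange : _root_.IsPreconnected (Set.range φ.left) := isPreconnected_range φ.left.continuous
  have key : ∀ c : T ⟶ U, (a' * (c ≫ u)).left p₀ ∈ Set.range φ.left := by
    intro c
    refine ⟨(lift (𝟙 T) c).left p₀, ?_⟩
    rw [← Scheme.Hom.comp_apply, ← Over.comp_left, MonObj.comp_mul, ← Category.assoc,
      ← Category.assoc, lift_fst, lift_snd, Category.id_comp]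
  let _ := Hom.commGroup (X := T) (G := G)
  refine ⟨(a' * (b⁻¹ ≫ u)).left p₀, ?_, ?_⟩
  · refine hrange.subset_connectedComponent ?_ (key _)
    have h1 := key 1
    rw [MonObj.one_comp, _root_.mul_one, hp₀] at h1
    exact h1
  · have h1 : (a' * (b⁻¹ ≫ u)) ^ n = 1 := by
      rw [_root_.mul_pow, ← MonObj.pow_comp, _root_.inv_pow, hb, GrpObj.inv_comp, hy, mul_inv_cancel]
    have h2 : (a' * (b⁻¹ ≫ u)) ≫ ((𝟙 G : G ⟶ G) ^ n) = 1 := by
      rw [MonObj.comp_pow, Category.comp_id, h1]
    rw [← Scheme.Hom.comp_apply, ← Over.comp_left, h2]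
    have h3 : (1 : T ⟶ G) = toUnit T ≫ η[G] := rfl
    rw [h3, Over.comp_left, Scheme.Hom.comp_apply]
    have h4 : Subsingleton (𝟙_ (Over (Spec (CommRingCat.of k)))).left :=
      inferInstanceAs (Subsingleton (PrimeSpectrum k))
    exact congrArg _ (Subsingleton.elim _ _)

/-- Over any base: every component `C` of a fibre with `n C ⊆ G_s⁰` contains a point of the kernel
of `[n]`. -/
theorem exists_torsion_point_fibre {S : Scheme.{u}} (A : Over S) [GrpObj A] [IsCommMonObj A]
    [Smooth A.hom] [QuasiCompact A.hom]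
    (hA : SGA7.FibresUnipotentRankZero A) (n : ℕ) (hn : 0 < n) (s : S) (a : A.left)
    (ha : A.hom a = s)
    (hΦ : ((𝟙 A : A ⟶ A) ^ n).left a ∈
      connectedComponentIn (A.hom ⁻¹' {s}) ((η[A] : 𝟙_ (Over S) ⟶ A).left s)) :
    ∃ x : A.left, x ∈ connectedComponentIn (A.hom ⁻¹' {s}) a ∧
      ((𝟙 A : A ⟶ A) ^ n).left x = (η[A] : 𝟙_ (Over S) ⟶ A).left s := by
  let q : Spec (S.residueField s) ⟶ S := S.fromSpecResidueField s
  let e : (Red.bc q A).left ⟶ A.left := pullback.fst A.hom q
  have he : Topology.IsEmbedding e := e.isEmbedding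
  have hre : Set.range e = A.hom ⁻¹' {s} := by
    change Set.range (pullback.fst A.hom q) = _
    rw [Scheme.Pullback.range_fst, Scheme.range_fromSpecResidueField]
  have hcc : ∀ b : (Red.bc q A).left, connectedComponentIn (A.hom ⁻¹' {s}) (e b) =
      e '' connectedComponent b := fun b => Ega4fib.H141.TopConn.connectedComponentIn_eq_image he hre b
  have hpow : (Over.pullback q).map ((𝟙 A : A ⟶ A) ^ n) =
      (𝟙 (Red.bc q A) : Red.bc q A ⟶ Red.bc q A) ^ n := K567.SemiAb.map_one_pow q A n
  have hep : ∀ b : (Red.bc q A).left,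
      e (((𝟙 (Red.bc q A) : Red.bc q A ⟶ Red.bc q A) ^ n).left b) =
        ((𝟙 A : A ⟶ A) ^ n).left (e b) := by
    intro b
    have h1 := Sga7.H760.FibreFlat.fibreHom_fst ((𝟙 A : A ⟶ A) ^ n) s
    have h2 : SGA7.fibreHom s ((𝟙 A : A ⟶ A) ^ n) = (𝟙 (Red.bc q A) : Red.bc q A ⟶ Red.bc q A) ^ n :=
      hpow
    rw [h2] at h1
    rw [← Scheme.Hom.comp_apply, ← Scheme.Hom.comp_apply]
    exact congrArg (fun f : (Red.bc q A).left ⟶ A.left => f b) h1
  have heη : e (Books.AlgPts.pt η[Red.bc q A]) = (η[A] : 𝟙_ (Over S) ⟶ A).left s := by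
    have h4 := congr($(Sga7.H742.PowUnram.unit_bc q A) (IsLocalRing.closedPoint _))
    refine (Scheme.Hom.comp_apply _ _ _).symm.trans (h4.trans ?_)
    refine (Scheme.Hom.comp_apply _ _ _).trans ?_
    exact congrArg _ (Scheme.fromSpecResidueField_apply s _)
  obtain ⟨a', rfl⟩ : ∃ a' : (Red.bc q A).left, e a' = a := by
    have h1 : a ∈ Set.range e := by rw [hre]; exact ha
    exact h1
  have ha' : ((𝟙 (Red.bc q A) : Red.bc q A ⟶ Red.bc q A) ^ n).left a' ∈
      connectedComponent (Books.AlgPts.pt η[Red.bc q A]) := by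
    rw [← heη, hcc, ← hep] at hΦ
    obtain ⟨c, hc, hc'⟩ := hΦ
    rwa [← he.injective hc']
  have hBsm : Smooth (Red.bc q A).hom := inferInstanceAs (Smooth (pullback.snd A.hom q))
  have hBqc : QuasiCompact (Red.bc q A).hom := inferInstanceAs (QuasiCompact (pullback.snd A.hom q))
  obtain ⟨x', hx'1, hx'2⟩ := exists_torsion_point (k := S.residueField s) (Red.bc q A) (rankZero_bc q A hA) n hn a' ha'
  refine ⟨e x', ?_, ((hep x').symm.trans (congrArg e hx'2)).trans heη⟩
  rw [hcc]
  exact ⟨x', hx'1, rfl⟩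

end Torsion

section Zmt

/-- Zariski's main theorem for a section over a nonempty open subscheme of an integral normal
scheme `X`: for `w` in the closure of the section with `b w` a closed point of the local scheme `X`,
the section extends to a section through `w`. -/
theorem exists_section {X W : Scheme.{u}} [IsIntegral X]
    (hX : ∀ x : X, IsIntegrallyClosed (X.presheaf.stalk x)) (b : W ⟶ X) [LocallyQuasiFinite b]
    [LocallyOfFiniteType b] [QuasiCompact b] [IsSeparated b] (U : X.Opens) [Nonempty U]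
    [QuasiCompact U.ι] (j : (U : Scheme.{u}) ⟶ W)
    (hj : j ≫ b = U.ι) (w : W) (hw : w ∈ closure (Set.range j)) (hloc : ∀ x : X, x ⤳ b w) :
    ∃ s : X ⟶ W, s ≫ b = 𝟙 X ∧ s (b w) = w := by
  have hU : IsIntegral (U : Scheme.{u}) := isIntegral_of_isOpenImmersion U.ι
  have hqc : QuasiCompact j := by
    have : QuasiCompact (j ≫ b) := by rw [hj]; infer_instance
    exact QuasiCompact.of_comp j b
  have hI : IsIntegral j.image := CycB.ImageInt.isIntegral_image j
  set f : j.image ⟶ X := j.imageι ≫ b with hf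
  have hjf : j.toImage ≫ f = U.ι := by rw [hf, Scheme.Hom.toImage_imageι_assoc, hj]
  have h1 : j.toImage (genericPoint (U : Scheme.{u})) = genericPoint j.image :=
    CycB.ImageInt.toImage_genericPoint j
  have h2 : U.ι (genericPoint (U : Scheme.{u})) = genericPoint X :=
    genericPoint_eq_of_isOpenImmersion U.ι
  have hgen : f (genericPoint j.image) = genericPoint X := by
    have h3 : f (j.toImage (genericPoint (U : Scheme.{u}))) =
        (j.toImage ≫ f) (genericPoint (U : Scheme.{u})) := rfl
    rw [← h1, ← h2, h3, hjf]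
  have hbir : IsIso (f.stalkMap (genericPoint j.image)) := by
    rw [← h1]
    have h4 : IsIso ((j.toImage ≫ f).stalkMap (genericPoint (U : Scheme.{u}))) := by
      have : IsOpenImmersion (j.toImage ≫ f) := by rw [hjf]; infer_instance
      infer_instance
    rw [Scheme.Hom.stalkMap_comp] at h4
    -- the second map is injective
    have hfield : IsField (j.image.presheaf.stalk (j.toImage (genericPoint (U : Scheme.{u})))) := by
      rw [h1]
      exact Field.toIsField j.image.functionField
    let _ := hfield.toField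
    have hinj : Function.Injective (j.toImage.stalkMap (genericPoint (U : Scheme.{u}))).hom :=
      (j.toImage.stalkMap (genericPoint (U : Scheme.{u}))).hom.injective
    have hb := (ConcreteCategory.isIso_iff_bijective _).1 h4
    refine (ConcreteCategory.isIso_iff_bijective _).2 ⟨fun x y hxy => ?_, fun z => ?_⟩
    · exact hb.1 (congrArg (j.toImage.stalkMap (genericPoint (U : Scheme.{u}))).hom hxy)
    · obtain ⟨x, hx⟩ := hb.2 ((j.toImage.stalkMap (genericPoint (U : Scheme.{u}))).hom z)
      exact ⟨x, hinj hx⟩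
  have hop : IsOpenImmersion f := Ega3B.NormalBirational.isOpenImmersion_of_birational hX f hgen hbir
  have hr : w ∈ Set.range j.imageι := by
    have h1 : IsClosed (Set.range j.imageι) := j.imageι.isClosedEmbedding.isClosed_range
    have h2 : Set.range j ⊆ Set.range j.imageι := by
      rintro _ ⟨x, rfl⟩
      refine ⟨j.toImage x, ?_⟩
      have := Scheme.Hom.comp_apply j.toImage j.imageι x
      rw [Scheme.Hom.toImage_imageι] at this
      exact this.symm
    exact closure_minimal h2 h1 hw
  obtain ⟨w', rfl⟩ := hr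
  have hsurj : Function.Surjective f := by
    intro x
    have h3 : f w' ∈ f.opensRange := ⟨w', rfl⟩
    have h4 : f w' = b (j.imageι w') := Scheme.Hom.comp_apply _ _ _
    have h5 : x ⤳ f w' := h4 ▸ hloc x
    have h6 : x ∈ (f.opensRange : Set X) := h5.mem_open f.opensRange.2 h3
    exact h6
  have hsurj' : Surjective f := ⟨hsurj⟩
  have hiso : IsIso f := by
    exact (isIso_iff_isOpenImmersion_and_epi_base f).2 ⟨hop, (TopCat.epi_iff_surjective _).2 hsurj⟩
  refine ⟨inv f ≫ j.imageι, ?_, ?_⟩
  · rw [Category.assoc, ← hf, IsIso.inv_hom_id]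
  · have h4 : b (j.imageι w') = f w' := (Scheme.Hom.comp_apply _ _ _).symm
    rw [h4, ← Scheme.Hom.comp_apply, IsIso.hom_inv_id_assoc]

end Zmt

end K267.SemiPow
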