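import Groth.Agent.Hensel.K144.FinExist
import Groth.Agent.GrpSch.K267.SemiPow
import Groth.Agent.Sga3C.ClosedSub
import Groth.Agent.Sga3C.LocClosedGrp

/-!
# Finite parts over a henselian local ring

`R` a local ring, `S = Spec R`.

* `Clo T`: every point of `T` specialises to a point over the closed point;
* `IsFinPart j`: `j : F ⟶ G` is open and closed, `F` is finite over `S` and contains the closed
  fibre of `G`;
* `exists_isFinPart` (`R` henselian, `G` quasi-finite and separated), `IsFinPart.exists_lift`,
  `IsFinPart.exists_grpObj`, `IsFinPart.bc`, `IsFinPart.isIso_bc`.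
* `IsTors A N f`: `f : F ⟶ A` is the finite part of the kernel of `[N]` on a commutative
  `S`-group scheme `A`; existence for semi-stable `A`.
-/

set_option autoImplicit false

universe u

open CategoryTheory CategoryTheory.Limits MonoidalCategory CartesianMonoidalCategory MonObj GrpObj
  AlgebraicGeometry

namespace K267.FinPart

open Groth.Agent Groth.Agent.Sga3B.KerGrp

variable {R : Type u} [CommRing R] [IsLocalRing R]

/-- Every point specialises to a point of the closed fibre. -/
def Clo (T : Over (Spec (CommRingCat.of R))) : Prop :=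
  ∀ t : T.left, ∃ t' : T.left, t ⤳ t' ∧ T.hom t' = IsLocalRing.closedPoint R

theorem clo_of_universallyClosed (T : Over (Spec (CommRingCat.of R))) [UniversallyClosed T.hom] :
    Clo T := by
  intro t
  have h1 : IsClosed (T.hom '' closure {t}) := T.hom.isClosedMap _ isClosed_closure
  have h2 : IsLocalRing.closedPoint R ∈ T.hom '' closure {t} :=
    (IsLocalRing.specializes_closedPoint (T.hom t)).mem_closed h1 ⟨t, subset_closure rfl, rfl⟩
  obtain ⟨t', h3, h4⟩ := h2
  exact ⟨t', specializes_iff_mem_closure.mpr h3, h4⟩

theorem clo_of_forall (T : Over (Spec (CommRingCat.of R)))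
    (h : ∀ t : T.left, T.hom t = IsLocalRing.closedPoint R) : Clo T := fun t => ⟨t, specializes_rfl, h t⟩

/-- `j : F ⟶ G` is the finite part of `G`. -/
structure IsFinPart {F G : Over (Spec (CommRingCat.of R))} (j : F ⟶ G) : Prop where
  op : IsOpenImmersion j.left
  cl : IsClosedImmersion j.left
  fin : IsFinite F.hom
  mem : ∀ x : G.left, G.hom x = IsLocalRing.closedPoint R → x ∈ Set.range j.left

theorem exists_isFinPart {R : Type u} [CommRing R] [HenselianLocalRing R]
    (G : Over (Spec (CommRingCat.of R))) [LocallyQuasiFinite G.hom] [LocallyOfFiniteType G.hom]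
    [QuasiCompact G.hom] [IsSeparated G.hom] :
    ∃ (F : Over (Spec (CommRingCat.of R))) (j : F ⟶ G), IsFinPart j := by
  obtain ⟨W, ⟨h1, h2, h3⟩, -⟩ := K144.FinExist.existsUnique_finite_part R G.hom
  refine ⟨Over.mk (W.ι ≫ G.hom), Over.homMk W.ι rfl, ?_, ?_, h2, ?_⟩
  · exact inferInstanceAs (IsOpenImmersion W.ι)
  · change IsClosedImmersion W.ι
    have h4 : IsClosed (Set.range W.ι) := by rw [Scheme.Opens.range_ι]; exact h1
    exact IsClosedImmersion.of_isPreimmersion _ h4
  · intro x hx
    change x ∈ Set.range W.ι
    rw [Scheme.Opens.range_ι]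
    exact h3 x hx

variable {F G : Over (Spec (CommRingCat.of R))} {j : F ⟶ G}

namespace IsFinPart

theorem mono (hj : IsFinPart j) : Mono j := by
  have := hj.op
  exact Functor.mono_of_mono_map (Over.forget _) (inferInstanceAs (Mono j.left))

theorem exists_lift (hj : IsFinPart j) {X : Over (Spec (CommRingCat.of R))} (hX : Clo X)
    (g : X ⟶ G) : ∃ g' : X ⟶ F, g' ≫ j = g := by
  have := hj.op
  have h1 : Set.range g.left ⊆ Set.range j.left := by
    rintro _ ⟨x, rfl⟩
    obtain ⟨y, hxy, hy⟩ := hX x
    have h2 : g.left y ∈ Set.range j.left := by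
      refine hj.mem _ ?_
      rw [← hy]
      exact (Scheme.Hom.comp_apply _ _ _).symm.trans (by rw [Over.w])
    have h3 : g.left x ⤳ g.left y := hxy.map g.left.continuous
    exact h3.mem_open j.left.isOpenEmbedding.isOpen_range h2
  refine ⟨Over.homMk (IsOpenImmersion.lift j.left g.left h1) ?_, ?_⟩
  · rw [← Over.w j, IsOpenImmersion.lift_fac_assoc]
    exact Over.w _
  · ext1
    exact IsOpenImmersion.lift_fac _ _ _

theorem exists_grpObj (hj : IsFinPart j) [GrpObj G] : ∃ _ : GrpObj F, IsMonHom j := by
  have h0 := hj.mono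
  have h1 := hj.fin
  have h2 : IsProper (F ⊗ F).hom := by
    rw [Over.tensorObj_hom]
    infer_instance
  refine Sga3C.ClosedSub.exists_grpObj_of_mono j ?_ ?_ ?_
  · have h3 : IsProper (𝟙_ (Over (Spec (CommRingCat.of R)))).hom := by
      rw [Over.tensorUnit_hom]
      have h4 : IsFinite (𝟙 (Spec (CommRingCat.of R))) := inferInstance
      infer_instance
    exact hj.exists_lift (clo_of_universallyClosed _) η[G]
  · exact hj.exists_lift (clo_of_universallyClosed _) _
  · exact hj.exists_lift (clo_of_universallyClosed _) _

/-- Base change of a finite part along a local morphism. -/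
theorem bc (hj : IsFinPart j) {R' : Type u} [CommRing R'] [IsLocalRing R']
    (f : Spec (CommRingCat.of R') ⟶ Spec (CommRingCat.of R))
    (hf : f (IsLocalRing.closedPoint R') = IsLocalRing.closedPoint R) :
    IsFinPart ((Over.pullback f).map j) := by
  have h1 := hj.op
  have h2 := hj.cl
  have h3 := hj.fin
  have sq := Sga3C.ActBase.isPullback_map_left f j
  refine ⟨MorphismProperty.of_isPullback (P := @IsOpenImmersion) sq.flip inferInstance,
    MorphismProperty.of_isPullback (P := @IsClosedImmersion) sq.flip inferInstance,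
    inferInstanceAs (IsFinite (pullback.snd F.hom f)), ?_⟩
  intro x hx
  have h4 : pullback.fst G.hom f x ∈ Set.range j.left := by
    refine hj.mem _ ?_
    rw [← Scheme.Hom.comp_apply, pullback.condition, Scheme.Hom.comp_apply]
    exact (congrArg f hx).trans hf
  obtain ⟨y, hy⟩ := h4
  obtain ⟨z, hz, -⟩ := Sga3C.LocClosedGrp.exists_preimage_of_isPullback sq x y hy.symm
  exact ⟨z, hz⟩

/-- A finite part is an isomorphism over schemes concentrated over the closed point. -/
theorem isIso_bc (hj : IsFinPart j) {S' : Scheme.{u}} (f : S' ⟶ Spec (CommRingCat.of R))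
    (hf : ∀ s, f s = IsLocalRing.closedPoint R) : IsIso ((Over.pullback f).map j) := by
  have h1 := hj.op
  have sq := Sga3C.ActBase.isPullback_map_left f j
  have h2 : IsOpenImmersion ((Over.pullback f).map j).left :=
    MorphismProperty.of_isPullback (P := @IsOpenImmersion) sq.flip inferInstance
  have h3 : Surjective ((Over.pullback f).map j).left := by
    refine ⟨fun x => ?_⟩
    have h4 : pullback.fst G.hom f x ∈ Set.range j.left := by
      refine hj.mem _ ?_
      rw [← Scheme.Hom.comp_apply, pullback.condition, Scheme.Hom.comp_apply]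
      exact hf _
    obtain ⟨y, hy⟩ := h4
    obtain ⟨z, hz, -⟩ := Sga3C.LocClosedGrp.exists_preimage_of_isPullback sq x y hy.symm
    exact ⟨z, hz⟩
  have h5 : IsIso ((Over.pullback f).map j).left := by
    refine isIso_of_isOpenImmersion_of_opensRange_eq_top _ ?_
    ext x
    simpa using h3.surj x
  have h6 : IsIso ((Over.forget S').map ((Over.pullback f).map j)) := h5
  exact isIso_of_reflects_iso _ (Over.forget S')

end IsFinPart

end K267.FinPart
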