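import Groth.Agent.Grpsch.MulFlat
import Groth.Agent.S0386
import Mathlib.AlgebraicGeometry.Geometrically.Reduced

/-!
# Surjective homomorphisms onto (geometrically) reduced group schemes over a field are flat

No quasi-compactness of the homomorphism is needed.
-/

set_option autoImplicit false

open CategoryTheory Limits MonoidalCategory CartesianMonoidalCategory MonObj AlgebraicGeometry

namespace K267.FlatHom

open Groth.Agent.Grpsch.AbRing Groth.Agent.Grpsch.AbTangent Groth.Agent.Grpsch.AbStalk
  Groth.Agent.Grpsch.AbEtale Groth.Agent.Grpsch.AbBC Groth.Agent.Grpsch.MulFlat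

universe u

variable {K : Type u} [Field K]

/-- A scheme has a maximal point. -/
lemma exists_closure_mem_irreducibleComponents (X : Scheme.{u}) [Nonempty X] :
    ∃ x : X, closure {x} ∈ irreducibleComponents X := by
  obtain ⟨y⟩ := (inferInstance : Nonempty X)
  let Z : Set X := irreducibleComponent y
  have hZ : Z ∈ irreducibleComponents X := irreducibleComponent_mem_irreducibleComponents y
  have hirr : IsIrreducible Z := isIrreducible_irreducibleComponent
  refine ⟨hirr.genericPoint, ?_⟩
  have h1 : closure {hirr.genericPoint} = Z := by
    have := hirr.isGenericPoint_genericPoint isClosed_irreducibleComponent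
    exact this
  rw [h1]
  exact hZ

/-- Over an algebraically closed field, a surjective homomorphism of group schemes locally of finite
type with reduced target is flat. -/
theorem flat_of_isAlgClosed [IsAlgClosed K] {A B : Over (Spec (.of K))} [GrpObj A] [GrpObj B]
    (f : A ⟶ B) [IsMonHom f] [LocallyOfFiniteType A.hom] [LocallyOfFiniteType B.hom]
    [IsReduced B.left] [Surjective f.left] : Flat f.left := by
  have : JacobsonSpace A.left := LocallyOfFiniteType.jacobsonSpace A.hom
  have hN : IsLocallyNoetherian B.left := LocallyOfFiniteType.isLocallyNoetherian B.hom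
  have hft : LocallyOfFiniteType f.left := by
    have : LocallyOfFiniteType (f.left ≫ B.hom) := by rw [Over.w]; infer_instance
    exact locallyOfFiniteType_of_comp f.left B.hom
  have hfp : LocallyOfFinitePresentation f.left := inferInstance
  refine flat_of_stalkMap _ (stalkMap_of_origin RingHom.Flat.respectsIso f ?_)
  have hne : Nonempty B.left := ⟨pt η[B]⟩
  obtain ⟨y, hy⟩ := exists_closure_mem_irreducibleComponents B.left
  obtain ⟨x₀, rfl⟩ := f.left.surjective y
  have hfield : IsField (B.left.presheaf.stalk (f.left x₀)) :=
    isField_stalk_of_closure_mem_irreducibleComponents _ _ hy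
  have hx₀ : (f.left.stalkMap x₀).hom.Flat := by
    let _ := hfield.toField
    let _ := (f.left.stalkMap x₀).hom.toAlgebra
    change Module.Flat (B.left.presheaf.stalk (f.left x₀)) (A.left.presheaf.stalk x₀)
    infer_instance
  have hop := Groth.Agent.S0386.result f.left
  obtain ⟨x, hxU, hx⟩ := nonempty_inter_closedPoints (X := A.left)
    (Z := {x : A.left | (f.left.stalkMap x).hom.Flat}) ⟨x₀, hx₀⟩
    hop.isLocallyClosed
  have h1 : (f.left.stalkMap x).hom.Flat := hxU
  have hx' : IsClosed {x} := hx
  let z : 𝟙_ (Over (Spec (.of K))) ⟶ A :=
    Over.homMk (pointOfClosedPoint A.hom x hx') (pointOfClosedPoint_comp A.hom x hx')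
  have hz : (transl z).left (pt η[A]) = x := by
    have h1 := congr(($(eta_transl z)).left (IsLocalRing.closedPoint K))
    exact h1.trans (pointOfClosedPoint_apply A.hom x hx' _)
  rw [← hz] at h1
  exact (stalkMap_iff_of_iso RingHom.Flat.respectsIso (transl z).left (transl (z ≫ f)).left
    congr(($(transl_comp f z)).left) (pt η[A])).mp h1

section

attribute [local instance] Functor.grpObjObj

/-- Over a field, a surjective homomorphism of group schemes locally of finite type with
geometrically reduced target is flat. -/
theorem flat_of_geometricallyReduced {A B : Over (Spec (.of K))} [GrpObj A] [GrpObj B]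
    (f : A ⟶ B) [IsMonHom f] [LocallyOfFiniteType A.hom] [LocallyOfFiniteType B.hom]
    [GeometricallyReduced B.hom] [Surjective f.left] : Flat f.left := by
  have := flat_descends.{u}
  apply of_pullback_map (P := @Flat) (L := AlgebraicClosure K)
  have hpb := isPullback_pullback_map (Spec.map (CommRingCat.ofHom
    (algebraMap K (AlgebraicClosure K)))) f
  have hsurj : Surjective ((Over.pullback (Spec.map (CommRingCat.ofHom
    (algebraMap K (AlgebraicClosure K))))).map f).left :=
    MorphismProperty.of_isPullback hpb.flip ‹_›
  have h1 : LocallyOfFiniteType ((Over.pullback (Spec.map (CommRingCat.ofHom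
      (algebraMap K (AlgebraicClosure K))))).obj A).hom := by
    dsimp; infer_instance
  have h2 : LocallyOfFiniteType ((Over.pullback (Spec.map (CommRingCat.ofHom
      (algebraMap K (AlgebraicClosure K))))).obj B).hom := by
    dsimp; infer_instance
  have h3 : GeometricallyReduced ((Over.pullback (Spec.map (CommRingCat.ofHom
      (algebraMap K (AlgebraicClosure K))))).obj B).hom := by
    dsimp; infer_instance
  have h4 : IsReduced ((Over.pullback (Spec.map (CommRingCat.ofHom
      (algebraMap K (AlgebraicClosure K))))).obj B).left :=
    GeometricallyReduced.isReduced_of_flat_of_isLocallyNoetherian ((Over.pullback (Spec.map (CommRingCat.ofHom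
      (algebraMap K (AlgebraicClosure K))))).obj B).hom
  exact flat_of_isAlgClosed _

end

end K267.FlatHom
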