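import Groth.Agent.S0522
import Mathlib.RingTheory.Spectrum.Prime.Homeomorph
import Mathlib.RingTheory.LocalRing.ResidueField.Basic
import Mathlib.RingTheory.Artinian.Ring
import Mathlib.FieldTheory.IsSepClosed

/-!
# Idempotents of finite algebras over a strictly henselian ring

`R` henselian local with separably closed residue field, `C` a finite `R`-algebra, `κ` any field with
a local homomorphism `R → κ`.  Then `c ↦ 1 ⊗ c` is a bijection from the idempotents of `C` to those
of `κ ⊗ C`.
-/

set_option autoImplicit false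

universe u

open TensorProduct IsLocalRing

namespace K267.IdemLift

section Inj

variable {R : Type u} [CommRing R] [IsLocalRing R] [IsSepClosed (ResidueField R)]
  {κ : Type u} [Field κ] [Algebra R κ] (hφ : RingHom.ker (algebraMap R κ) = maximalIdeal R)

include hφ

omit [IsSepClosed (ResidueField R)] in
theorem isLocalHom : IsLocalHom (algebraMap R κ) := by
  refine ⟨fun a ha => ?_⟩
  by_contra h
  have h1 : a ∈ RingHom.ker (algebraMap R κ) := by rw [hφ]; exact h
  rw [RingHom.mem_ker] at h1
  rw [h1] at ha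
  exact not_isUnit_zero ha

/-- `κ ⊗ K` has exactly one prime ideal for `K` a domain finite over the residue field. -/
theorem subsingleton_primeSpectrum (K : Type u) [CommRing K] [IsDomain K] [Algebra R K]
    [Module.Finite R K] (hK : ∀ r ∈ maximalIdeal R, algebraMap R K r = 0) :
    Subsingleton (PrimeSpectrum (κ ⊗[R] K)) ∧ Nontrivial (κ ⊗[R] K) := by
  have i0 := isLocalHom hφ
  let aκ : Algebra (ResidueField R) κ := (ResidueField.lift (algebraMap R κ)).toAlgebra
  have hK' : ∀ r ∈ maximalIdeal R, (algebraMap R K) r = 0 := hK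
  let aK : Algebra (ResidueField R) K := (Ideal.Quotient.lift (maximalIdeal R) (algebraMap R K) hK').toAlgebra
  have t1 : IsScalarTower R (ResidueField R) κ := IsScalarTower.of_algebraMap_eq fun r => rfl
  have t2 : IsScalarTower R (ResidueField R) K := IsScalarTower.of_algebraMap_eq fun r => rfl
  have f1 : Module.Finite (ResidueField R) K := Module.Finite.of_restrictScalars_finite R _ _
  have f2 : Algebra.IsIntegral (ResidueField R) K := Algebra.IsIntegral.of_finite _ _
  have hfield : IsField K := isField_of_isIntegral_of_isField' (Field.toIsField (ResidueField R))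
  let fK : Field K := hfield.toField
  have f3 : Algebra.IsAlgebraic (ResidueField R) K := Algebra.IsIntegral.isAlgebraic
  have f4 : IsPurelyInseparable (ResidueField R) K := inferInstance
  have h1 := PrimeSpectrum.isHomeomorph_comap_of_isPurelyInseparable (ResidueField R) K κ
  have h2 : Subsingleton (PrimeSpectrum (κ ⊗[ResidueField R] K)) := by
    refine ⟨fun a b => h1.injective (Subsingleton.elim _ _)⟩
  have h3 : TensorProduct.CompatibleSMul R (ResidueField R) κ K := by
    refine ⟨fun a x y => ?_⟩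
    obtain ⟨r, rfl⟩ := residue_surjective a
    have e1 : (residue R r) • x = r • x := by
      rw [Algebra.smul_def, Algebra.smul_def]; rfl
    have e2 : (residue R r) • y = r • y := by
      rw [Algebra.smul_def, Algebra.smul_def]; rfl
    rw [e1, e2, TensorProduct.smul_tmul]
  let e := Algebra.TensorProduct.equivOfCompatibleSMul R (ResidueField R) (ResidueField R) κ K
  exact ⟨(PrimeSpectrum.comapEquiv e.toRingEquiv).symm.injective.subsingleton,
    e.injective.nontrivial⟩

variable {C : Type u} [CommRing C] [Algebra R C] [Module.Finite R C]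

omit [IsSepClosed (ResidueField R)] [Module.Finite R C] in
theorem includeRight_algebraMap {r : R} (hr : r ∈ maximalIdeal R) :
    (Algebra.TensorProduct.includeRight : C →ₐ[R] κ ⊗[R] C) (algebraMap R C r) = 0 := by
  rw [AlgHom.commutes, Algebra.TensorProduct.algebraMap_apply]
  rw [← hφ, RingHom.mem_ker] at hr
  rw [hr, zero_tmul]

/-- Primes of `κ ⊗ C` are determined by their contractions to `C`. -/
theorem comap_injective : Function.Injective (PrimeSpectrum.comap
    ((Algebra.TensorProduct.includeRight : C →ₐ[R] κ ⊗[R] C) : C →+* κ ⊗[R] C)) := by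
  intro P P' h
  let ι : C →+* κ ⊗[R] C := ((Algebra.TensorProduct.includeRight : C →ₐ[R] κ ⊗[R] C) : C →+* κ ⊗[R] C)
  let q : Ideal C := (PrimeSpectrum.comap ι P).asIdeal
  have hq : q.IsPrime := (PrimeSpectrum.comap ι P).isPrime
  obtain ⟨hs, -⟩ := subsingleton_primeSpectrum hφ (C ⧸ q) (fun r hr => by
    change Ideal.Quotient.mk q (algebraMap R C r) = 0
    rw [Ideal.Quotient.eq_zero_iff_mem]
    change ι (algebraMap R C r) ∈ P.asIdeal
    have : ι (algebraMap R C r) = 0 := includeRight_algebraMap hφ hr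
    rw [this]
    exact zero_mem _)
  let f : κ ⊗[R] C →ₐ[R] κ ⊗[R] (C ⧸ q) :=
    Algebra.TensorProduct.map (AlgHom.id R κ) (Ideal.Quotient.mkₐ R q)
  have hf : Function.Surjective f :=
    TensorProduct.map_surjective Function.surjective_id (Ideal.Quotient.mkₐ_surjective R q)
  have hker : RingHom.ker f = q.map ι := by
    have := Algebra.TensorProduct.lTensor_ker (A := κ) (Ideal.Quotient.mkₐ R q)
      (Ideal.Quotient.mkₐ_surjective R q)
    have h2 : RingHom.ker (Ideal.Quotient.mkₐ R q) = q := Ideal.Quotient.mkₐ_ker R q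
    rw [h2] at this
    exact this
  have key : ∀ Q : PrimeSpectrum (κ ⊗[R] C), PrimeSpectrum.comap ι Q = PrimeSpectrum.comap ι P →
      ∃ Q' : PrimeSpectrum (κ ⊗[R] (C ⧸ q)), PrimeSpectrum.comap f.toRingHom Q' = Q := by
    intro Q hQ
    have h1 : Q ∈ PrimeSpectrum.zeroLocus (RingHom.ker f.toRingHom : Set (κ ⊗[R] C)) := by
      rw [PrimeSpectrum.mem_zeroLocus]
      change RingHom.ker f ≤ Q.asIdeal
      rw [hker, Ideal.map_le_iff_le_comap]
      have h2 : Q.asIdeal.comap ι = q := congrArg PrimeSpectrum.asIdeal hQ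
      rw [h2]
    have h3 := range_comap_of_surjective _ f.toRingHom hf
    rw [← h3] at h1
    exact h1
  obtain ⟨Q, hQ⟩ := key P rfl
  obtain ⟨Q', hQ'⟩ := key P' h.symm
  rw [← hQ, ← hQ', Subsingleton.elim Q Q']

end Inj

section Lift

variable {R : Type u} [CommRing R] [HenselianLocalRing R] [IsSepClosed (ResidueField R)]
  {κ : Type u} [Field κ] [Algebra R κ] (hφ : RingHom.ker (algebraMap R κ) = maximalIdeal R)
  {C : Type u} [CommRing C] [Algebra R C] [Module.Finite R C]

include hφ

/-- Idempotents of `C` with the same image in `κ ⊗ C` are equal. -/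
theorem eq_of_includeRight_eq {c c' : C} (hc : IsIdempotentElem c) (hc' : IsIdempotentElem c')
    (h : (1 : κ) ⊗ₜ[R] c = (1 : κ) ⊗ₜ[R] c') : c = c' := by
  refine Groth.Agent.Hensel.PairIdem.eq_of_isIdempotentElem_of_sub_mem (Ideal.jacobson ⊥) le_rfl
    c c' hc hc' ?_
  rw [Ideal.jacobson, Ideal.mem_sInf]
  rintro q ⟨-, hq⟩
  have hmq : (maximalIdeal R).map (algebraMap R C) ≤ q :=
    (Groth.Agent.Hensel.PairIdem.map_le_jacobson_bot (maximalIdeal R)
      (IsLocalRing.jacobson_eq_maximalIdeal ⊥ bot_ne_top).ge).trans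
      (sInf_le ⟨bot_le, hq⟩)
  obtain ⟨-, hn⟩ := subsingleton_primeSpectrum hφ (C ⧸ q) (fun r hr => by
    change Ideal.Quotient.mk q (algebraMap R C r) = 0
    rw [Ideal.Quotient.eq_zero_iff_mem]
    exact hmq (Ideal.mem_map_of_mem _ hr))
  have h1 : (1 : κ) ⊗ₜ[R] (Ideal.Quotient.mk q c) = (1 : κ) ⊗ₜ[R] (Ideal.Quotient.mk q c') := by
    have := congrArg (Algebra.TensorProduct.map (AlgHom.id R κ) (Ideal.Quotient.mkₐ R q)) h
    simpa using this
  rw [← Ideal.Quotient.eq_zero_iff_mem, map_sub, sub_eq_zero]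
  have hne : (0 : C ⧸ q) = 1 → False := fun h01 => by
    have : Subsingleton (κ ⊗[R] (C ⧸ q)) := by
      have := subsingleton_of_zero_eq_one h01
      infer_instance
    exact not_subsingleton (κ ⊗[R] (C ⧸ q)) this
  have hne' : (1 : κ) ⊗ₜ[R] (1 : C ⧸ q) = 0 → False := fun h01 => one_ne_zero (α := κ ⊗[R] (C ⧸ q)) h01
  rcases IsIdempotentElem.iff_eq_zero_or_one.mp (hc.map (Ideal.Quotient.mk q)) with h2 | h2 <;>
  rcases IsIdempotentElem.iff_eq_zero_or_one.mp (hc'.map (Ideal.Quotient.mk q)) with h3 | h3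
  · rw [h2, h3]
  · rw [h2, h3, tmul_zero] at h1
    exact (hne' h1.symm).elim
  · rw [h2, h3, tmul_zero] at h1
    exact (hne' h1).elim
  · rw [h2, h3]

/-- Every idempotent of `κ ⊗ C` comes from an idempotent of `C`. -/
theorem exists_idem {e : κ ⊗[R] C} (he : IsIdempotentElem e) :
    ∃ c : C, IsIdempotentElem c ∧ (1 : κ) ⊗ₜ[R] c = e := by
  let ι : C →+* κ ⊗[R] C :=
    ((Algebra.TensorProduct.includeRight : C →ₐ[R] κ ⊗[R] C) : C →+* κ ⊗[R] C)
  let J : Ideal C := (maximalIdeal R).map (algebraMap R C)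
  have hJ : ∀ P : PrimeSpectrum (κ ⊗[R] C), J ≤ (PrimeSpectrum.comap ι P).asIdeal := by
    intro P
    rw [Ideal.map_le_iff_le_comap]
    intro r hr
    change ι (algebraMap R C r) ∈ P.asIdeal
    have : ι (algebraMap R C r) = 0 := includeRight_algebraMap hφ hr
    rw [this]
    exact zero_mem _
  have hfin : Module.Finite (R ⧸ maximalIdeal R) (C ⧸ (maximalIdeal R).map (algebraMap R C)) :=
    Module.Finite.of_restrictScalars_finite R _ _
  have hart : IsArtinianRing (C ⧸ J) := by
    let _ : Field (R ⧸ maximalIdeal R) := Ideal.Quotient.field _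
    exact IsArtinianRing.of_finite (R ⧸ maximalIdeal R) (C ⧸ J)
  have hdisc : DiscreteTopology (PrimeSpectrum (C ⧸ J)) := inferInstance
  let E : Set (PrimeSpectrum (C ⧸ J)) := {q | ∃ P : PrimeSpectrum (κ ⊗[R] C), e ∉ P.asIdeal ∧
    PrimeSpectrum.comap ι P = PrimeSpectrum.comap (Ideal.Quotient.mk J) q}
  obtain ⟨cb, hcb, hE⟩ := PrimeSpectrum.exists_idempotent_basicOpen_eq_of_isClopen
    (isClopen_discrete E)
  obtain ⟨c, hc, hcc⟩ := (Groth.Agent.S0522.bijOn_of_henselianRing R (maximalIdeal R) inferInstance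
    C inferInstance).surjOn hcb
  refine ⟨c, hc, ?_⟩
  have hc1 : IsIdempotentElem (ι c) := hc.map ι
  refine PrimeSpectrum.basicOpen_injOn_isIdempotentElem hc1 he ?_
  ext P
  rw [SetLike.mem_coe, SetLike.mem_coe, PrimeSpectrum.mem_basicOpen, PrimeSpectrum.mem_basicOpen]
  have h1 : PrimeSpectrum.comap ι P ∈ Set.range (PrimeSpectrum.comap (Ideal.Quotient.mk J)) := by
    rw [range_comap_of_surjective _ _ Ideal.Quotient.mk_surjective, PrimeSpectrum.mem_zeroLocus,
      Ideal.mk_ker]
    exact hJ P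
  obtain ⟨q, hq⟩ := h1
  have h2 : ι c ∉ P.asIdeal ↔ q ∈ E := by
    have h3 : ι c ∈ P.asIdeal ↔ cb ∈ q.asIdeal := by
      rw [← hcc]
      change c ∈ (PrimeSpectrum.comap ι P).asIdeal ↔ c ∈ (PrimeSpectrum.comap (Ideal.Quotient.mk J) q).asIdeal
      rw [hq]
    rw [h3, hE]
    rfl
  rw [h2]
  constructor
  · rintro ⟨P', h4, h5⟩
    have h6 : P' = P := comap_injective hφ (h5.trans hq)
    rwa [← h6]
  · intro h4
    exact ⟨P, h4, hq.symm⟩

end Lift

end K267.IdemLift
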