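import Groth.Agent.GrpSch.K267.FlatHom
import Groth.Agent.UnramA.FibreFlat
import Groth.Agent.S3037
import Groth.Agent.S0352
import Mathlib.AlgebraicGeometry.Morphisms.QuasiFinite

/-!
# Isogenies of group schemes
-/

set_option autoImplicit false
universe u

open CategoryTheory Limits MonoidalCategory CartesianMonoidalCategory MonObj AlgebraicGeometry

namespace K267.Isogeny

/-- Over a field: a flat locally quasi-finite quasi-compact homomorphism to a connected group scheme is
finite and surjective. -/
theorem isFinite_surjective_of_flat (k : Type u) [Field k] (A B : Over (Spec (CommRingCat.of k)))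
    [GrpObj A] [GrpObj B] [LocallyOfFiniteType A.hom] [LocallyOfFiniteType B.hom]
    [ConnectedSpace B.left] (φ : A ⟶ B) [IsMonHom φ] [QuasiCompact φ.left] [Flat φ.left]
    [LocallyQuasiFinite φ.left] : IsFinite φ.left ∧ Surjective φ.left := by
  have hN : IsLocallyNoetherian B.left := LocallyOfFiniteType.isLocallyNoetherian B.hom
  have hft : LocallyOfFiniteType φ.left := by
    have : LocallyOfFiniteType (φ.left ≫ B.hom) := by rw [Over.w]; infer_instance
    exact locallyOfFiniteType_of_comp φ.left B.hom
  have hfp : LocallyOfFinitePresentation φ.left := inferInstance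
  constructor
  · rw [Groth.Agent.S3037.result k A B φ]
    have h1 : LocallyQuasiFinite (Limits.pullback.snd φ.left
        (η[B] : 𝟙_ (Over (Spec (CommRingCat.of k))) ⟶ B).left) := inferInstance
    have h2 : IsLocallyArtinian (𝟙_ (Over (Spec (CommRingCat.of k)))).left :=
      inferInstanceAs (IsLocallyArtinian (Spec (CommRingCat.of k)))
    have h3 : IsLocallyArtinian (Limits.pullback φ.left
        (η[B] : 𝟙_ (Over (Spec (CommRingCat.of k))) ⟶ B).left) :=
      IsLocallyArtinian.of_locallyQuasiFinite (Limits.pullback.snd φ.left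
        (η[B] : 𝟙_ (Over (Spec (CommRingCat.of k))) ⟶ B).left)
    infer_instance
  · have h1 : IsOpen (Set.range φ.left) := (φ.left.isOpenMap).isOpen_range
    have h2 : IsClosed (Set.range φ.left) := Groth.Agent.S0352.result k A B φ h1
    have h3 : Set.range φ.left = Set.univ := by
      have h4 : (⟨h2, h1⟩ : IsClopen (Set.range φ.left)) = ⟨h2, h1⟩ := rfl
      refine IsClopen.eq_univ ⟨h2, h1⟩ ?_
      exact ⟨φ.left (η[A].left (IsLocalRing.closedPoint k)), _, rfl⟩
    exact ⟨Set.range_eq_univ.mp h3⟩

end K267.Isogeny
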