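import Groth.Agent.AbVar.K512.PhiSurj
import Groth.Agent.AbVar.K506.TauInv
import Groth.Agent.AbDual.K732.BC
import Groth.Agent.AbDual.K732.AV
import Groth.Agent.AbSch.K448.PointedHom
import Groth.Agent.AbVar.K528.MumZero
import Groth.Agent.Sga7.H760.KerBc
import Groth.Agent.Books.AlgPts
import Groth.Prelude.Def_SGA7IX
import Groth.Prelude.Def_AgPol

/-!
# The homomorphism attached to a nondegenerate invertible module is an isogeny

`hD : IsDualAV fppf A At φ`, `c : Pic A.left`, `λ_c = cm φ (mumCl A c) : A ⟶ At`.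

* `one_comp_lam`, `isMonHom_lam`: `λ_c` is a homomorphism (`A` proper smooth with geometrically
  connected fibres, `At` separated);
* `lam_eq`: the morphism of `AgPol.IsLambda` is `λ_c`;
* `bc_lam`: base change;
* `surjective_lam`: over a field, if `λ_c` has finite kernel then it is surjective.
-/

set_option autoImplicit false

universe u

open CategoryTheory CategoryTheory.Limits MonoidalCategory CartesianMonoidalCategory MonObj GrpObj
  AlgebraicGeometry

namespace K267.LamSurj

open Groth.Agent Groth.Agent.Grpsch.PicGrp K732.Dual K732.PicZero K732.Prim K732.BC K732.RigSheaf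
  K528.MumZero

section general

variable {S : Scheme.{u}} {A At : Over S} [GrpObj A] [GrpObj At]
  {φ : ∀ T : Over S, PicF.Cl (PicF.XT A.hom T) → (T ⟶ At)}

omit [GrpObj At] in
/-- the morphism of `AgPol.IsLambda` -/
theorem lam_eq {L : A.left.Modules} (hL : PicF.IsInvertible L) {lam : A ⟶ At}
    (h : AgPol.IsLambda A At φ L lam) : lam = cm φ (mumCl A (mk L hL)) := by
  obtain ⟨N, hN, hNL, rfl⟩ := h
  rw [← mk_eq_mumCl A hL hN hNL]
  rfl

omit [GrpObj At] in
theorem ev_mumCl (c : Pic A.left) {W : Over S} (a b : W ⟶ A) : ev a b (mumCl A c) =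
    pull (a * b).left c * (pull a.left c)⁻¹ * (pull b.left c)⁻¹ := pull_lift_mumCl A c a b

variable (hD : AbDual.IsDualAV Scheme.fppfPrecoverage A At φ) [LocallyOfFiniteType A.hom]
  [QuasiCompact A.hom] [GeometricallyConnected A.hom]

include hD

theorem comp_lam (c : Pic A.left) {T : Over S} (x : T ⟶ A) :
    x ≫ cm φ (mumCl A c) = cm φ (pull (PicF.XTmap A.hom x) (mumCl A c)) :=
  (cm_pull hD x (fibZero_mumCl A c)).symm

theorem one_comp_lam (c : Pic A.left) : η[A] ≫ cm φ (mumCl A c) = η[At] := by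
  have h1 : pull (PicF.XTmap A.hom (η[A] : 𝟙_ (Over S) ⟶ A)) (mumCl A c) =
      pull (PicF.XTproj A.hom (𝟙_ (Over S))) (pull (η[A] : 𝟙_ (Over S) ⟶ A).left c)⁻¹ := by
    refine ext_ev fun W a g => ?_
    rw [ev_XTmap, ev_mumCl, ev_XTproj]
    have h2 : g ≫ η[A] = (1 : W ⟶ A) := by
      have : g = toUnit W := toUnit_unique _ _
      rw [this]; rfl
    have h3 : (g ≫ η[A]).left = g.left ≫ (η[A] : 𝟙_ (Over S) ⟶ A).left := rfl
    have h4 : pull (g ≫ η[A]).left c = pull g.left (pull (η[A] : 𝟙_ (Over S) ⟶ A).left c) := by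
      rw [h3, pull_comp]
    rw [map_inv, ← h4, h2, _root_.mul_one, mul_inv_cancel, _root_.one_mul]
  rw [comp_lam hD, h1, cm_base hD]
  exact (one_eq_one At).symm

theorem isMonHom_lam [IsProper A.hom] [Smooth A.hom] [IsSeparated At.hom] (c : Pic A.left) :
    IsMonHom (cm φ (mumCl A c)) := by
  have h1 : GeometricallyIntegral A.hom := K732.AV.geomInt A
  have h2 : GeometricallyReduced A.hom :=
    Groth.Agent.Flat2B.SmoothGeom.geometricallyReduced_of_smooth A.hom
  exact K448.PointedHom.isMonHom_of_pointed _ (one_comp_lam hD c)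

end general

section closed

variable {k : Type u} [Field k] [IsAlgClosed k] {A At : Over (Spec (CommRingCat.of k))} [GrpObj A]
  [GrpObj At] {φ : ∀ T, PicF.Cl (PicF.XT A.hom T) → (T ⟶ At)}
  (hD : AbDual.IsDualAV Scheme.fppfPrecoverage A At φ) [IsProper A.hom] [Smooth A.hom]
  [GeometricallyConnected A.hom]

include hD

theorem comp_lam_eq (c : Pic A.left) (m : Pic (PicF.XT A.hom (𝟙_ (Over (Spec (CommRingCat.of k))))))
    (hm : m ∈ pz A.hom (𝟙_ _)) (x : 𝟙_ (Over (Spec (CommRingCat.of k))) ⟶ A)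
    (h : pull (K512.Phi.tr x).left c = c * ev (𝟙 A) (toUnit A) m) :
    x ≫ cm φ (mumCl A c) = cm φ m := by
  have h1 : pull (PicF.XTmap A.hom x) (mumCl A c) = m *
      pull (PicF.XTproj A.hom (𝟙_ (Over (Spec (CommRingCat.of k))))) (pull x.left c)⁻¹ := by
    refine ext_ev fun W a g => ?_
    rw [ev_XTmap, ev_mumCl]
    have e0 : g = toUnit W := toUnit_unique _ _
    have e1 : a ≫ K512.Phi.tr x = a * (g ≫ x) := by
      change a ≫ (𝟙 A * (toUnit A ≫ x)) = _
      rw [MonObj.comp_mul, Category.comp_id, ← Category.assoc, e0]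
      congr 2
      exact toUnit_unique _ _
    have e2 : pull (a * (g ≫ x)).left c = pull a.left c * ev a g m := by
      have e5 : a ≫ toUnit A = g := toUnit_unique (a ≫ toUnit A) g
      rw [← e1, Over.comp_left, pull_comp, h, map_mul, pull_ev, Category.comp_id, e5]
    have e3 : pull (g ≫ x).left c = pull g.left (pull x.left c) := by
      rw [Over.comp_left, pull_comp]
    have e4 : ev a g (m * pull (PicF.XTproj A.hom (𝟙_ (Over (Spec (CommRingCat.of k)))))
        (pull x.left c)⁻¹) = ev a g m * (pull g.left (pull x.left c))⁻¹ := by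
      rw [ev_def, map_mul, ← ev_def, ← ev_def, ev_XTproj, map_inv]
    rw [e4, e2, e3, mul_right_comm (pull a.left c), mul_inv_cancel, _root_.one_mul]
  rw [comp_lam hD, h1, cm_mul hD hm (pull_XTproj_mem _), cm_base hD, _root_.mul_one]

/-- Over an algebraically closed field, nondegenerate classes define a surjective homomorphism. -/
theorem exists_comp_lam_eq (c : Pic A.left)
    (hfin : {x : 𝟙_ (Over (Spec (CommRingCat.of k))) ⟶ A | x ≫ cm φ (mumCl A c) = 1}.Finite)
    (y : 𝟙_ (Over (Spec (CommRingCat.of k))) ⟶ At) : ∃ x, x ≫ cm φ (mumCl A c) = y := by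
  have hgi : GeometricallyIntegral A.hom := K732.AV.geomInt A
  obtain ⟨m, hm, -, rfl⟩ := exists_cm hD (K732.AV.hF A) y
  have haz : ev (𝟙 A) (toUnit A) m ∈ az A.hom := by
    refine pull_mem_of_mem hm (Ω := k) (𝟙 _) (lift (𝟙 A) (toUnit A)).left A.hom ?_
    rw [lift_XTproj]
    rfl
  have hinv : ∀ x : 𝟙_ (Over (Spec (CommRingCat.of k))) ⟶ A,
      pull (K512.Phi.tr x).left (ev (𝟙 A) (toUnit A) m) = ev (𝟙 A) (toUnit A) m := by
    obtain ⟨M, hM, hM'⟩ := exists_mk (ev (𝟙 A) (toUnit A) m)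
    rw [hM'] at haz ⊢
    have h1 := (isAlgEquivZero_iff_mem_az A.hom hM).2 haz
    exact K506.TauInv.inv_of_isAlgEquivZero hM h1
  obtain ⟨x, hx⟩ := K512.PhiSurj.exists_eq c (ev (𝟙 A) (toUnit A) m) (by
    refine hfin.subset fun x hx => ?_
    have h2 := comp_lam_eq hD c 1 (one_mem _) x (by
      rw [ev_def, map_one, _root_.mul_one]
      exact hx)
    rw [cm_one hD] at h2
    exact h2) hinv
  exact ⟨x, comp_lam_eq hD c m hm x hx⟩

end closed

section bc

variable {S S' : Scheme.{u}} (k : S' ⟶ S) {A At : Over S} [GrpObj A] [GrpObj At]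
  {φ : ∀ T : Over S, PicF.Cl (PicF.XT A.hom T) → (T ⟶ At)}

/-- the projection of the base change -/
noncomputable def prj (A : Over S) : dn k (Red.bc k A) ⟶ A :=
  Over.homMk (pullback.fst A.hom k) pullback.condition

omit [GrpObj A] in
lemma dnMap_up_prj {U : Over S'} (a : dn k U ⟶ A) : dnMap k (up a) ≫ prj k A = a := by
  ext1
  exact up_left_fst a

omit [GrpObj A] in
lemma up_prj : up (prj k A) = 𝟙 (Red.bc k A) := by
  apply hom_ext_bc
  rw [up_left_fst]
  exact (Category.id_comp _).symm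

omit [GrpObj At] in
theorem mumCl_bc (c : Pic A.left) : mumCl (Red.bc k A) (pull (pullback.fst A.hom k) c) =
    bcE k A (Red.bc k A) (pull (PicF.XTmap A.hom (prj k A)) (mumCl A c)) := by
  refine ext_ev fun W a g => ?_
  obtain ⟨a, rfl⟩ := exists_up a
  obtain ⟨g, rfl⟩ := exists_up g
  have key : ∀ b : dn k W ⟶ A, pull (up b).left (pull (pullback.fst A.hom k) c) = pull b.left c := by
    intro b
    rw [← pull_comp, up_left_fst]
  rw [ev_mumCl, ev_bcE, ev_XTmap, dnMap_up_prj, ev_mumCl, ← up_mul, key, key, key]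

theorem bc_lam (hD : AbDual.IsDualAV Scheme.fppfPrecoverage A At φ) [LocallyOfFiniteType A.hom]
    [QuasiCompact A.hom] [GeometricallyConnected A.hom] (c : Pic A.left) :
    (Over.pullback k).map (cm φ (mumCl A c)) = cm (At := Red.bc k At) (AgPol.bcDual k A At φ)
      (mumCl (Red.bc k A) (pull (pullback.fst A.hom k) c)) := by
  rw [mumCl_bc, cm_bcE, ← comp_lam hD, up_comp, up_prj, Category.id_comp]

end bc

section field

theorem finite_pts {Ω : Type u} [Field Ω] [IsAlgClosed Ω] (X : Over (Spec (CommRingCat.of Ω)))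
    [IsFinite X.hom] : Finite (𝟙_ (Over (Spec (CommRingCat.of Ω))) ⟶ X) := by
  have h1 : Finite X.left := by
    obtain ⟨p₀⟩ : Nonempty ↥(Spec (CommRingCat.of Ω)) := inferInstance
    have h2 := X.hom.finite_preimage_singleton p₀
    refine Set.finite_univ_iff.1 (h2.subset fun x _ => ?_)
    exact Subsingleton.elim (α := PrimeSpectrum Ω) _ _
  exact Finite.of_injective (fun x : 𝟙_ (Over (Spec (CommRingCat.of Ω))) ⟶ X => Books.AlgPts.pt x)
    fun x y h => Books.AlgPts.pt_injective h

variable {K : Type u} [Field K] {A At : Over (Spec (CommRingCat.of K))} [GrpObj A]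
  [GrpObj At] {φ : ∀ T, PicF.Cl (PicF.XT A.hom T) → (T ⟶ At)}

/-- The homomorphism of a nondegenerate class is surjective. -/
theorem surjective_lam (hD : AbDual.IsDualAV Scheme.fppfPrecoverage A At φ) [IsProper A.hom]
    [Smooth A.hom] [GeometricallyConnected A.hom] (c : Pic A.left)
    (hker : ∀ (N : Over (Spec (CommRingCat.of K))) (i : N ⟶ A),
      AlgGrp.IsKernel i (cm φ (mumCl A c)) → IsFinite N.hom) :
    Surjective (cm φ (mumCl A c)).left := by
  refine ⟨fun z => ?_⟩
  let Ω : Type u := AlgebraicClosure (At.left.residueField z)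
  let ζ : Spec (CommRingCat.of Ω) ⟶ At.left :=
    Spec.map (CommRingCat.ofHom (algebraMap (At.left.residueField z) Ω)) ≫
      At.left.fromSpecResidueField z
  obtain ⟨p₀, hp₀⟩ : ∃ p₀ : ↥(Spec (CommRingCat.of Ω)), ζ p₀ = z :=
    ⟨IsLocalRing.closedPoint Ω,
      (Scheme.Hom.comp_apply _ _ _).trans (Scheme.fromSpecResidueField_apply _ _)⟩
  let t : Spec (CommRingCat.of Ω) ⟶ Spec (CommRingCat.of K) := ζ ≫ At.hom
  have hD' := isDualAV_bc (k := t) hD
  have i1 : IsProper (Red.bc t A).hom := inferInstanceAs (IsProper (pullback.snd A.hom t))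
  have i2 : Smooth (Red.bc t A).hom := inferInstanceAs (Smooth (pullback.snd A.hom t))
  have i3 : GeometricallyConnected (Red.bc t A).hom :=
    inferInstanceAs (GeometricallyConnected (pullback.snd A.hom t))
  let y0 : dn t (𝟙_ (Over (Spec (CommRingCat.of Ω)))) ⟶ At := Over.homMk ζ (by
    exact (Category.id_comp _).symm)
  obtain ⟨x, hx⟩ := exists_comp_lam_eq hD' (pull (pullback.fst A.hom t) c) (by
    rw [← bc_lam t hD c]
    have hk := Sga3B.KerGrp.isPullback_ker (cm φ (mumCl A c))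
    have hN := hker _ _ hk
    have hk' := Sga7.H760.KerBc.isKernel_bc t hk
    have hN' : IsFinite (Red.bc t (Sga3B.KerGrp.kerObj (cm φ (mumCl A c)))).hom :=
      inferInstanceAs (IsFinite (pullback.snd (Sga3B.KerGrp.kerObj (cm φ (mumCl A c))).hom t))
    have hf := finite_pts (Red.bc t (Sga3B.KerGrp.kerObj (cm φ (mumCl A c))))
    refine (Set.finite_range (fun x' : 𝟙_ _ ⟶ Red.bc t (Sga3B.KerGrp.kerObj (cm φ (mumCl A c))) =>
      x' ≫ (Over.pullback t).map (Sga3B.KerGrp.kerι (cm φ (mumCl A c))))).subset fun x hx => ?_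
    exact ⟨hk'.lift x (toUnit _) hx, hk'.lift_fst _ _ _⟩) (up y0)
  rw [← bc_lam t hD c] at hx
  obtain ⟨x0, rfl⟩ := exists_up x
  rw [← up_comp] at hx
  have h1 := up_inj hx
  have h2 : x0.left ≫ (cm φ (mumCl A c)).left = ζ := congrArg CommaMorphism.left h1
  refine ⟨x0.left p₀, Eq.trans ?_ hp₀⟩
  rw [← Scheme.Hom.comp_apply]
  exact congrArg (fun q : Spec (CommRingCat.of Ω) ⟶ At.left => q p₀) h2

end field

end K267.LamSurj
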