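import Groth.Agent.Sga3.H790.RkChar
import Groth.Agent.LieWt.K929.CharLemmas
import Groth.Agent.Sga3B.RG.BrDiag
import Groth.Agent.Sga3C.QuotProps

/-!
# Central extensions of `D(M)` by `𝔾_m`: the commutator pairing
-/

set_option autoImplicit false
universe u
open CategoryTheory MonoidalCategory CartesianMonoidalCategory MonObj GrpObj AlgebraicGeometry Limits

namespace K267.MuExt

open Groth.Agent Groth.Agent.Sga3B Cell PinMod Groth.Agent.Sga3.H811.Pts Groth.Agent.Sga3B.GaPts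

/-- A central extension of a commutative group by a commutative group. -/
structure CExt {S : Scheme.{u}} (N D E : Over S) [GrpObj N] [GrpObj D] [GrpObj E] where
  i : N ⟶ E
  q : E ⟶ D
  hi : IsMonHom i
  hq : IsMonHom q
  commN : ∀ (T : Over S) (x y : T ⟶ N), x * y = y * x
  commD : ∀ (T : Over S) (x y : T ⟶ D), x * y = y * x
  ker : AlgGrp.IsKernel i q
  flat : Flat q.left
  surj : Surjective q.left
  lfp : LocallyOfFinitePresentation q.left
  cent : ∀ (T : Over S) (g : T ⟶ E) (t : T ⟶ N), g * (t ≫ i) = (t ≫ i) * g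

namespace CExt

attribute [instance] CExt.hi CExt.hq CExt.flat CExt.surj CExt.lfp

variable {S : Scheme.{u}} {N D E : Over S} [GrpObj N] [GrpObj D] [GrpObj E] (X : CExt N D E)

instance mono_i : Mono X.i := by
  constructor
  intro T a b h
  exact X.ker.hom_ext h (toUnit_unique _ _)

lemma exists_of_comp_q {T : Over S} (x : T ⟶ E) (h : x ≫ X.q = 1) : ∃ t : T ⟶ N, t ≫ X.i = x := by
  have h1 : x ≫ X.q = toUnit T ≫ η[D] := by rw [h]; rfl
  exact ⟨X.ker.lift x (toUnit T) h1, X.ker.lift_fst _ _ _⟩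

lemma exists_com : ∃ c : E ⊗ E ⟶ N, c ≫ X.i = fst E E * snd E E * (fst E E)⁻¹ * (snd E E)⁻¹ := by
  apply X.exists_of_comp_q
  simp only [MonObj.mul_comp, GrpObj.inv_comp]
  rw [X.commD _ (fst E E ≫ X.q)]
  group

/-- The commutator pairing. -/
noncomputable def com : E ⊗ E ⟶ N := X.exists_com.choose

lemma com_i : X.com ≫ X.i = fst E E * snd E E * (fst E E)⁻¹ * (snd E E)⁻¹ := X.exists_com.choose_spec

/-- The commutator of two points. -/
noncomputable def C {T : Over S} (x y : T ⟶ E) : T ⟶ N := lift x y ≫ X.com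

lemma C_i {T : Over S} (x y : T ⟶ E) : X.C x y ≫ X.i = x * y * x⁻¹ * y⁻¹ := by
  rw [C, Category.assoc, com_i]
  simp only [MonObj.comp_mul, GrpObj.comp_inv, lift_fst, lift_snd]

lemma comp_C {T T' : Over S} (f : T' ⟶ T) (x y : T ⟶ E) : f ≫ X.C x y = X.C (f ≫ x) (f ≫ y) := by
  rw [C, C, ← Category.assoc, comp_lift]

lemma eq_C {T : Over S} (x y : T ⟶ E) (t : T ⟶ N) (h : t ≫ X.i = x * y * x⁻¹ * y⁻¹) : X.C x y = t := by
  rw [← cancel_mono X.i, C_i, h]

lemma C_eq_one_iff {T : Over S} (x y : T ⟶ E) : X.C x y = 1 ↔ x * y = y * x := by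
  rw [← cancel_mono X.i, C_i, MonObj.one_comp, mul_inv_eq_one, mul_inv_eq_iff_eq_mul]

lemma C_mul_right {T : Over S} (x y y' : T ⟶ E) : X.C x (y * y') = X.C x y * X.C x y' := by
  apply X.eq_C
  rw [MonObj.mul_comp, C_i, C_i]
  have h := X.cent T y (X.C x y')
  rw [C_i] at h
  calc x * y * x⁻¹ * y⁻¹ * (x * y' * x⁻¹ * y'⁻¹) = x * y * x⁻¹ * y⁻¹ * ((x * y' * x⁻¹ * y'⁻¹) * y) * y⁻¹ := by group
    _ = x * y * x⁻¹ * y⁻¹ * (y * (x * y' * x⁻¹ * y'⁻¹)) * y⁻¹ := by rw [h]
    _ = _ := by group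

lemma C_swap {T : Over S} (x y : T ⟶ E) : X.C y x = (X.C x y)⁻¹ := by
  apply X.eq_C
  rw [GrpObj.inv_comp, C_i]
  group

lemma C_mul_left {T : Over S} (x x' y : T ⟶ E) : X.C (x * x') y = X.C x y * X.C x' y := by
  rw [C_swap, C_mul_right, _root_.mul_inv_rev, ← C_swap X y x, ← C_swap X y x', X.commN]

lemma C_self {T : Over S} (x : T ⟶ E) : X.C x x = 1 := by
  rw [C_eq_one_iff]

lemma C_right_of_q {T : Over S} (x y : T ⟶ E) (h : y ≫ X.q = 1) : X.C x y = 1 := by
  obtain ⟨t, rfl⟩ := X.exists_of_comp_q y h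
  rw [C_eq_one_iff]
  exact X.cent T x t

lemma C_left_of_q {T : Over S} (x y : T ⟶ E) (h : x ≫ X.q = 1) : X.C x y = 1 := by
  rw [C_swap, C_right_of_q X y x h, _root_.inv_one]

lemma C_right_congr {T : Over S} (x y y' : T ⟶ E) (h : y ≫ X.q = y' ≫ X.q) : X.C x y = X.C x y' := by
  have h1 : X.C x (y' * (y'⁻¹ * y)) = X.C x y' * X.C x (y'⁻¹ * y) := X.C_mul_right _ _ _
  rw [_root_.mul_inv_cancel_left] at h1
  rw [h1, C_right_of_q X x (y'⁻¹ * y), _root_.mul_one]
  rw [MonObj.mul_comp, GrpObj.inv_comp, h, _root_.inv_mul_cancel]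

lemma C_pow_left {T : Over S} (x y : T ⟶ E) (n : ℕ) : X.C (x ^ n) y = X.C x y ^ n := by
  induction n with
  | zero => rw [pow_zero, pow_zero, C_left_of_q X 1 y (MonObj.one_comp _)]
  | succ n ih => rw [pow_succ, C_mul_left, ih, pow_succ]

lemma C_pow_right {T : Over S} (x y : T ⟶ E) (n : ℕ) : X.C x (y ^ n) = X.C x y ^ n := by
  induction n with
  | zero => rw [pow_zero, pow_zero, C_right_of_q X x 1 (MonObj.one_comp _)]
  | succ n ih => rw [pow_succ, C_mul_right, ih, pow_succ]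

lemma pow_comp_q {T : Over S} (x : T ⟶ E) (k : ℕ) : (x ^ k) ≫ X.q = (x ≫ X.q) ^ k := MonObj.pow_comp _ _ _

lemma comp_pow_q {T T' : Over S} (f : T' ⟶ T) (x : T ⟶ E) (k : ℕ) : f ≫ (x ^ k) ≫ X.q = (f ≫ x ≫ X.q) ^ k := by
  rw [pow_comp_q, MonObj.comp_pow]

instance flat_whisker (T : Over S) : Flat (X.q ▷ T).left := by
  have h := Sga3C.QuotProps.tensorHom_left_of @Flat X.q (𝟙 T) X.flat (by rw [Over.id_left]; infer_instance)
  rwa [tensorHom_id] at h

instance lfp_whisker (T : Over S) : LocallyOfFinitePresentation (X.q ▷ T).left := by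
  have h := Sga3C.QuotProps.tensorHom_left_of @LocallyOfFinitePresentation X.q (𝟙 T) X.lfp
    (by rw [Over.id_left]; infer_instance)
  rwa [tensorHom_id] at h

lemma surj_comp : MorphismProperty.IsStableUnderComposition (@Surjective : MorphismProperty Scheme.{u}) where
  comp_mem _ _ hf hg := by
    have := hf
    have := hg
    infer_instance

instance surj_whisker (T : Over S) : Surjective (X.q ▷ T).left := by
  have := surj_comp.{u}
  have h := Sga3C.QuotProps.tensorHom_left_of @Surjective X.q (𝟙 T) X.surj (by rw [Over.id_left]; infer_instance)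
  rwa [tensorHom_id] at h

instance epi_whisker (T : Over S) : Epi (X.q ▷ T) := Sga3C.QuotProps.epi_of_flat_surjective _

instance epi_whisker₂ (T : Over S) : Epi ((X.q ⊗ₘ X.q) ▷ T) := by
  have := surj_comp.{u}
  have h1 := Sga3C.QuotProps.tensorHom_left_of @Flat X.q X.q X.flat X.flat
  have h2 := Sga3C.QuotProps.tensorHom_left_of @Surjective X.q X.q X.surj X.surj
  have h3 := Sga3C.QuotProps.tensorHom_left_of @Flat (X.q ⊗ₘ X.q) (𝟙 T) h1 (by rw [Over.id_left]; infer_instance)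
  have h4 := Sga3C.QuotProps.tensorHom_left_of @Surjective (X.q ⊗ₘ X.q) (𝟙 T) h2
    (by rw [Over.id_left]; infer_instance)
  rw [tensorHom_id] at h3 h4
  exact Sga3C.QuotProps.epi_of_flat_surjective _

lemma exists_desc_char {T : Over S} (g : T ⟶ E) : ∃ a : D ⊗ T ⟶ N,
    ∀ (Y : Over S) (f : Y ⟶ T) (h : Y ⟶ E), lift (h ≫ X.q) f ≫ a = X.C (f ≫ g) h := by
  obtain ⟨a, ha⟩ := Sga3C.QuotProps.exists_desc (X.q ▷ T)
    (X.C (snd E T ≫ g) (fst E T)) (by
      intro W x y hxy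
      have h1 : x ≫ snd E T = y ≫ snd E T := by
        have := congrArg (fun z => z ≫ snd _ _) hxy
        simpa using this
      have h2 : (x ≫ fst E T) ≫ X.q = (y ≫ fst E T) ≫ X.q := by
        have := congrArg (fun z => z ≫ fst _ _) hxy
        simpa using this
      rw [comp_C, comp_C, ← Category.assoc, ← Category.assoc, h1]
      exact X.C_right_congr _ _ _ h2)
  refine ⟨a, fun Y f h => ?_⟩
  have h1 : lift (h ≫ X.q) f = lift h f ≫ (X.q ▷ T) := by simp
  rw [h1, Category.assoc, ha, comp_C, ← Category.assoc, lift_snd, lift_fst]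

lemma desc_char_mul {T : Over S} (g : T ⟶ E) (a : D ⊗ T ⟶ N)
    (ha : ∀ (Y : Over S) (f : Y ⟶ T) (h : Y ⟶ E), lift (h ≫ X.q) f ≫ a = X.C (f ≫ g) h)
    (Y : Over S) (x y : Y ⟶ D) (t : Y ⟶ T) :
    lift (x * y) t ≫ a = (lift x t ≫ a) * (lift y t ≫ a) := by
  have key : lift ((fst (D ⊗ D) T ≫ fst _ _) * (fst _ _ ≫ snd _ _)) (snd _ _) ≫ a =
      (lift (fst (D ⊗ D) T ≫ fst _ _) (snd _ _) ≫ a) *
      (lift (fst (D ⊗ D) T ≫ snd _ _) (snd _ _) ≫ a) := by
    rw [← cancel_epi ((X.q ⊗ₘ X.q) ▷ T)]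
    rw [MonObj.comp_mul, ← Category.assoc, ← Category.assoc, ← Category.assoc, comp_lift, comp_lift, comp_lift,
      MonObj.comp_mul]
    simp only [whiskerRight_fst_assoc, whiskerRight_snd, tensorHom_fst, tensorHom_snd]
    rw [← Category.assoc, ← Category.assoc, ← MonObj.mul_comp, ha, ha, ha, C_mul_right]
  have h := congrArg (fun z => lift (lift x y) t ≫ z) key
  simp only [MonObj.comp_mul] at h
  simp only [← Category.assoc, comp_lift, MonObj.comp_mul] at h
  simpa using h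

/-- Transport along isomorphisms of the kernel and of the quotient. -/
noncomputable def ofIso {N D N' D' E : Over S} [GrpObj N] [GrpObj D] [GrpObj N'] [GrpObj D'] [GrpObj E]
    (i : N ⟶ E) (q : E ⟶ D) [IsMonHom i] [IsMonHom q] (e₁ : N ≅ N') [IsMonHom e₁.hom] (e₂ : D ≅ D')
    [IsMonHom e₂.hom] (ker : AlgGrp.IsKernel i q) (flat : Flat q.left) (surj : Surjective q.left)
    (lfp : LocallyOfFinitePresentation q.left)
    (cent : ∀ (T : Over S) (g : T ⟶ E) (t : T ⟶ N), g * (t ≫ i) = (t ≫ i) * g)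
    (commN : ∀ (T : Over S) (x y : T ⟶ N'), x * y = y * x)
    (commD : ∀ (T : Over S) (x y : T ⟶ D'), x * y = y * x) : CExt N' D' E where
  i := e₁.inv ≫ i
  q := q ≫ e₂.hom
  hi := inferInstance
  hq := inferInstance
  commN := commN
  commD := commD
  ker := by
    refine IsPullback.of_iso ker e₁ (Iso.refl _) (Iso.refl _) e₂ ?_ ?_ ?_ ?_
    · simp
    · exact toUnit_unique _ _
    · simp
    · simp
  flat := by
    have : IsIso e₂.hom.left := inferInstanceAs (IsIso ((Over.forget _).mapIso e₂).hom)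
    rw [Over.comp_left]; infer_instance
  surj := by
    have : IsIso e₂.hom.left := inferInstanceAs (IsIso ((Over.forget _).mapIso e₂).hom)
    rw [Over.comp_left]; infer_instance
  lfp := by
    have : IsIso e₂.hom.left := inferInstanceAs (IsIso ((Over.forget _).mapIso e₂).hom)
    rw [Over.comp_left]; infer_instance
  cent := by
    intro T g t
    rw [← Category.assoc]
    exact cent T g (t ≫ e₁.inv)

end CExt

section Char

variable {S : Scheme.{u}} {M : Type} [AddCommGroup M] {E : Over S} [GrpObj E]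
  (X : CExt (Red.Gm S) (Red.DS S M) E)
  {A : Type u} [CommRing A] {v : Spec (CommRingCat.of A) ⟶ S}

/-- Over a local ring the pairing with a fixed point is a character. -/
theorem exists_char [IsLocalRing A] (g : Over.mk v ⟶ E) : ∃ m : M, ∀ (Y : Over S) (f : Y ⟶ Over.mk v) (h : Y ⟶ E),
    X.C (f ≫ g) h = h ≫ X.q ≫ Red.chi S m := by
  obtain ⟨a, ha⟩ := X.exists_desc_char g
  obtain ⟨e, m, he, hm⟩ := Sga3.H790.RkFam.exists_const a (X.desc_char_mul g a ha) (IsLocalRing.maximalIdeal A)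
  refine ⟨m, fun Y f h => ?_⟩
  rw [← ha, hm Y _ f, Category.assoc]
  have he' : IsUnit e := by
    by_contra hne
    exact he ((IsLocalRing.mem_maximalIdeal e).mpr hne)
  exact he'.map _

lemma eq_zero_of_chi [Nontrivial A] (m : M)
    (h : ∀ (Y : Over S) (_ : Y ⟶ Over.mk v) (h : Y ⟶ E), h ≫ X.q ≫ Red.chi S m = 1) : m = 0 := by
  have h0 : fst (Red.DS S M) (Over.mk v) ≫ Red.chi S m = 1 := by
    rw [← cancel_epi (X.q ▷ Over.mk v), MonObj.comp_one, whiskerRight_fst_assoc]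
    exact h _ (snd _ _) (fst _ _)
  have h1 : ∀ (Y : Over S) (_ : Y ⟶ Over.mk v) (y : Y ⟶ Red.DS S M), y ≫ Red.chi S m = 1 := by
    intro Y f y
    have h2 : y = lift y f ≫ fst _ _ := (lift_fst y f).symm
    rw [h2, Category.assoc, h0, MonObj.comp_one]
  let t : TPt M (MonoidAlgebra A (Multiplicative M)) :=
    MonoidHom.toHomUnits (MonoidAlgebra.of A (Multiplicative M))
  have h2 : Red.gmFn (DSPts.dsEquiv (tB v (MonoidAlgebra A (Multiplicative M))) M (chΓ v t) ≫ Red.chi S m) =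
      Red.gmFn (DSPts.dsEquiv (tB v (MonoidAlgebra A (Multiplicative M))) M (chΓ v t) ≫ Red.chi S (0 : M)) := by
    rw [h1 _ (Over.homMk (Spec.map (CommRingCat.ofHom (algebraMap A (MonoidAlgebra A (Multiplicative M)))))), 
      K929.CharLemmas.chi_zero]
    exact congrArg _ (MonObj.comp_one _).symm
  rw [gmFn_chi, gmFn_chi, DSPts.dsChar_dsEquiv, chΓ_apply, chΓ_apply] at h2
  have h3 := fnOf_injective v h2
  exact Multiplicative.ofAdd.injective (MonoidAlgebra.of_injective h3)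

lemma gm_ext {T : Over S} (a b : T ⟶ Red.Gm S)
    (h : ∀ t : T.left, (Over.homMk (T.left.fromSpecStalk t) : Over.mk (T.left.fromSpecStalk t ≫ T.hom) ⟶ T) ≫ a =
      (Over.homMk (T.left.fromSpecStalk t) : Over.mk (T.left.fromSpecStalk t ≫ T.hom) ⟶ T) ≫ b) : a = b := by
  apply gmFn_injective
  refine TopCat.Presheaf.section_ext T.left.sheaf ⊤ _ _ fun t _ => ?_
  have h1 := congrArg Red.gmFn (h t)
  rw [gmFn_comp, gmFn_comp] at h1
  change (T.left.fromSpecStalk t).appTop _ = (T.left.fromSpecStalk t).appTop _ at h1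
  have h3 : (T.left.fromSpecStalk t).appTop ≫ (Scheme.ΓSpecIso (T.left.presheaf.stalk t)).hom =
      T.left.presheaf.germ ⊤ t trivial := by
    rw [Scheme.fromSpecStalk_appTop]
    simp
  have h5 := congrArg (Scheme.ΓSpecIso (T.left.presheaf.stalk t)).hom h1
  rw [← CommRingCat.comp_apply, ← CommRingCat.comp_apply, h3] at h5
  exact h5

/-- A point whose specialisation is central is central. -/
theorem central_of_specialization [IsLocalRing A] (g : Over.mk v ⟶ E) {Ω : Type u} [CommRing Ω] [Nontrivial Ω]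
    (φ : A →+* Ω)
    (H : ∀ (Y : Over S) (f : Y ⟶ Over.mk (Spec.map (CommRingCat.ofHom φ) ≫ v)) (h : Y ⟶ E),
      X.C (f ≫ (Over.homMk (Spec.map (CommRingCat.ofHom φ)) : _ ⟶ Over.mk v) ≫ g) h = 1)
    (Y : Over S) (f : Y ⟶ Over.mk v) (h : Y ⟶ E) : X.C (f ≫ g) h = 1 := by
  obtain ⟨m, hm⟩ := exists_char X g
  have h0 : m = 0 := by
    refine eq_zero_of_chi X (A := Ω) (v := Spec.map (CommRingCat.ofHom φ) ≫ v) m fun Y f h => ?_
    rw [← hm Y (f ≫ Over.homMk (Spec.map (CommRingCat.ofHom φ))) h, Category.assoc]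
    exact H Y f h
  rw [hm, h0, K929.CharLemmas.chi_zero, MonObj.comp_one, MonObj.comp_one]

theorem central_aux (A : CommRingCat.{u}) [IsLocalRing A] {T Y : Over S} (σ : Spec A ⟶ Y.left) (x : T ⟶ E)
    (H : ∀ (Ω : Type u) [Field Ω] [IsAlgClosed Ω] (τ : Spec (CommRingCat.of Ω) ⟶ T.left) (Y : Over S)
      (f : Y ⟶ Over.mk (τ ≫ T.hom)) (h : Y ⟶ E),
      X.C (f ≫ (Over.homMk τ : Over.mk (τ ≫ T.hom) ⟶ T) ≫ x) h = 1)
    (f : Y ⟶ T) (h : Y ⟶ E) :
    (Over.homMk σ : Over.mk (σ ≫ Y.hom) ⟶ Y) ≫ X.C (f ≫ x) h = 1 := by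
  rw [CExt.comp_C, ← Category.assoc]
  let s : Over.mk (σ ≫ Y.hom) ⟶ Y := Over.homMk σ
  let Ω := AlgebraicClosure (IsLocalRing.ResidueField A)
  let φ : A →+* Ω := (algebraMap (IsLocalRing.ResidueField A) Ω).comp (IsLocalRing.residue _)
  have key := central_of_specialization (A := A) X
    (v := σ ≫ Y.hom) ((s ≫ f) ≫ x) φ (by
      intro Z f' h'
      have h2 := H Ω (Spec.map (CommRingCat.ofHom φ) ≫ σ ≫ f.left) Z
        (f' ≫ Over.homMk (𝟙 _) (by simp)) h'
      rw [← h2]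
      congr 1)
    (Over.mk (σ ≫ Y.hom)) (𝟙 _) (s ≫ h)
  have h1 : 𝟙 (Over.mk (σ ≫ Y.hom)) ≫ (s ≫ f) ≫ x = (s ≫ f) ≫ x := Category.id_comp _
  rw [← h1]
  exact key

/-- A point is central if it is so at all geometric points. -/
theorem central_of_geometric {T : Over S} (x : T ⟶ E)
    (H : ∀ (Ω : Type u) [Field Ω] [IsAlgClosed Ω] (τ : Spec (CommRingCat.of Ω) ⟶ T.left) (Y : Over S)
      (f : Y ⟶ Over.mk (τ ≫ T.hom)) (h : Y ⟶ E),
      X.C (f ≫ (Over.homMk τ : Over.mk (τ ≫ T.hom) ⟶ T) ≫ x) h = 1)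
    (Y : Over S) (f : Y ⟶ T) (h : Y ⟶ E) : X.C (f ≫ x) h = 1 := by
  apply gm_ext
  intro y
  rw [MonObj.comp_one]
  exact central_aux X (Y.left.presheaf.stalk y) (Y.left.fromSpecStalk y) x H f h

end Char

end K267.MuExt
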