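import Groth.Agent.GrpSch.K267.MuExt
import Groth.Agent.Books.AlgPts
import Mathlib.RingTheory.RootsOfUnity.AlgebraicallyClosed
import Mathlib.Algebra.CharP.Reduced
import Mathlib.NumberTheory.LegendreSymbol.AddCharacter

/-!
# Central extensions of `μ_n` by `𝔾_m` are commutative
-/

set_option autoImplicit false
universe u
open CategoryTheory MonoidalCategory CartesianMonoidalCategory MonObj GrpObj AlgebraicGeometry Limits

namespace K267.MuExt

open Groth.Agent Groth.Agent.Sga3B Cell PinMod Groth.Agent.Sga3.H811.Pts Groth.Agent.Sga3B.GaPts DSPts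

variable {S : Scheme.{u}} {n : ℕ} [NeZero n]

lemma dsChar_pow {T : Over S} {M : Type} [AddCommGroup M] (y : T ⟶ Red.DS S M) (k : ℕ) (m : Multiplicative M) :
    dsChar (y ^ k) m = dsChar y m ^ k := by
  have h : dsChar (y ^ k) = (dsChar y) ^ k := map_pow ((dsEquiv T M).symm) y k
  rw [h]
  rfl

lemma dsChar_one {T : Over S} {M : Type} [AddCommGroup M] (m : Multiplicative M) :
    dsChar (1 : T ⟶ Red.DS S M) m = 1 := by
  have h : dsChar (1 : T ⟶ Red.DS S M) = 1 := map_one ((dsEquiv T M).symm)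
  rw [h]
  rfl

lemma ds_ext {T : Over S} {M : Type} [AddCommGroup M] {x y : T ⟶ Red.DS S M}
    (h : ∀ m, dsChar x m = dsChar y m) : x = y := by
  rw [← dsEquiv_dsChar x, ← dsEquiv_dsChar y, MonoidHom.ext h]

lemma dsChar_zmod {T : Over S} (y : T ⟶ Red.DS S (ZMod n)) (m : ZMod n) :
    dsChar y (Multiplicative.ofAdd m) = dsChar y (Multiplicative.ofAdd 1) ^ m.val := by
  rw [← map_pow]
  congr 1
  rw [← ofAdd_nsmul, nsmul_eq_mul, _root_.mul_one, ZMod.natCast_zmod_val]

lemma dsChar_zmod_pow {T : Over S} (y : T ⟶ Red.DS S (ZMod n)) (m : Multiplicative (ZMod n)) :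
    dsChar y m ^ n = 1 := by
  rw [← map_pow, ← ofAdd_toAdd m, ← ofAdd_nsmul, nsmul_eq_mul, ZMod.natCast_self, zero_mul, ofAdd_zero, map_one]

lemma ds_ext_zmod {T : Over S} {x y : T ⟶ Red.DS S (ZMod n)}
    (h : dsChar x (Multiplicative.ofAdd 1) = dsChar y (Multiplicative.ofAdd 1)) : x = y := by
  refine ds_ext fun m => ?_
  rw [← ofAdd_toAdd m, dsChar_zmod x, dsChar_zmod y, h]

/-- In a field of exponential characteristic `p`, points of `μ_{p^r n'}` are killed by `n'`. -/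
lemma pow_eq_one_of_field {Ω : Type u} [Field Ω] (p r n' : ℕ) [ExpChar Ω p] (hn : n = p ^ r * n')
    {T : Over S} (e : Γ(T.left, ⊤) ≃+* Ω) (y : T ⟶ Red.DS S (ZMod n)) : y ^ n' = 1 := by
  refine ds_ext fun m => ?_
  rw [dsChar_pow, dsChar_one]
  apply e.injective
  have h := congrArg e (dsChar_zmod_pow y m)
  rw [map_pow, map_one] at h ⊢
  have h2 : e (dsChar y m) ^ (p ^ r * n') = 1 := by rw [← hn]; exact h
  exact (ExpChar.pow_prime_pow_mul_eq_one_iff p r n' _).mp h2

lemma exists_pt {T : Over S} (w : Γ(T.left, ⊤)) (hw : w ^ n = 1) :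
    ∃ ζ : T ⟶ Red.DS S (ZMod n), dsChar ζ (Multiplicative.ofAdd 1) = w := by
  refine ⟨dsEquiv T (ZMod n) (AddChar.zmodChar n hw).toMonoidHom, ?_⟩
  rw [dsChar_dsEquiv]
  change AddChar.zmodChar n hw 1 = w
  have := AddChar.zmodChar_apply' hw 1
  rw [Nat.cast_one, pow_one] at this
  exact this

variable {E : Over S} [GrpObj E] (X : CExt (Red.Gm S) (Red.DS S (ZMod n)) E)

/-- points of `𝔾_m` -/
lemma gm_eq_one_iff {T : Over S} (y : T ⟶ Red.Gm S) : y = 1 ↔ Red.gmFn y = 1 := by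
  constructor
  · rintro rfl
    exact gmFn_one
  · intro h
    apply gmFn_injective
    rw [h]
    exact gmFn_one.symm

/-- A point over an algebraically closed field lifts along `q`. -/
lemma exists_lift {Ω : Type u} [Field Ω] [IsAlgClosed Ω] (v : Spec (CommRingCat.of Ω) ⟶ S)
    (ζ : Over.mk v ⟶ Red.DS S (ZMod n)) : ∃ z : Over.mk v ⟶ E, z ≫ X.q = ζ := by
  have hlft : LocallyOfFiniteType (pullback.snd X.q.left ζ.left) := inferInstance
  let P : Over (Spec (CommRingCat.of Ω)) := Over.mk (pullback.snd X.q.left ζ.left)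
  have : LocallyOfFiniteType P.hom := hlft
  obtain ⟨y', _⟩ := Books.AlgPts.exists_pt_mem (X := P) (U := Set.univ)
    (by
      have : Surjective (pullback.snd X.q.left ζ.left) := inferInstance
      obtain ⟨w, _⟩ := (pullback.snd X.q.left ζ.left).surjective (IsLocalRing.closedPoint Ω)
      exact ⟨w, trivial⟩) isClosed_univ.isLocallyClosed
  let y : Spec (CommRingCat.of Ω) ⟶ pullback X.q.left ζ.left := y'.left
  have hy : y ≫ pullback.snd X.q.left ζ.left = 𝟙 _ := Over.w y'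
  have h1 : (y ≫ pullback.fst X.q.left ζ.left) ≫ X.q.left = ζ.left := by
    rw [Category.assoc, pullback.condition, ← Category.assoc, hy, Category.id_comp]
  refine ⟨Over.homMk (y ≫ pullback.fst X.q.left ζ.left) ?_, ?_⟩
  · rw [← Over.w X.q, ← Category.assoc, h1, Over.w]
  · ext1
    exact h1

/-- Over an algebraically closed field all points are central. -/
theorem central_of_field {Ω : Type u} [Field Ω] [IsAlgClosed Ω] (v : Spec (CommRingCat.of Ω) ⟶ S)
    (g : Over.mk v ⟶ E) (Y : Over S) (f : Y ⟶ Over.mk v) (h : Y ⟶ E) : X.C (f ≫ g) h = 1 := by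
  classical
  have hmq : IsMonHom X.q := X.hq
  -- the decomposition `n = p ^ r * n'`
  obtain ⟨p, hp⟩ : ∃ p, ExpChar Ω p := ⟨_, ringExpChar.expChar Ω⟩
  obtain ⟨r, n', hn, hn', hcop⟩ : ∃ r n', n = p ^ r * n' ∧ (n' : Ω) ≠ 0 ∧ Nat.Coprime (p ^ r) n' := by
    rcases hp with _ | ⟨hprime⟩
    · exact ⟨0, n, by simp, by exact_mod_cast NeZero.ne n, by simp⟩
    · obtain ⟨r, n', h1, h2⟩ := Nat.exists_eq_pow_mul_and_not_dvd (NeZero.ne n) p hprime.ne_one
      refine ⟨r, n', h2, ?_, ?_⟩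
      · rwa [Ne, CharP.cast_eq_zero_iff Ω p]
      · exact Nat.Coprime.pow_left r ((Nat.Prime.coprime_iff_not_dvd hprime).mpr h1)
  have : NeZero (n' : Ω) := ⟨hn'⟩
  obtain ⟨w, hw⟩ := HasEnoughRootsOfUnity.exists_primitiveRoot Ω n'
  let e : Γ((Over.mk v).left, ⊤) ≃+* Ω := (Scheme.ΓSpecIso (CommRingCat.of Ω)).commRingCatIsoToRingEquiv
  have hwn : (e.symm w) ^ n = 1 := by
    rw [← map_pow, hn, pow_mul', hw.pow_eq_one, one_pow, map_one]
  obtain ⟨ζ, hζ⟩ := exists_pt (S := S) (T := Over.mk v) (n := n) (e.symm w) hwn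
  obtain ⟨z, hz⟩ := exists_lift X v ζ
  obtain ⟨k, hk⟩ := exists_char X z
  -- `n'` divides `k`
  have hk1 : n' ∣ k.val := by
    have h1 := hk _ (𝟙 _) z
    rw [Category.id_comp, X.C_self, ← Category.assoc, hz] at h1
    have h2 : Red.gmFn (ζ ≫ Red.chi S k) = 1 := (gm_eq_one_iff _).mp h1.symm
    rw [gmFn_chi, dsChar_zmod, hζ, ← map_pow] at h2
    have h3 := congrArg e h2
    rw [RingEquiv.apply_symm_apply, map_one] at h3
    exact (hw.pow_eq_one_iff_dvd _).mp h3
  -- `n'`-th powers are central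
  have hcent : ∀ (Y : Over S) (_ : Y ⟶ Over.mk v) (x y : Y ⟶ E), X.C (x ^ n') y = 1 := by
    intro Y f x y
    have h1 := central_of_geometric X (x ^ n') (by
      intro Ω' _ _ τ Z f' y'
      refine X.C_left_of_q _ _ ?_
      let e' : Γ((Over.mk (τ ≫ Y.hom)).left, ⊤) ≃+* Ω' :=
        (Scheme.ΓSpecIso (CommRingCat.of Ω')).commRingCatIsoToRingEquiv
      have hΩ : ExpChar Ω' p := by
        obtain ⟨ψ, hψ⟩ := Spec.map_surjective (τ ≫ f.left)
        exact expChar_of_injective_ringHom (f := ψ.hom) ψ.hom.injective p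
      have h3 : (Over.homMk τ : Over.mk (τ ≫ Y.hom) ⟶ Y) ≫ (x ^ n') ≫ X.q = 1 := by
        rw [X.comp_pow_q]
        exact pow_eq_one_of_field p r n' hn e' _
      rw [Category.assoc, Category.assoc, h3, MonObj.comp_one]) Y (𝟙 _) y
    rwa [Category.id_comp] at h1
  -- `p ^ r` divides `k`
  have hk0 : k = 0 := by
    have h1 : (n' : ZMod n) * k = 0 := by
      refine eq_zero_of_chi X (A := Ω) (v := v) _ fun Y f h => ?_
      have h2 := hcent Y f h (f ≫ z)
      have h2' : X.C (f ≫ z) (h ^ n') = 1 := by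
        rw [X.C_swap, h2, _root_.inv_one]
      rw [hk] at h2'
      rw [← h2']
      apply gmFn_injective
      rw [← Category.assoc, ← Category.assoc, gmFn_chi, gmFn_chi]
      refine Eq.trans ?_ (congrArg (fun t => dsChar t (Multiplicative.ofAdd k)) (X.pow_comp_q h n')).symm
      refine Eq.trans ?_ (dsChar_pow (h ≫ X.q) n' (Multiplicative.ofAdd k)).symm
      rw [← map_pow, ← ofAdd_nsmul, nsmul_eq_mul]
    have h3 : n ∣ n' * k.val := by
      rw [← ZMod.natCast_eq_zero_iff, Nat.cast_mul, ZMod.natCast_zmod_val]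
      exact h1
    have hn'0 : 0 < n' := Nat.pos_of_ne_zero (by rintro rfl; simp at hn')
    have h5 : n ∣ k.val := by
      generalize k.val = kv at h3 hk1
      have h4 : p ^ r ∣ kv := by
        rw [hn, mul_comm] at h3
        exact Nat.dvd_of_mul_dvd_mul_left hn'0 h3
      rw [hn]
      exact hcop.mul_dvd_of_dvd_of_dvd h4 hk1
    rw [← ZMod.natCast_zmod_val k]
    exact (ZMod.natCast_eq_zero_iff _ _).mpr h5
  -- conclusion
  let y := dsChar (g ≫ X.q) (Multiplicative.ofAdd (1 : ZMod n))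
  have hy : e y ^ n' = 1 := by
    have h1 := pow_eq_one_of_field p r n' hn e (g ≫ X.q)
    have h2 := congrArg (fun t => dsChar t (Multiplicative.ofAdd (1 : ZMod n))) h1
    change dsChar _ _ = dsChar _ _ at h2
    rw [dsChar_pow, dsChar_one] at h2
    rw [← map_pow, h2, map_one]
  have hn'0 : 0 < n' := Nat.pos_of_ne_zero (by rintro rfl; simp at hn')
  have : NeZero n' := ⟨hn'0.ne'⟩
  obtain ⟨a, _, ha⟩ := hw.eq_pow_of_pow_eq_one hy
  have hgz : g ≫ X.q = (z ^ a) ≫ X.q := by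
    apply ds_ext_zmod
    refine Eq.trans ?_ (congrArg (fun t => dsChar t (Multiplicative.ofAdd 1)) (X.pow_comp_q z a)).symm
    refine Eq.trans ?_ (dsChar_pow (z ≫ X.q) a (Multiplicative.ofAdd 1)).symm
    rw [hz, hζ]
    apply e.injective
    rw [map_pow, RingEquiv.apply_symm_apply, ha]
  have h6 : X.C (f ≫ g) h = X.C (f ≫ z ^ a) h := by
    rw [X.C_swap h, X.C_swap h (f ≫ z ^ a)]
    congr 1
    apply X.C_right_congr
    rw [Category.assoc, Category.assoc, hgz]
  rw [h6, MonObj.comp_pow, X.C_pow_left, hk, hk0, K929.CharLemmas.chi_zero]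
  have h7 : h ≫ X.q ≫ (1 : Red.DS S (ZMod n) ⟶ Red.Gm S) = 1 := by
    rw [MonObj.comp_one, MonObj.comp_one]
  rw [h7]
  exact one_pow a

include X in
/-- A central extension of `μ_n` by `𝔾_m` is commutative. -/
theorem comm {T : Over S} (x y : T ⟶ E) : x * y = y * x := by
  rw [← X.C_eq_one_iff]
  have h := central_of_geometric X x (fun Ω _ _ τ Y f h => by
    exact central_of_field X (τ ≫ T.hom) _ Y f h) T (𝟙 T) y
  rwa [Category.id_comp] at h

omit [NeZero n] in
lemma ds_comm {T : Over S} {M : Type} [AddCommGroup M] (x y : T ⟶ Red.DS S M) : x * y = y * x := by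
  have h : dsChar (x * y) = dsChar (y * x) := by
    rw [dsChar_mul, dsChar_mul, mul_comm]
  rw [← dsEquiv_dsChar (x * y), h, dsEquiv_dsChar]

/-- A central extension of `μ_n` by `𝔾_m` over `Spec R` is commutative. -/
theorem comm_of_diag {R : Type u} [CommRing R] {E : Over (Spec (CommRingCat.of R))} [GrpObj E]
    (i : Red.diag R ℤ ⟶ E) [IsMonHom i] (q : E ⟶ Red.diag R (ZMod n)) [IsMonHom q]
    (hker : AlgGrp.IsKernel i q) (flat : Flat q.left) (surj : Surjective q.left)
    (lfp : LocallyOfFinitePresentation q.left)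
    (hcent : ∀ (T : Over (Spec (CommRingCat.of R))) (g : T ⟶ E) (t : T ⟶ Red.diag R ℤ),
      g * (t ≫ i) = (t ≫ i) * g)
    (T : Over (Spec (CommRingCat.of R))) (g h : T ⟶ E) : g * h = h * g := by
  let e1 : Red.diag R ℤ ≅ Red.Gm (Spec (CommRingCat.of R)) :=
    @asIso _ _ _ _ (RG.BrDiag.diagTo R ℤ) (RG.BrDiag.isIso_diagTo R ℤ)
  let e2 : Red.diag R (ZMod n) ≅ Red.DS (Spec (CommRingCat.of R)) (ZMod n) :=
    @asIso _ _ _ _ (RG.BrDiag.diagTo R (ZMod n)) (RG.BrDiag.isIso_diagTo R (ZMod n))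
  have hm1 : IsMonHom e1.hom := RG.BrDiag.isMonHom_diagTo R ℤ
  have hm2 : IsMonHom e2.hom := RG.BrDiag.isMonHom_diagTo R (ZMod n)
  exact comm (CExt.ofIso i q e1 e2 hker flat surj lfp hcent (fun _ x y => ds_comm x y)
    (fun _ x y => ds_comm x y)) g h

end K267.MuExt
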