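import Groth.Agent.GrpSch.K270.MB.Shape
import Groth.Agent.Sga3B.AffPts
import Groth.Agent.Sga3B.DSPts
import Groth.Agent.Sga3B.Pts
import Groth.Agent.Sga3B.BcSpec144

/-!
# `μ_N^r` as the spectrum of a group algebra, in the vocabulary of `K270.MB`

`Mu R N r = Spec R[(ℤ/N)^r]`, `isMu`; base change `IsMu.bc`; the embedding `μ_N^r ⟶ 𝔾_m^r`.
-/

set_option autoImplicit false
universe u

open CategoryTheory Limits MonoidalCategory CartesianMonoidalCategory MonObj GrpObj AlgebraicGeometry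

namespace K267.MuSch

open scoped TensorProduct

open K270.MB Groth.Agent.Sga3B.AffPts Groth.Agent.Sga3B.DSPts Groth.Agent.Books.AffBridge

section Grp

/-- The character group of `μ_N^r`. -/
abbrev MG (N r : ℕ) : Type := Multiplicative (Fin r → ZMod N)

/-- the basis -/
def bs (N r : ℕ) (j : Fin r) : MG N r := Multiplicative.ofAdd (Pi.single j 1)

theorem bs_pow (N r : ℕ) (j : Fin r) : bs N r j ^ N = 1 := by
  rw [bs, ← ofAdd_nsmul, ← Pi.single_smul]
  simp

theorem eq_prod {N r : ℕ} [NeZero N] (g : MG N r) : g = ∏ j, bs N r j ^ (g.toAdd j).val := by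
  apply Multiplicative.toAdd.injective
  rw [toAdd_prod]
  funext i
  rw [Finset.sum_apply, Finset.sum_eq_single i]
  · rw [bs, toAdd_pow, toAdd_ofAdd, Pi.smul_apply, Pi.single_eq_same, nsmul_one, ZMod.natCast_val,
      ZMod.cast_id]
  · intro j _ hj
    rw [bs, toAdd_pow, toAdd_ofAdd, Pi.smul_apply, Pi.single_eq_of_ne (Ne.symm hj), smul_zero]
  · intro h
    exact absurd (Finset.mem_univ _) h

theorem mg_hom_ext {N r : ℕ} [NeZero N] {E : Type*} [CommMonoid E] {f g : MG N r →* E}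
    (h : ∀ j, f (bs N r j) = g (bs N r j)) : f = g := by
  refine MonoidHom.ext fun x => ?_
  rw [eq_prod x, map_prod, map_prod]
  exact Finset.prod_congr rfl fun j _ => by rw [map_pow, map_pow, h]

theorem exists_mg_hom {N r : ℕ} [NeZero N] {E : Type*} [CommGroup E] (v : Fin r → E)
    (hv : ∀ j, v j ^ N = 1) : ∃ f : MG N r →* E, ∀ j, f (bs N r j) = v j := by
  let c : Fin r → (ZMod N →+ Additive E) := fun j =>
    ZMod.lift N ⟨(zmultiplesHom (Additive E)) (Additive.ofMul (v j)), by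
      rw [zmultiplesHom_apply, natCast_zsmul, ← ofMul_pow, hv, ofMul_one]⟩
  let C : (Fin r → ZMod N) →+ Additive E := ∑ j, (c j).comp (Pi.evalAddMonoidHom _ j)
  refine ⟨AddMonoidHom.toMultiplicativeLeft C, fun j => ?_⟩
  change Additive.toMul (C (Pi.single j 1)) = v j
  have h1 : C (Pi.single j 1) = Additive.ofMul (v j) := by
    rw [AddMonoidHom.finsetSum_apply, Finset.sum_eq_single j]
    · rw [AddMonoidHom.comp_apply, Pi.evalAddMonoidHom_apply, Pi.single_eq_same]
      have h2 : (1 : ZMod N) = ((1 : ℤ) : ZMod N) := by simp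
      rw [h2, ZMod.lift_coe]
      simp
    · intro i _ hi
      rw [AddMonoidHom.comp_apply, Pi.evalAddMonoidHom_apply, Pi.single_eq_of_ne hi, map_zero]
    · intro h
      exact absurd (Finset.mem_univ _) h
  rw [h1]
  rfl

end Grp

section Mu

variable (R : Type u) [CommRing R] (N r : ℕ)

/-- `μ_N^r` over `R`. -/
noncomputable abbrev Mu : Over (Spec (CommRingCat.of R)) := SpecOver R (MonoidAlgebra R (MG N r))

/-- The universal characters. -/
noncomputable def chi (j : Fin r) : U (Mu R N r) :=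
  (Units.map ((fnSpec (R := R) (MonoidAlgebra R (MG N r))).symm.toAlgHom.toRingHom.toMonoidHom :
    MonoidAlgebra R (MG N r) →* Fn (Mu R N r))
    ((MonoidHom.toHomUnits (MonoidAlgebra.of R (MG N r))) (bs N r j)) : (Fn (Mu R N r))ˣ)

variable {R N r}

theorem val_ures_chi {T : Over (Spec (CommRingCat.of R))} (g : MonoidAlgebra R (MG N r) →ₐ[R] Fn T) (j : Fin r) :
    ((ures (affPt T g) (chi R N r j) : U T) : Γ(T.left, ⊤)) = g (MonoidAlgebra.of R _ (bs N r j)) := by
  have h := congrArg (fun k : MonoidAlgebra R (MG N r) →ₐ[R] Fn T => k (MonoidAlgebra.of R _ (bs N r j)))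
    (Groth.Agent.Sga3B.BcSpec144.fnMap_affPt T g)
  exact h

theorem chi_pow (j : Fin r) : chi R N r j ^ N = 1 := by
  have h : ((MonoidHom.toHomUnits (MonoidAlgebra.of R (MG N r))) (bs N r j)) ^ N = 1 := by
    rw [← map_pow, bs_pow, map_one]
  have h2 := congrArg (Units.map ((fnSpec (R := R) (MonoidAlgebra R (MG N r))).symm.toAlgHom.toRingHom.toMonoidHom :
    MonoidAlgebra R (MG N r) →* Fn (Mu R N r))) h
  rw [map_pow, map_one] at h2
  exact h2

/-- **`μ_N^r`.** -/
theorem isMu [NeZero N] : IsMu N r (Mu R N r) (chi R N r) where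
  mul {T} x y j := by
    obtain ⟨f, rfl⟩ := (affEquiv T).surjective x
    obtain ⟨g, rfl⟩ := (affEquiv T).surjective y
    rw [← map_mul]
    apply Units.ext
    rw [Units.val_mul]
    rw [affEquiv_apply, affEquiv_apply, affEquiv_apply, val_ures_chi, val_ures_chi, val_ures_chi]
    have h : CoalgebraStruct.comul (R := R) (MonoidAlgebra.of R (MG N r) (bs N r j)) =
        MonoidAlgebra.of R (MG N r) (bs N r j) ⊗ₜ[R] MonoidAlgebra.of R (MG N r) (bs N r j) := by
      simp [MonoidAlgebra.of_apply]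
    rw [AlgHom.convMul_apply, h]
    rfl
  pow j := chi_pow j
  bij {T} v hv := by
    obtain ⟨c, hc⟩ := exists_mg_hom v hv
    let c' : MG N r →* Fn T := (Units.coeHom Γ(T.left, ⊤)).comp c
    refine ⟨affPt T (MonoidAlgebra.lift R (Fn T) (MG N r) c'), fun j => ?_, fun y hy => ?_⟩
    · apply Units.ext
      rw [val_ures_chi, MonoidAlgebra.lift_of]
      change ((c (bs N r j) : U T) : Γ(T.left, ⊤)) = _
      rw [hc]
    · obtain ⟨g, rfl⟩ := (affPt_bijective T).2 y
      congr 1
      apply (MonoidAlgebra.lift R (Fn T) (MG N r)).symm.injective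
      rw [Equiv.symm_apply_apply]
      apply mg_hom_ext
      intro j
      have h := congrArg Units.val (hy j)
      rw [val_ures_chi] at h
      rw [MonoidAlgebra.lift_symm_apply]
      refine h.trans ?_
      change _ = ((c (bs N r j) : U T) : Γ(T.left, ⊤))
      rw [hc]

end Mu

section General

variable {S S' : Scheme.{u}} (f : S' ⟶ S)

/-- Base change of units. -/
noncomputable def bcU {M : Over S} (u : U M) : U ((Over.pullback f).obj M) :=
  Units.map ((pullback.fst M.hom f).appTop.hom : Γ(M.left, ⊤) →* Γ(pullback M.hom f, ⊤)) u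

theorem ures_bcEquiv {M : Over S} [GrpObj M] (T : Over S') (x : (Over.map f).obj T ⟶ M) (u : U M) :
    (ures (bcEquiv f T M x : T ⟶ (Over.pullback f).obj M) (bcU f u) : Γ(T.left, ⊤)ˣ) =
      (ures x u : Γ(T.left, ⊤)ˣ) := by
  apply Units.ext
  change (bcEquiv f T M x).left.appTop ((pullback.fst M.hom f).appTop (u : Γ(M.left, ⊤))) =
    x.left.appTop (u : Γ(M.left, ⊤))
  rw [← bcEquiv_fst f T M x, Scheme.Hom.comp_appTop]
  rfl

theorem bcU_ures {M M' : Over S} (g : M' ⟶ M) (u : U M) :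
    bcU f (ures g u) = ures ((Over.pullback f).map g) (bcU f u) := by
  apply Units.ext
  change (pullback.fst M'.hom f).appTop (g.left.appTop (u : Γ(M.left, ⊤))) =
    ((Over.pullback f).map g).left.appTop ((pullback.fst M.hom f).appTop (u : Γ(M.left, ⊤)))
  have h : ((Over.pullback f).map g).left ≫ pullback.fst M.hom f = pullback.fst M'.hom f ≫ g.left :=
    pullback.lift_fst _ _ _
  have h1 := congrArg (fun k => (k.appTop).hom (u : Γ(M.left, ⊤))) h
  simp only [Scheme.Hom.comp_appTop] at h1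
  exact h1.symm

theorem isMu_bc {N r : ℕ} {M : Over S} [GrpObj M] {χ : Fin r → U M} (h : IsMu N r M χ) :
    IsMu N r (Red.bc f M) (fun j => bcU f (χ j)) where
  mul {T} x y j := by
    obtain ⟨x, rfl⟩ := (bcEquiv f T M).surjective x
    obtain ⟨y, rfl⟩ := (bcEquiv f T M).surjective y
    rw [← map_mul]
    have h1 := ures_bcEquiv f T (x * y) (χ j)
    rw [h.mul x y j] at h1
    refine h1.trans ?_
    exact congrArg₂ (fun a b : Γ(T.left, ⊤)ˣ => a * b) (ures_bcEquiv f T x (χ j)).symm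
      (ures_bcEquiv f T y (χ j)).symm
  pow j := by
    have h1 := congrArg (bcU f) (h.pow j)
    change Units.map _ (χ j ^ N) = Units.map _ 1 at h1
    rw [map_pow, map_one] at h1
    exact h1
  bij {T} v hv := by
    obtain ⟨x, hx, hx'⟩ := h.bij (T := (Over.map f).obj T) v hv
    refine ⟨bcEquiv f T M x, fun j => ?_, fun y hy => ?_⟩
    · exact (ures_bcEquiv f T x (χ j)).trans (hx j)
    · obtain ⟨y, rfl⟩ := (bcEquiv f T M).surjective y
      rw [hx' y fun j => ?_]
      exact (ures_bcEquiv f T y (χ j)).symm.trans (hy j)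

end General

section Emb

variable {S : Scheme.{u}} {N r : ℕ} {M T : Over S} [GrpObj M] [GrpObj T]
  {χ : Fin r → U M} {χ₀ : Fin r → U T}

theorem ures_one (hT : IsGmPow r T χ₀) {X : Over S} (j : Fin r) : ures (1 : X ⟶ T) (χ₀ j) = 1 := by
  have h := hT.mul (1 : X ⟶ T) 1 j
  rw [_root_.mul_one] at h
  exact (mul_eq_left.mp h.symm)

theorem ures_pow (hT : IsGmPow r T χ₀) {X : Over S} (x : X ⟶ T) (n : ℕ) (j : Fin r) :
    ures (x ^ n) (χ₀ j) = ures x (χ₀ j) ^ n := by
  induction n with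
  | zero => rw [pow_zero, pow_zero, ures_one hT]
  | succ n ih => rw [pow_succ, pow_succ, hT.mul, ih]

theorem ures_mu_one (h : IsMu N r M χ) {X : Over S} (j : Fin r) : ures (1 : X ⟶ M) (χ j) = 1 := by
  have h := h.mul (1 : X ⟶ M) 1 j
  rw [_root_.mul_one] at h
  exact (mul_eq_left.mp h.symm)

theorem ures_mu_pow (h : IsMu N r M χ) {X : Over S} (x : X ⟶ M) (n : ℕ) (j : Fin r) :
    ures (x ^ n) (χ j) = ures x (χ j) ^ n := by
  induction n with
  | zero => rw [pow_zero, pow_zero, ures_mu_one h]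
  | succ n ih => rw [pow_succ, pow_succ, h.mul, ih]

theorem mu_ext (h : IsMu N r M χ) {X : Over S} {x y : X ⟶ M} (hxy : ∀ j, ures x (χ j) = ures y (χ j)) :
    x = y := by
  obtain ⟨z, _, hz⟩ := h.bij (fun j => ures y (χ j)) fun j => by
    rw [← map_pow, h.pow, map_one]
  rw [hz x hxy, hz y fun j => rfl]

theorem gm_ext (h : IsGmPow r T χ₀) {X : Over S} {x y : X ⟶ T}
    (hxy : ∀ j, ures x (χ₀ j) = ures y (χ₀ j)) : x = y := by
  obtain ⟨z, _, hz⟩ := h.bij (fun j => ures y (χ₀ j))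
  rw [hz x hxy, hz y fun j => rfl]

/-- Homomorphisms to `μ_N^r` are determined by their characters: criterion. -/
theorem isMonHom_to_mu {G : Over S} [GrpObj G] (h : IsMu N r M χ) (g : G ⟶ M)
    (hg : ∀ {X : Over S} (x y : X ⟶ G) (j : Fin r), ures (x * y) (ures g (χ j)) =
      ures x (ures g (χ j)) * ures y (ures g (χ j))) : IsMonHom g := by
  refine Groth.Agent.Sga3B.Pts.isMonHom_of_points g fun X x y => mu_ext h fun j => ?_
  rw [h.mul, ures_comp, ures_comp, ures_comp, hg]

theorem pow_eq_one (h : IsMu N r M χ) {X : Over S} (x : X ⟶ M) : x ^ N = 1 :=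
  mu_ext h fun j => by
    rw [ures_mu_pow h, ures_mu_one h, ← map_pow, h.pow, map_one]

/-- The embedding `μ_N^r ⟶ 𝔾_m^r`. -/
theorem exists_emb (h : IsMu N r M χ) (hT : IsGmPow r T χ₀) :
    ∃ g : M ⟶ T, IsMonHom g ∧ Mono g ∧ (∀ j, ures g (χ₀ j) = χ j) ∧
      ∀ {X : Over S} (x : X ⟶ T), x ^ N = 1 → Fac g x := by
  obtain ⟨g, hg, _⟩ := hT.bij χ
  refine ⟨g, ?_, ⟨fun x y hxy => ?_⟩, hg, fun {X} x hx => ?_⟩
  · refine Groth.Agent.Sga3B.Pts.isMonHom_of_points g fun X x y => gm_ext hT fun j => ?_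
    rw [hT.mul, ures_comp, ures_comp, ures_comp, hg, h.mul]
  · apply mu_ext h
    intro j
    rw [← hg, ← ures_comp, ← ures_comp, hxy]
  · obtain ⟨y, hy, _⟩ := h.bij (fun j => ures x (χ₀ j)) fun j => by
      rw [← ures_pow hT, hx, ures_one hT]
    refine ⟨y, gm_ext hT fun j => ?_⟩
    rw [ures_comp, hg, hy]

end Emb

end K267.MuSch
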