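import Groth.Prelude.Def_CartDual2
import Groth.Agent.GrpSch.K267.IdemLift
import Mathlib.RingTheory.Bialgebra.MonoidAlgebra
import Mathlib.RingTheory.HopfAlgebra.MonoidAlgebra
import Mathlib.RingTheory.Nakayama
import Groth.Agent.Sga3A.FibTors2

/-!
# Lifting homomorphisms from diagonalizable groups over a strictly henselian ring

`R` henselian local with separably closed residue field, `κ` a field with a local homomorphism
`R → κ`, `B` a finite projective commutative and cocommutative Hopf algebra over `R`, `G` a finite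
commutative group.  A bialgebra map `κ ⊗ B → κ[G]` lifts uniquely to a bialgebra map `B → R[G]`,
which is surjective if the given one is.
-/

set_option autoImplicit false
set_option linter.unusedSectionVars false

universe u

open TensorProduct IsLocalRing CartDual

namespace K267.MultLift

section Theta

variable {R : Type u} [CommRing R] {κ : Type u} [Field κ] [Algebra R κ]

/-- `κ ⊗ V^* ≃ Hom(V, κ)`. -/
noncomputable def Λ (V : Type u) [AddCommGroup V] [Module R V] [Module.Finite R V]
    [Module.Projective R V] : κ ⊗[R] Module.Dual R V ≃ₗ[R] (V →ₗ[R] κ) :=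
  (TensorProduct.comm R κ (Module.Dual R V)) ≪≫ₗ dualTensorHomEquiv R V κ

theorem Λ_tmul (V : Type u) [AddCommGroup V] [Module R V] [Module.Finite R V]
    [Module.Projective R V] (a : κ) (x : Module.Dual R V) (v : V) :
    Λ V (a ⊗ₜ[R] x) v = x v • a := by
  simp [Λ]

theorem one_tmul_eq {V : Type u} [AddCommGroup V] [Module R V] [Module.Finite R V]
    [Module.Projective R V] {x y : Module.Dual R V}
    (h : ∀ v, algebraMap R κ (x v) = algebraMap R κ (y v)) : (1 : κ) ⊗ₜ[R] x = 1 ⊗ₜ[R] y := by
  apply (Λ V).injective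
  ext v
  rw [Λ_tmul, Λ_tmul, Algebra.smul_def, Algebra.smul_def, h]

variable {B : Type u} [CommRing B] [HopfAlgebra R B] [Coalgebra.IsCocomm R B]
  [Module.Finite R B] [Module.Projective R B]

noncomputable instance instD : NonUnitalNonAssocSemiring (κ ⊗[R] D R B) :=
  (Algebra.TensorProduct.instCommRing : CommRing (κ ⊗[R] D R B)).toNonUnitalNonAssocSemiring

noncomputable instance instDD : NonUnitalNonAssocSemiring (D R B ⊗[R] D R B) :=
  (Algebra.TensorProduct.instCommRing : CommRing (D R B ⊗[R] D R B)).toNonUnitalNonAssocSemiring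

/-- `κ ⊗ D ≃ Hom(B, κ)`. -/
noncomputable def Θ : κ ⊗[R] D R B ≃ₗ[R] (B →ₗ[R] κ) :=
  (TensorProduct.congr (LinearEquiv.refl R κ) (toDual R B)) ≪≫ₗ Λ B

omit [Coalgebra.IsCocomm R B] in
theorem Θ_tmul (a : κ) (x : D R B) (b : B) : Θ (a ⊗ₜ[R] x) b = x b • a := by
  simp only [Θ, LinearEquiv.trans_apply, TensorProduct.congr_tmul, LinearEquiv.refl_apply, Λ_tmul]
  rfl

theorem Θ_mul (z z' : κ ⊗[R] D R B) :
    WithConv.toConv (Θ (z * z')) = WithConv.toConv (Θ z) * WithConv.toConv (Θ z') := by
  induction z using TensorProduct.induction_on with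
  | zero => simp
  | add z₁ z₂ h1 h2 => rw [add_mul, map_add, map_add, WithConv.toConv_add, WithConv.toConv_add, h1,
      h2, add_mul]
  | tmul a x =>
    induction z' using TensorProduct.induction_on with
    | zero => simp
    | add z₁ z₂ h1 h2 => rw [mul_add, map_add, map_add, WithConv.toConv_add, WithConv.toConv_add,
        h1, h2, mul_add]
    | tmul a' x' =>
      apply WithConv.ext
      apply LinearMap.ext
      intro b
      rw [Algebra.TensorProduct.tmul_mul_tmul]
      change Θ ((a * a') ⊗ₜ[R] (x * x')) b = _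
      rw [Θ_tmul]
      have h1 : (x * x') b = LinearMap.mul' R R (TensorProduct.map x.ofConv x'.ofConv
          (Coalgebra.comul (R := R) b)) := rfl
      have h2 : (WithConv.toConv (Θ (a ⊗ₜ[R] x)) * WithConv.toConv (Θ (a' ⊗ₜ[R] x'))).ofConv b =
        LinearMap.mul' R κ (TensorProduct.map (Θ (a ⊗ₜ[R] x)) (Θ (a' ⊗ₜ[R] x'))
          (Coalgebra.comul (R := R) b)) := rfl
      rw [h1, h2]
      generalize Coalgebra.comul (R := R) b = t
      induction t using TensorProduct.induction_on with
      | zero => simp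
      | add t₁ t₂ h3 h4 => rw [map_add, map_add, map_add, map_add, add_smul, h3, h4]
      | tmul b b' =>
        rw [TensorProduct.map_tmul, TensorProduct.map_tmul, LinearMap.mul'_apply,
          LinearMap.mul'_apply, Θ_tmul, Θ_tmul]
        simp only [smul_mul_smul_comm]

end Theta

section Main

variable {R : Type u} [CommRing R] [HenselianLocalRing R] [IsSepClosed (ResidueField R)]
  {κ : Type u} [Field κ] [Algebra R κ] (hφ : RingHom.ker (algebraMap R κ) = maximalIdeal R)
  {B : Type u} [CommRing B] [HopfAlgebra R B] [Coalgebra.IsCocomm R B]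
  [Module.Finite R B] [Module.Projective R B]

include hφ

/-- Idempotents of the dual algebra lift. -/
theorem exists_idem (ψ : WithConv (B →ₗ[R] κ)) (hψ : IsIdempotentElem ψ) :
    ∃ c : D R B, IsIdempotentElem c ∧ ∀ b, algebraMap R κ (c b) = ψ b := by
  obtain ⟨z, hz⟩ := (Θ (R := R) (κ := κ) (B := B)).surjective ψ.ofConv
  have h1 : IsIdempotentElem z := by
    apply (Θ (R := R) (κ := κ) (B := B)).injective
    have h2 := Θ_mul z z
    rw [hz] at h2
    have h3 : WithConv.toConv (Θ (z * z)) = ψ := h2.trans hψ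
    rw [hz]
    exact congrArg WithConv.ofConv h3
  obtain ⟨c, hc, hc'⟩ := IdemLift.exists_idem hφ (C := D R B) h1
  refine ⟨c, hc, fun b => ?_⟩
  have h4 := Θ_tmul (1 : κ) c b
  rw [hc', hz] at h4
  rw [Algebra.smul_def, mul_one] at h4
  exact h4.symm

omit [IsSepClosed (ResidueField R)] in
theorem idem_ext [IsSepClosed (ResidueField R)] {c c' : D R B} (hc : IsIdempotentElem c)
    (hc' : IsIdempotentElem c')
    (h : ∀ b, algebraMap R κ (c b) = algebraMap R κ (c' b)) : c = c' := by
  refine IdemLift.eq_of_includeRight_eq hφ hc hc' ?_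
  apply (Θ (R := R) (κ := κ) (B := B)).injective
  ext b
  rw [Θ_tmul, Θ_tmul, Algebra.smul_def, Algebra.smul_def, h]

theorem idem_ext₂ {x y : D R B ⊗[R] D R B} (hx : IsIdempotentElem x) (hy : IsIdempotentElem y)
    (h : ∀ b b', algebraMap R κ (ev₂ R B x (b ⊗ₜ b')) = algebraMap R κ (ev₂ R B y (b ⊗ₜ b'))) :
    x = y := by
  refine IdemLift.eq_of_includeRight_eq hφ hx hy ?_
  have h1 : (1 : κ) ⊗ₜ[R] (ev₂ R B x) = 1 ⊗ₜ[R] (ev₂ R B y) := by
    refine one_tmul_eq fun t => ?_
    induction t using TensorProduct.induction_on with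
    | zero => simp
    | tmul b b' => exact h b b'
    | add t t' h1 h2 => rw [map_add, map_add, map_add, map_add, h1, h2]
  apply ((ev₂ R B).lTensor κ).injective
  exact h1

end Main

section Coeff

variable {K : Type*} [CommRing K] {G : Type*} [Group G] [Fintype G] [DecidableEq G]

/-- The coefficient of `g`. -/
noncomputable def cf (g : G) : MonoidAlgebra K G →ₗ[K] K where
  toFun x := x.coeff g
  map_add' x y := by simp
  map_smul' r x := by simp

omit [Fintype G] [Group G] in
theorem cf_single (g h : G) (a : K) : cf g (MonoidAlgebra.single h a) = if h = g then a else 0 := by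
  change (MonoidAlgebra.single h a).coeff g = _
  rw [MonoidAlgebra.coeff_single, Finsupp.single_apply]

omit [Fintype G] [DecidableEq G] [Group G] in
theorem ext_cf {x y : MonoidAlgebra K G} (h : ∀ g, cf g x = cf g y) : x = y := by
  ext g
  exact h g

theorem cf_mul (x y : MonoidAlgebra K G) (g : G) :
    cf g (x * y) = ∑ h, cf h x * cf (h⁻¹ * g) y := by
  induction x using MonoidAlgebra.induction_linear with
  | zero => simp
  | add x x' h1 h2 => rw [add_mul, map_add, h1, h2, ← Finset.sum_add_distrib]; simp [add_mul]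
  | single h a =>
    induction y using MonoidAlgebra.induction_linear with
    | zero => simp
    | add y y' h1 h2 => rw [mul_add, map_add, h1, h2, ← Finset.sum_add_distrib]; simp [mul_add]
    | single k b =>
      rw [MonoidAlgebra.single_mul_single, cf_single, Finset.sum_eq_single h]
      · rw [cf_single, cf_single, if_pos rfl]
        by_cases hk : h * k = g
        · rw [if_pos hk, if_pos (by rw [← hk, inv_mul_cancel_left])]
        · rw [if_neg hk, if_neg (fun h' => hk (by rw [h', mul_inv_cancel_left])), mul_zero]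
      · intro h' _ hne
        rw [cf_single, if_neg (Ne.symm hne), zero_mul]
      · intro h'
        exact absurd (Finset.mem_univ _) h'

theorem sum_cf (x : MonoidAlgebra K G) : ∑ g, cf g x = Coalgebra.counit (R := K) x := by
  induction x using MonoidAlgebra.induction_linear with
  | zero => simp
  | add x x' h1 h2 => rw [map_add, ← h1, ← h2, ← Finset.sum_add_distrib]; simp
  | single h a => simp [cf_single]

/-- The coefficient of `g ⊗ h`. -/
noncomputable def cc (g h : G) : MonoidAlgebra K G ⊗[K] MonoidAlgebra K G →ₗ[K] K :=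
  LinearMap.mul' K K ∘ₗ TensorProduct.map (cf g) (cf h)

omit [Fintype G] [DecidableEq G] in
theorem cc_tmul (g h : G) (x y : MonoidAlgebra K G) : cc g h (x ⊗ₜ y) = cf g x * cf h y := rfl

theorem cc_comul (g h : G) (x : MonoidAlgebra K G) :
    cc g h (Coalgebra.comul (R := K) x) = if g = h then cf g x else 0 := by
  induction x using MonoidAlgebra.induction_linear with
  | zero => simp
  | add x x' h1 h2 => rw [map_add, map_add, h1, h2, map_add]; split_ifs <;> simp
  | single k a =>
    rw [MonoidAlgebra.comul_single]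
    simp only [CommSemiring.comul_apply, TensorProduct.map_tmul, MonoidAlgebra.lsingle_apply]
    rw [cc_tmul, cf_single, cf_single]
    by_cases hgh : g = h
    · subst hgh
      by_cases hk : k = g
      · simp [hk, cf_single]
      · simp [hk, cf_single]
    · rw [if_neg hgh]
      by_cases hk : k = g
      · rw [if_neg (fun h' => hgh (hk.symm.trans h')), mul_zero]
      · rw [if_neg hk, zero_mul]

end Coeff

section Lift

variable {R : Type u} [CommRing R] [HenselianLocalRing R] [IsSepClosed (ResidueField R)]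
  {κ : Type u} [Field κ] [Algebra R κ] (hφ : RingHom.ker (algebraMap R κ) = maximalIdeal R)
  {B : Type u} [CommRing B] [HopfAlgebra R B] [Coalgebra.IsCocomm R B]
  [Module.Finite R B] [Module.Projective R B]
  {G : Type*} [Group G] [Fintype G] [DecidableEq G]
  (F : κ ⊗[R] B →ₐc[κ] MonoidAlgebra κ G)

/-- The linear forms `b ↦ coefficient of g in F(1 ⊗ b)`. -/
noncomputable def ψ (g : G) : WithConv (B →ₗ[R] κ) :=
  WithConv.toConv
    { toFun := fun b => cf g (F (1 ⊗ₜ[R] b))
      map_add' := fun b b' => by rw [TensorProduct.tmul_add, map_add, map_add]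
      map_smul' := fun r b => by
        have h1 : (1 : κ) ⊗ₜ[R] (r • b) = (algebraMap R κ r) • ((1 : κ) ⊗ₜ[R] b) := by
          rw [TensorProduct.tmul_smul, algebraMap_smul]
        rw [h1, map_smul, map_smul, RingHom.id_apply, algebraMap_smul] }

theorem ψ_apply (g : G) (b : B) : ψ F g b = cf g (F (1 ⊗ₜ[R] b)) := rfl

theorem ψ_mul (g h : G) : ψ F g * ψ F h = if g = h then ψ F g else 0 := by
  apply WithConv.ext
  apply LinearMap.ext
  intro b
  have h1 : (ψ F g * ψ F h).ofConv b = LinearMap.mul' R κ (TensorProduct.map (ψ F g).ofConv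
    (ψ F h).ofConv (Coalgebra.comul (R := R) b)) := rfl
  rw [h1]
  have h2 : ∀ t : B ⊗[R] B, LinearMap.mul' R κ (TensorProduct.map (ψ F g).ofConv
      (ψ F h).ofConv t) = cc g h (TensorProduct.map (F : κ ⊗[R] B →ₗ[κ] MonoidAlgebra κ G)
        (F : κ ⊗[R] B →ₗ[κ] MonoidAlgebra κ G)
        (TensorProduct.AlgebraTensorModule.distribBaseChange R κ B B ((1 : κ) ⊗ₜ[R] t))) := by
    intro t
    induction t using TensorProduct.induction_on with
    | zero => simp
    | add t t' h3 h4 => rw [map_add, map_add, h3, h4, TensorProduct.tmul_add, map_add, map_add, map_add]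
    | tmul b b' =>
      rfl
  rw [h2, ← Groth.Agent.Sga3A.FibTors2.comul_one_tmul]
  have h3 : TensorProduct.map (F : κ ⊗[R] B →ₗ[κ] MonoidAlgebra κ G)
      (F : κ ⊗[R] B →ₗ[κ] MonoidAlgebra κ G) (Coalgebra.comul (R := κ) ((1 : κ) ⊗ₜ[R] b)) =
      Coalgebra.comul (R := κ) (F ((1 : κ) ⊗ₜ[R] b)) :=
    CoalgHomClass.map_comp_comul_apply F ((1 : κ) ⊗ₜ[R] b)
  rw [h3, cc_comul]
  split_ifs <;> rfl

theorem sum_ψ (b : B) : ∑ g, ψ F g b = algebraMap R κ (Coalgebra.counit (R := R) b) := by
  have h1 : ∑ g, ψ F g b = ∑ g, cf g (F (1 ⊗ₜ[R] b)) := rfl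
  rw [h1, sum_cf]
  have h2 := CoalgHomClass.counit_comp_apply F ((1 : κ) ⊗ₜ[R] b)
  rw [h2]
  simp [Algebra.algebraMap_eq_smul_one]

/-- Products of linear forms and their reductions. -/
theorem map_mul_apply (c c' : D R B) (ψ₁ ψ₂ : WithConv (B →ₗ[R] κ))
    (h1 : ∀ b, algebraMap R κ (c b) = ψ₁ b) (h2 : ∀ b, algebraMap R κ (c' b) = ψ₂ b) (b : B) :
    algebraMap R κ ((c * c') b) = (ψ₁ * ψ₂) b := by
  have e1 : (c * c') b = LinearMap.mul' R R (TensorProduct.map c.ofConv c'.ofConv
    (Coalgebra.comul (R := R) b)) := rfl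
  have e2 : (ψ₁ * ψ₂) b = LinearMap.mul' R κ (TensorProduct.map ψ₁.ofConv ψ₂.ofConv
    (Coalgebra.comul (R := R) b)) := rfl
  rw [e1, e2]
  generalize Coalgebra.comul (R := R) b = t
  induction t using TensorProduct.induction_on with
  | zero => simp
  | add t t' h3 h4 => rw [map_add, map_add, map_add, map_add, map_add, h3, h4]
  | tmul b b' =>
    rw [TensorProduct.map_tmul, TensorProduct.map_tmul, LinearMap.mul'_apply, LinearMap.mul'_apply,
      map_mul]
    exact congrArg₂ _ (h1 b) (h2 b')

include hφ

theorem exists_system : ∃ c : G → D R B, (∀ g b, algebraMap R κ (c g b) = ψ F g b) ∧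
    (∀ g h, c g * c h = if g = h then c g else 0) ∧ (∑ g, c g = 1) ∧
    (∀ g b b', c g (b * b') = ∑ h, c h b * c (h⁻¹ * g) b') ∧ (∀ g, c g 1 = if g = 1 then 1 else 0) := by
  have h1 : ∀ g, IsIdempotentElem (ψ F g) := fun g => by
    have := ψ_mul F g g
    rw [if_pos rfl] at this
    exact this
  choose c hc hcψ using fun g => exists_idem hφ (ψ F g) (h1 g)
  have horth : ∀ g h, c g * c h = if g = h then c g else 0 := by
    intro g h
    refine idem_ext hφ ((hc g).mul_of_commute (Commute.all _ _) (hc h)) ?_ fun b => ?_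
    · split_ifs
      · exact hc g
      · exact IsIdempotentElem.zero
    · rw [map_mul_apply (c g) (c h) (ψ F g) (ψ F h) (hcψ g) (hcψ h), ψ_mul]
      split_ifs
      · exact (hcψ g b).symm
      · exact (map_zero _).symm
  have hsum : ∑ g, c g = 1 := by
    have hi : IsIdempotentElem (∑ g, c g) := by
      change (∑ g, c g) * (∑ g, c g) = ∑ g, c g
      rw [Finset.sum_mul_sum]
      simp [horth]
    refine idem_ext hφ hi IsIdempotentElem.one fun b => ?_
    have e1 : (∑ g, c g) b = ∑ g, c g b := by
      simp only [WithConv.ofConv_sum, LinearMap.sum_apply]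
    rw [e1, map_sum]
    simp only [hcψ]
    rw [sum_ψ]
    rfl
  refine ⟨c, hcψ, horth, hsum, fun g b b' => ?_, fun g => ?_⟩
  · have key : Coalgebra.comul (R := R) (c g) = ∑ h, c h ⊗ₜ[R] c (h⁻¹ * g) := by
      refine idem_ext₂ hφ ?_ ?_ fun b b' => ?_
      · have := (hc g).map (Bialgebra.comulAlgHom R (D R B))
        exact this
      · change (∑ h, c h ⊗ₜ[R] c (h⁻¹ * g)) * (∑ h, c h ⊗ₜ[R] c (h⁻¹ * g)) = _
        rw [Finset.sum_mul_sum]
        refine Finset.sum_congr rfl fun h _ => ?_
        rw [Finset.sum_eq_single h]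
        · rw [Algebra.TensorProduct.tmul_mul_tmul]
          exact congrArg₂ _ (hc h) (hc _)
        · intro h' _ hne
          rw [Algebra.TensorProduct.tmul_mul_tmul, horth h h', if_neg (Ne.symm hne), zero_tmul]
        · intro h'
          exact absurd (Finset.mem_univ _) h'
      · rw [ev₂_coalgebra_comul_tmul, hcψ, ψ_apply]
        have e1 : (1 : κ) ⊗ₜ[R] (b * b') = ((1 : κ) ⊗ₜ[R] b) * ((1 : κ) ⊗ₜ[R] b') := by
          rw [Algebra.TensorProduct.tmul_mul_tmul, mul_one]
        rw [e1, map_mul, cf_mul, map_sum, LinearMap.sum_apply, map_sum]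
        refine Finset.sum_congr rfl fun h _ => ?_
        rw [ev₂_tmul, map_mul, hcψ, hcψ]
        rfl
    have h2 := ev₂_coalgebra_comul_tmul R B (c g) b b'
    rw [← h2, key, map_sum, LinearMap.sum_apply]
    refine Finset.sum_congr rfl fun h _ => ?_
    rw [ev₂_tmul]
  · have h2 : IsIdempotentElem (c g 1) := by
      have := (hc g).map (Bialgebra.counitAlgHom R (D R B))
      exact this
    have h3 : algebraMap R κ (c g 1) = if g = 1 then 1 else 0 := by
      rw [hcψ, ψ_apply, ← Algebra.TensorProduct.one_def, map_one, MonoidAlgebra.one_def, cf_single]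
      simp only [eq_comm]
    rcases IsLocalRing.isUnit_or_isUnit_of_add_one (a := c g 1) (b := 1 - c g 1) (by ring) with h4 | h4
    · have h5 : c g 1 = 1 := by
        have h6 : c g 1 * c g 1 = c g 1 * 1 := by rw [mul_one]; exact h2
        exact h4.mul_left_cancel h6
      rw [h5, map_one] at h3
      rw [h5]
      split_ifs at h3 ⊢ with h7
      · rfl
      · exact absurd h3 one_ne_zero
    · have h5 : c g 1 = 0 := by
        have h6 : (1 - c g 1) * c g 1 = (1 - c g 1) * 0 := by
          rw [mul_zero, sub_mul, one_mul]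
          exact sub_eq_zero.mpr h2.symm
        exact h4.mul_left_cancel h6
      rw [h5, map_zero] at h3
      rw [h5]
      split_ifs at h3 ⊢ with h7
      · exact absurd h3.symm one_ne_zero
      · rfl

end Lift

section Hom

variable {R : Type u} [CommRing R] {B : Type u} [CommRing B] [HopfAlgebra R B]
  {G : Type*} [Group G] [Fintype G] [DecidableEq G]

theorem ext_cc {x y : MonoidAlgebra R G ⊗[R] MonoidAlgebra R G}
    (h : ∀ g k, cc g k x = cc g k y) : x = y := by
  have key : ∀ z : MonoidAlgebra R G ⊗[R] MonoidAlgebra R G, z = ∑ g : G, ∑ k : G,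
      cc g k z • ((MonoidAlgebra.single g (1 : R)) ⊗ₜ[R] (MonoidAlgebra.single k (1 : R))) := by
    intro z
    induction z using TensorProduct.induction_on with
    | zero => simp
    | add z z' h1 h2 =>
      conv_lhs => rw [h1, h2]
      rw [← Finset.sum_add_distrib]
      refine Finset.sum_congr rfl fun g _ => ?_
      rw [← Finset.sum_add_distrib]
      refine Finset.sum_congr rfl fun k _ => ?_
      rw [map_add, add_smul]
    | tmul a b =>
      have e : ∀ w : MonoidAlgebra R G, w = ∑ g : G, cf g w • MonoidAlgebra.single g (1 : R) := by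
        intro w
        apply ext_cf
        intro g
        rw [map_sum, Finset.sum_eq_single g]
        · rw [map_smul, cf_single, if_pos rfl, smul_eq_mul, mul_one]
        · intro h _ hne
          rw [map_smul, cf_single, if_neg hne, smul_zero]
        · intro h'
          exact absurd (Finset.mem_univ _) h'
      conv_lhs => rw [e a, e b]
      rw [TensorProduct.sum_tmul]
      refine Finset.sum_congr rfl fun g _ => ?_
      rw [TensorProduct.tmul_sum]
      refine Finset.sum_congr rfl fun k _ => ?_
      rw [TensorProduct.smul_tmul_smul, cc_tmul]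
  rw [key x, key y]
  simp only [h]

/-- The linear map attached to a family of linear forms. -/
noncomputable def homL (c : G → D R B) : B →ₗ[R] MonoidAlgebra R G :=
  ∑ g, (MonoidAlgebra.lsingle g : R →ₗ[R] MonoidAlgebra R G) ∘ₗ (c g).ofConv

theorem cf_homL (c : G → D R B) (g : G) (b : B) : cf g (homL c b) = c g b := by
  rw [homL, LinearMap.sum_apply, map_sum, Finset.sum_eq_single g]
  · rw [LinearMap.comp_apply, MonoidAlgebra.lsingle_apply, cf_single, if_pos rfl]
  · intro h _ hne
    rw [LinearMap.comp_apply, MonoidAlgebra.lsingle_apply, cf_single, if_neg hne]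
  · intro h'
    exact absurd (Finset.mem_univ _) h'

theorem exists_hom (c : G → D R B)
    (horth : ∀ g h, c g * c h = if g = h then c g else 0) (hsum : ∑ g, c g = 1)
    (hmul : ∀ g b b', c g (b * b') = ∑ h, c h b * c (h⁻¹ * g) b')
    (hone : ∀ g, c g 1 = if g = 1 then 1 else 0) :
    ∃ f : B →ₐc[R] MonoidAlgebra R G, ∀ b g, cf g (f b) = c g b := by
  let fA : B →ₐ[R] MonoidAlgebra R G := AlgHom.ofLinearMap (homL c) (by
      apply ext_cf
      intro g
      rw [cf_homL, hone, MonoidAlgebra.one_def, cf_single]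
      simp only [eq_comm]) (by
      intro b b'
      apply ext_cf
      intro g
      rw [cf_homL, hmul, cf_mul]
      simp only [cf_homL])
  have hfA : ∀ b, fA b = homL c b := fun b => rfl
  refine ⟨BialgHom.ofAlgHom fA ?_ ?_, fun b g => cf_homL c g b⟩
  · ext b
    change Coalgebra.counit (R := R) (homL c b) = Coalgebra.counit (R := R) b
    rw [← sum_cf]
    simp only [cf_homL]
    have e1 : (∑ g, c g) b = ∑ g, c g b := by
      simp only [WithConv.ofConv_sum, LinearMap.sum_apply]
    rw [← e1, hsum]
    rfl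
  · apply AlgHom.ext
    intro b
    apply ext_cc
    intro g k
    change cc g k (TensorProduct.map (homL c) (homL c) (Coalgebra.comul (R := R) b)) =
      cc g k (Coalgebra.comul (R := R) (homL c b))
    rw [cc_comul, cf_homL]
    have h1 : ∀ t : B ⊗[R] B, cc g k (TensorProduct.map (homL c) (homL c) t) =
        LinearMap.mul' R R (TensorProduct.map (c g).ofConv (c k).ofConv t) := by
      intro t
      induction t using TensorProduct.induction_on with
      | zero => simp
      | add t t' h3 h4 => rw [map_add, map_add, h3, h4, map_add, map_add]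
      | tmul b b' =>
        rw [TensorProduct.map_tmul, TensorProduct.map_tmul, LinearMap.mul'_apply, cc_tmul, cf_homL,
          cf_homL]
    rw [h1]
    change (c g * c k).ofConv b = _
    rw [horth]
    split_ifs <;> rfl

/-- The coefficient forms of a bialgebra map are orthogonal idempotents. -/
theorem coef_mul (f : B →ₐc[R] MonoidAlgebra R G) (g h : G) :
    (WithConv.toConv (cf g ∘ₗ (f : B →ₗ[R] MonoidAlgebra R G)) : D R B) *
      WithConv.toConv (cf h ∘ₗ (f : B →ₗ[R] MonoidAlgebra R G)) =
    if g = h then WithConv.toConv (cf g ∘ₗ (f : B →ₗ[R] MonoidAlgebra R G)) else 0 := by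
  apply WithConv.ext
  apply LinearMap.ext
  intro b
  change LinearMap.mul' R R (TensorProduct.map (cf g ∘ₗ (f : B →ₗ[R] MonoidAlgebra R G))
    (cf h ∘ₗ (f : B →ₗ[R] MonoidAlgebra R G)) (Coalgebra.comul (R := R) b)) = _
  rw [TensorProduct.map_comp]
  change cc g h (TensorProduct.map (f : B →ₗ[R] MonoidAlgebra R G) (f : B →ₗ[R] MonoidAlgebra R G)
    (Coalgebra.comul (R := R) b)) = _
  have h3 : TensorProduct.map (f : B →ₗ[R] MonoidAlgebra R G)
      (f : B →ₗ[R] MonoidAlgebra R G) (Coalgebra.comul (R := R) b) =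
      Coalgebra.comul (R := R) (f b) :=
    CoalgHomClass.map_comp_comul_apply f b
  rw [h3, cc_comul]
  split_ifs <;> rfl

end Hom

section Final

variable {R : Type u} [CommRing R] [HenselianLocalRing R] [IsSepClosed (ResidueField R)]
  {κ : Type u} [Field κ] [Algebra R κ] (hφ : RingHom.ker (algebraMap R κ) = maximalIdeal R)
  {B : Type u} [CommRing B] [HopfAlgebra R B] [Coalgebra.IsCocomm R B]
  [Module.Finite R B] [Module.Projective R B]
  {G : Type*} [Group G] [Fintype G] [DecidableEq G]

include hφ

/-- **Lifting** of bialgebra maps to group algebras. -/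
theorem exists_lift (F : κ ⊗[R] B →ₐc[κ] MonoidAlgebra κ G) :
    ∃ f : B →ₐc[R] MonoidAlgebra R G, (∀ b g, algebraMap R κ (cf g (f b)) = cf g (F (1 ⊗ₜ[R] b))) ∧
      (Function.Surjective F → Function.Surjective f) := by
  obtain ⟨c, hcψ, horth, hsum, hmul, hone⟩ := exists_system hφ F
  obtain ⟨f, hf⟩ := exists_hom c horth hsum hmul hone
  refine ⟨f, fun b g => by rw [hf, hcψ, ψ_apply], fun hF => ?_⟩
  have hb : ∀ g, ∃ b, IsUnit (c g b) := by
    intro g
    by_contra! hcon
    have h1 : ∀ b, cf g (F (1 ⊗ₜ[R] b)) = 0 := by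
      intro b
      have h2 : c g b ∈ maximalIdeal R := hcon b
      rw [← hφ, RingHom.mem_ker, hcψ] at h2
      exact h2
    have h3 : ∀ z, cf g (F z) = 0 := by
      intro z
      induction z using TensorProduct.induction_on with
      | zero => simp
      | add z z' h4 h5 => rw [map_add, map_add, h4, h5, add_zero]
      | tmul a b =>
        have h4 : a ⊗ₜ[R] b = a • ((1 : κ) ⊗ₜ[R] b) := by simp [TensorProduct.smul_tmul']
        rw [h4, map_smul, map_smul, h1, smul_zero]
    obtain ⟨z, hz⟩ := hF (MonoidAlgebra.single g 1)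
    have h5 := h3 z
    rw [hz, cf_single, if_pos rfl] at h5
    exact one_ne_zero h5
  have hx : ∀ g, ∃ x : B, f x = MonoidAlgebra.single g 1 := by
    intro g
    obtain ⟨b, ⟨u, hu⟩⟩ := hb g
    let x : B := TensorProduct.rid R B (TensorProduct.map LinearMap.id (c g).ofConv
      (Coalgebra.comul (R := R) b))
    have hxc : ∀ h, c h x = (c h * c g) b := by
      intro h
      change (c h).ofConv (TensorProduct.rid R B (TensorProduct.map LinearMap.id (c g).ofConv
        (Coalgebra.comul (R := R) b))) = LinearMap.mul' R R (TensorProduct.map (c h).ofConv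
          (c g).ofConv (Coalgebra.comul (R := R) b))
      generalize Coalgebra.comul (R := R) b = t
      induction t using TensorProduct.induction_on with
      | zero => simp
      | add t t' h4 h5 => rw [map_add, map_add, map_add, h4, h5, map_add, map_add]
      | tmul b b' => simp [mul_comm]
    refine ⟨((u⁻¹ : Rˣ) : R) • x, ?_⟩
    apply ext_cf
    intro h
    rw [hf, cf_single]
    change (c h).ofConv (((u⁻¹ : Rˣ) : R) • x) = _
    rw [map_smul, hxc, horth]
    split_ifs with h6 h7 h7
    · subst h6
      rw [← hu, smul_eq_mul, Units.inv_mul]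
    · exact absurd h6.symm h7
    · exact absurd h7.symm h6
    · exact smul_zero _
  intro y
  choose x hx using hx
  refine ⟨∑ g, cf g y • x g, ?_⟩
  rw [map_sum]
  apply ext_cf
  intro g
  rw [map_sum, Finset.sum_eq_single g]
  · rw [map_smul, hx, map_smul, cf_single, if_pos rfl, smul_eq_mul, mul_one]
  · intro h _ hne
    rw [map_smul, hx, map_smul, cf_single, if_neg hne, smul_zero]
  · intro h'
    exact absurd (Finset.mem_univ _) h'

/-- Uniqueness of the lift. -/
theorem hom_ext {f f' : B →ₐc[R] MonoidAlgebra R G}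
    (h : ∀ b g, algebraMap R κ (cf g (f b)) = algebraMap R κ (cf g (f' b))) : f = f' := by
  apply BialgHom.ext
  intro b
  apply ext_cf
  intro g
  have h1 : (WithConv.toConv (cf g ∘ₗ (f : B →ₗ[R] MonoidAlgebra R G)) : D R B) =
      WithConv.toConv (cf g ∘ₗ (f' : B →ₗ[R] MonoidAlgebra R G)) := by
    refine idem_ext hφ ?_ ?_ fun b => h b g
    · have := coef_mul f g g
      rw [if_pos rfl] at this
      exact this
    · have := coef_mul f' g g
      rw [if_pos rfl] at this
      exact this
  exact congrArg (fun c : D R B => c b) h1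

end Final

end K267.MultLift
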