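import Groth.Agent.GrpSch.K267.TorsFin
import Groth.Agent.AlgSp.K640.LocOne

/-!
# Divisibility of the finite parts of the torsion

`R` a local ring, `A` semi-stable over `S = Spec R` with connected closed fibre, `F_N` the finite
part of the `N`-torsion.  Multiplication by `M` induces a faithfully flat `F_{NM} ⟶ F_N`.
-/

set_option autoImplicit false

universe u v

open CategoryTheory CategoryTheory.Limits MonoidalCategory CartesianMonoidalCategory MonObj GrpObj
  AlgebraicGeometry

namespace K267.TorsFin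

open Groth.Agent Groth.Agent.Sga3B.KerGrp K267.FinPart

theorem isPullback_of_lift {C : Type u} [Category.{v} C] {P X Y Z : C} {fst : P ⟶ X} {snd : P ⟶ Y}
    {f : X ⟶ Z} {g : Y ⟶ Z} (w : fst ≫ f = snd ≫ g) [Mono fst] [Mono g]
    (h : ∀ {T : C} (x : T ⟶ X) (y : T ⟶ Y), x ≫ f = y ≫ g → ∃ t : T ⟶ P, t ≫ fst = x) :
    IsPullback fst snd f g := by
  refine ⟨⟨w⟩, ⟨PullbackCone.IsLimit.mk w (fun s => (h s.fst s.snd s.condition).choose)
    (fun s => (h s.fst s.snd s.condition).choose_spec) (fun s => ?_) (fun s m hm _ => ?_)⟩⟩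
  · have h1 := (h s.fst s.snd s.condition).choose_spec
    rw [← cancel_mono g, Category.assoc, ← w, ← Category.assoc, h1, s.condition]
  · have h1 := (h s.fst s.snd s.condition).choose_spec
    rw [← cancel_mono fst, h1, hm]

variable {R : Type u} [CommRing R] [IsLocalRing R] {A : Over (Spec (CommRingCat.of R))} [GrpObj A]
  {N : ℕ} {F : Over (Spec (CommRingCat.of R))} {f : F ⟶ A}

/-- Points of the base change of the finite part along a morphism into the closed point. -/
theorem IsTors.exists_bc_lift (hf : IsTors A N f) {S' : Scheme.{u}}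
    (φ : S' ⟶ Spec (CommRingCat.of R)) (hφ : ∀ s, φ s = IsLocalRing.closedPoint R)
    {T : Over S'} (x : T ⟶ Red.bc φ A) (hx : x ^ N = 1) :
    ∃ y : T ⟶ Red.bc φ F, y ≫ (Over.pullback φ).map f = x := by
  obtain ⟨y, hy⟩ := hf.lift_closed ((Sga3B.BcPts.bcMulEquiv φ T A).symm x)
    (fun t => (Scheme.Hom.comp_apply T.hom φ t).trans (hφ _)) (by rw [← map_pow, hx, map_one])
  refine ⟨Sga3B.BcPts.bcEquiv φ T F y, ?_⟩
  rw [← Sga3B.BcPts.bcEquiv_comp, hy]
  exact (Sga3B.BcPts.bcMulEquiv φ T A).apply_symm_apply x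

theorem map_pow_eq {S S' : Scheme.{u}} (φ : S' ⟶ S) {A T : Over S} [GrpObj A] (x : T ⟶ A) (N : ℕ) :
    (Over.pullback φ).map (x ^ N) = ((Over.pullback φ).map x) ^ N := by
  rw [← comp_one_pow, Functor.map_comp, K567.SemiAb.map_one_pow, comp_one_pow]

theorem pow_mul_pow {S' : Scheme.{u}} {T G : Over S'} [GrpObj G] (x : T ⟶ G) (M N : ℕ) :
    x ^ (N * M) = (x ^ M) ^ N := by rw [← pow_mul, mul_comm]

/-- The square of multiplication by `M` on the closed fibre. -/
theorem IsTors.isPullback_closed (hf : IsTors A N f) {M : ℕ} {F' : Over (Spec (CommRingCat.of R))}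
    {f' : F' ⟶ A} (hf' : IsTors A (N * M) f') {p : F' ⟶ F} (hp : p ≫ f = f' ^ M)
    {S' : Scheme.{u}} (φ : S' ⟶ Spec (CommRingCat.of R))
    (hφ : ∀ s, φ s = IsLocalRing.closedPoint R) :
    IsPullback ((Over.pullback φ).map f') ((Over.pullback φ).map p)
      ((Over.pullback φ).map ((𝟙 A : A ⟶ A) ^ M)) ((Over.pullback φ).map f) := by
  have h1 := hf.mono
  have h2 := hf'.mono
  have h3 : Mono ((Over.pullback φ).map f) := inferInstance
  have h4 : Mono ((Over.pullback φ).map f') := inferInstance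
  refine isPullback_of_lift ?_ fun {T} x y hxy => ?_
  · rw [← Functor.map_comp, ← Functor.map_comp, hp, comp_one_pow]
  · refine hf'.exists_bc_lift φ hφ x ?_
    have h5 : x ^ M = y ≫ (Over.pullback φ).map f := by
      rw [← hxy, K567.SemiAb.map_one_pow, comp_one_pow]
    have h6 : ((Over.pullback φ).map f) ^ N = 1 := by
      rw [← map_pow_eq, hf.pow]
      exact Functor.map_one _
    rw [pow_mul_pow x M N, h5, ← MonObj.comp_pow, h6, MonObj.comp_one]

variable [IsCommMonObj A] [Smooth A.hom] [IsSeparated A.hom] [QuasiCompact A.hom]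

/-- Multiplication by `M` from the finite part of the `NM`-torsion to that of the `N`-torsion is
faithfully flat. -/
theorem exists_div (hA : SGA7.FibresUnipotentRankZero A)
    (hconn : ConnectedSpace (Red.bc ((Spec (CommRingCat.of R)).fromSpecResidueField
      (IsLocalRing.closedPoint R)) A).left)
    (hf : IsTors A N f) {M : ℕ} (hM : 0 < M) {F' : Over (Spec (CommRingCat.of R))}
    {f' : F' ⟶ A} (hf' : IsTors A (N * M) f') :
    ∃ p : F' ⟶ F, p ≫ f = f' ^ M ∧ Flat p.left ∧ Surjective p.left ∧ IsFinite p.left ∧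
      LocallyOfFinitePresentation p.left := by
  obtain ⟨p, hp⟩ := hf.lift (f' ^ M) hf'.clo (by rw [← pow_mul, mul_comm, hf'.pow])
  have h1 := hf.fin
  have h2 := hf'.fin
  have h3 := hf.flat
  have h4 := hf'.flat
  have h5 := hf.lfp
  have h6 := hf'.lfp
  let s : Spec (CommRingCat.of R) := IsLocalRing.closedPoint R
  let φ := (Spec (CommRingCat.of R)).fromSpecResidueField s
  have hφ : ∀ t, φ t = s := fun t => Scheme.fromSpecResidueField_apply _ _
  have sq := hf.isPullback_closed hf' hp φ hφ
  have h7 : Flat (SGA7.fibreHom s ((𝟙 A : A ⟶ A) ^ M)).left := SemiPow.flat_pow_fibre A hA M hM s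
  have i1 : Smooth (Red.bc φ A).hom := inferInstanceAs (Smooth (pullback.snd A.hom φ))
  have h8 : Surjective ((Over.pullback φ).map ((𝟙 A : A ⟶ A) ^ M)).left := by
    rw [K567.SemiAb.map_one_pow]
    exact (K567.SemiAb.flat_surjective_pow (k := (Spec (CommRingCat.of R)).residueField s)
      (Red.bc φ A) (SemiPow.rankZero_bc φ A hA) M hM).2.1
  have sq' := sq.map (Over.forget _)
  have h9 : Flat (SGA7.fibreHom s p).left := MorphismProperty.of_isPullback (P := @Flat) sq' h7
  have h10 : Surjective ((Over.pullback φ).map p).left :=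
    MorphismProperty.of_isPullback (P := @Surjective) sq' h8
  have hlfp : LocallyOfFinitePresentation p.left := by
    have : LocallyOfFinitePresentation (p.left ≫ F.hom) := by rw [Over.w]; infer_instance
    exact Flat2D.LfpComp.lfp_of_comp _ F.hom
  have hfin : IsFinite p.left := by
    have : IsFinite (p.left ≫ F.hom) := by rw [Over.w]; infer_instance
    exact IsFinite.of_comp _ F.hom
  have hflat : Flat p.left := by
    refine Sga3C.FlatPt.flat_of_forall_isFlatAt _ fun x => ?_
    obtain ⟨y, hxy, hy⟩ := hf'.clo x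
    exact K640.LocOne.isFlatAt_of_specializes hxy
      (Sga7.H760.FibreFlat.isFlatAt_of_flat_fibreHom p s y hy)
  refine ⟨p, hp, hflat, ⟨fun x => ?_⟩, hfin, hlfp⟩
  obtain ⟨y, hxy, hy⟩ := hf.clo x
  have h11 : y ∈ Set.range p.left := by
    have sqF := Sga3C.ActBase.isPullback_map_left φ p
    have h12 : F.hom y = φ (IsLocalRing.closedPoint _) := hy.trans (hφ _).symm
    obtain ⟨z, hz, -⟩ := Scheme.Pullback.exists_preimage_pullback (f := F.hom) (g := φ) y _ h12
    obtain ⟨w, hw⟩ := h10.surj z
    refine ⟨pullback.fst F'.hom φ w, ?_⟩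
    rw [← Scheme.Hom.comp_apply, ← sqF.w, Scheme.Hom.comp_apply, hw, hz]
  exact hxy.mem_open p.left.isOpenMap.isOpen_range h11

end K267.TorsFin
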