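import Groth.Agent.GrpSch.K267.MultSch
import Groth.Agent.GrpSch.K267.MuSch
import Groth.Agent.GrpSch.K267.TorsDiv
import Groth.Agent.GrpSch.K267.FinMB

/-!
# The multiplicative part of the finite part of the torsion
-/

set_option autoImplicit false
universe u

open CategoryTheory Limits MonoidalCategory CartesianMonoidalCategory MonObj GrpObj AlgebraicGeometry
open IsLocalRing

namespace K267.MultPart

open Groth.Agent K270.MB K267.MuSch K267.TorsFin

section

variable {C : Type*} [Category C] [CartesianMonoidalCategory C] {G H K : C} [GrpObj G] [GrpObj H] [GrpObj K]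

theorem isMonHom_of_comp_mono (w : G ⟶ H) (f : H ⟶ K) [IsMonHom f] [Mono f] [IsMonHom (w ≫ f)] :
    IsMonHom w := by
  refine Groth.Agent.Sga3B.Pts.isMonHom_of_points w fun X x y => ?_
  have h1 : (x * y) ≫ (w ≫ f) = (x ≫ w ≫ f) * (y ≫ w ≫ f) := MonObj.mul_comp _ _ _
  have h2 : ((x ≫ w) * (y ≫ w)) ≫ f = ((x ≫ w) ≫ f) * ((y ≫ w) ≫ f) := MonObj.mul_comp _ _ _
  rw [← cancel_mono f, h2, Category.assoc, Category.assoc, Category.assoc, h1]

end

theorem closedImmersion_of_mono {k : Type u} [Field k] {M T : Over (Spec (CommRingCat.of k))} (g : M ⟶ T)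
    [Mono g] [IsFinite M.hom] [IsSeparated T.hom] : IsClosedImmersion g.left := by
  rw [IsClosedImmersion.iff_isFinite_and_mono]
  have h1 : IsFinite (g.left ≫ T.hom) := by rw [Over.w]; infer_instance
  exact ⟨IsFinite.of_comp _ T.hom, inferInstanceAs (Mono ((Over.forget _).map g))⟩

theorem closedPoint_of_ker {R : Type u} [CommRing R] [IsLocalRing R] {κ : Type u} [Field κ] (φ : R →+* κ)
    (hφ : RingHom.ker φ = maximalIdeal R) (s : Spec (CommRingCat.of κ)) :
    (Spec.map (CommRingCat.ofHom φ)) s = closedPoint R := by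
  have h1 : s = (⊥ : PrimeSpectrum κ) := Subsingleton.elim _ _
  subst h1
  apply PrimeSpectrum.ext
  change Ideal.comap φ ⊥ = maximalIdeal R
  rw [← hφ]
  rfl

theorem isFinite_mu (R : Type u) [CommRing R] (N r : ℕ) [NeZero N] : IsFinite (Mu R N r).hom := by
  have h : IsFinite (Spec.map (CommRingCat.ofHom (algebraMap R (MonoidAlgebra R (MG N r))))) := by
    rw [IsFinite.SpecMap_iff]
    have : Module.Finite R (MonoidAlgebra R (MG N r)) :=
      Module.Finite.of_basis (MonoidAlgebra.basis (MG N r) R)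
    exact RingHom.finite_algebraMap.2 this
  exact h

section Level

variable {R : Type u} [CommRing R] [IsNoetherianRing R] [HenselianLocalRing R]
  [IsSepClosed (ResidueField R)] {A : Over (Spec (CommRingCat.of R))} [GrpObj A] [IsCommMonObj A]
  [IsSeparated A.hom] {κ : Type u} [Field κ] (φ : R →+* κ) (hφ : RingHom.ker φ = maximalIdeal R)

include hφ in
theorem hom_ext {F : Over (Spec (CommRingCat.of R))} [GrpObj F] (f : F ⟶ A)
    [IsMonHom f] {N N' r : ℕ} [NeZero N] (hf : IsTors A N' f) (v v' : Mu R N r ⟶ F) [IsMonHom v] [IsMonHom v']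
    (h : (Over.pullback (Spec.map (CommRingCat.ofHom φ))).map v =
      (Over.pullback (Spec.map (CommRingCat.ofHom φ))).map v') : v = v' := by
  let _ : Algebra R κ := φ.toAlgebra
  have h0 := hf.mono
  have h1 : IsCommMonObj F := K267.DeligneSch.isCommMonObj_of_iso f
  exact MultSch.lift_unique (κ := κ) hφ F hf.fin hf.flat v v' h

include hφ in
theorem exists_level {N r : ℕ} [NeZero N] {F : Over (Spec (CommRingCat.of R))} [GrpObj F] (f : F ⟶ A)
    [IsMonHom f] (hf : IsTors A N f) {T : Over (Spec (CommRingCat.of κ))} [GrpObj T] {χ₀ : Fin r → U T}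
    (hT : IsGmPow r T χ₀) (τ : T ⟶ Red.bc (Spec.map (CommRingCat.ofHom φ)) A) (hτ : IsClSub τ) :
    ∃ (i : Mu R N r ⟶ F) (τ' : Red.bc (Spec.map (CommRingCat.ofHom φ)) (Mu R N r) ⟶ T), IsClSub i ∧
      τ' ≫ τ = (Over.pullback (Spec.map (CommRingCat.ofHom φ))).map (i ≫ f) ∧
      (∀ j, ures τ' (χ₀ j) = bcU (Spec.map (CommRingCat.ofHom φ)) (chi R N r j)) ∧
      (∀ {T' : Over (Spec (CommRingCat.of κ))} (x : T' ⟶ Red.bc (Spec.map (CommRingCat.ofHom φ)) A),
        Fac τ x → x ^ N = 1 →
          Fac ((Over.pullback (Spec.map (CommRingCat.ofHom φ))).map (i ≫ f)) x) := by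
  let _ : Algebra R κ := φ.toAlgebra
  have h0 := hf.mono
  have hmono : Mono ((Over.pullback (Spec.map (CommRingCat.ofHom φ))).map f) := inferInstance
  have hmon : IsMonHom ((Over.pullback (Spec.map (CommRingCat.ofHom φ))).map f) := inferInstance
  have h1 : IsCommMonObj F := K267.DeligneSch.isCommMonObj_of_iso f
  have hF1 := hf.fin
  have hM1 := isFinite_mu R N r
  have hM2 : IsFinite (Red.bc (Spec.map (CommRingCat.ofHom φ)) (Mu R N r)).hom := inferInstanceAs (IsFinite (pullback.snd (Mu R N r).hom (Spec.map (CommRingCat.ofHom φ))))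
  have hA2 : IsSeparated (Red.bc (Spec.map (CommRingCat.ofHom φ)) A).hom := inferInstanceAs (IsSeparated (pullback.snd A.hom (Spec.map (CommRingCat.ofHom φ))))
  have hτ1 := hτ.mon
  have hτ2 := hτ.closed
  have hT2 : IsSeparated T.hom := by
    rw [← Over.w τ]
    infer_instance
  have hMκ : IsMu N r (Red.bc (Spec.map (CommRingCat.ofHom φ)) (Mu R N r)) (fun j => bcU (Spec.map (CommRingCat.ofHom φ)) (chi R N r j)) := isMu_bc (Spec.map (CommRingCat.ofHom φ)) isMu
  obtain ⟨τ', h2, h3, h4, h5⟩ := exists_emb hMκ hT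
  have h6 : IsClosedImmersion τ'.left := closedImmersion_of_mono τ'
  have h7 : IsMonHom (τ' ≫ τ) := inferInstance
  have h8 : (τ' ≫ τ) ^ N = 1 := by
    have h9 := pow_eq_one hMκ (𝟙 _)
    have h10 : ((𝟙 (Red.bc (Spec.map (CommRingCat.ofHom φ)) (Mu R N r))) ^ N) ≫ (τ' ≫ τ) = (𝟙 _ ≫ (τ' ≫ τ)) ^ N := MonObj.pow_comp _ _ _
    rw [h9, MonObj.one_comp, Category.id_comp] at h10
    exact h10.symm
  obtain ⟨w, hw⟩ := hf.exists_bc_lift (Spec.map (CommRingCat.ofHom φ)) (closedPoint_of_ker φ hφ) (τ' ≫ τ) h8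
  have h11 : IsMonHom (w ≫ (Over.pullback (Spec.map (CommRingCat.ofHom φ))).map f) := by rw [hw]; exact h7
  have h12 : IsMonHom w := isMonHom_of_comp_mono w ((Over.pullback (Spec.map (CommRingCat.ofHom φ))).map f)
  have hFs : IsSeparated (Red.bc (Spec.map (CommRingCat.ofHom φ)) F).hom := inferInstanceAs (IsSeparated (pullback.snd F.hom (Spec.map (CommRingCat.ofHom φ))))
  have h13 : IsClosedImmersion w.left := by
    have h14 : Mono (w ≫ (Over.pullback (Spec.map (CommRingCat.ofHom φ))).map f) := by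
      rw [hw]
      have : Mono τ := Functor.mono_of_mono_map (Over.forget _) (inferInstanceAs (Mono τ.left))
      exact mono_comp _ _
    have h15 : Mono w := mono_of_mono w ((Over.pullback (Spec.map (CommRingCat.ofHom φ))).map f)
    exact closedImmersion_of_mono w
  obtain ⟨v, h16, h17, h18⟩ := MultSch.exists_lift (κ := κ) (G := MG N r) hφ F hf.fin hf.flat w
  have h19 : τ' ≫ τ = (Over.pullback (Spec.map (CommRingCat.ofHom φ))).map (v ≫ f) := by
    rw [Functor.map_comp, ← hw]
    congr 1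
    exact h17.symm
  refine ⟨v, τ', ⟨h16, h18 h13⟩, h19, h4, fun {T'} x hx hxN => ?_⟩
  obtain ⟨y, rfl⟩ := hx
  have hmτ : Mono τ := Functor.mono_of_mono_map (Over.forget _) (inferInstanceAs (Mono τ.left))
  have h20 : y ^ N = 1 := by
    rw [← cancel_mono τ, MonObj.pow_comp, hxN, MonObj.one_comp]
  obtain ⟨z, rfl⟩ := h5 y h20
  exact ⟨z, by rw [← h19, Category.assoc]⟩

end Level

end K267.MultPart
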