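import Groth.Agent.GrpSch.K267.MultLift
import Groth.Agent.GrpSch.K267.DeligneSch
import Groth.Agent.RedSub.H666.SpOf
import Groth.Agent.Books.AffBridge2

/-!
# Lifting homomorphisms `D(G) ⟶ P` from a geometric closed point (schemes)

`R` strictly henselian noetherian local, `κ` a field over `R` with `ker (R ⟶ κ) = m`, `G` a finite commutative group,
`P` a finite flat commutative `R`-group: `Hom(D(G), P) ⟶ Hom(D(G)_κ, P_κ)` is bijective and preserves closed immersions.
-/

set_option autoImplicit false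
universe u

open CategoryTheory Limits MonoidalCategory CartesianMonoidalCategory MonObj GrpObj AlgebraicGeometry
open WithConv TensorProduct Coalgebra IsLocalRing

namespace K267.MultSch

open Groth.Agent Groth.Agent.Books.AffBridge Groth.Agent.Sga3B.BcSpec144 Groth.Agent.RedSub.H666.SpOf
open K267.MultLift

/-- Finite flat commutative groups over a noetherian affine base as spectra. -/
theorem exists_model {R : Type u} [CommRing R] [IsNoetherianRing R] (P : Over (Spec (CommRingCat.of R)))
    [GrpObj P] [IsCommMonObj P] (hf : IsFinite P.hom) (hfl : Flat P.hom) :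
    ∃ (B : Type u) (_ : CommRing B) (_ : HopfAlgebra R B) (_ : Coalgebra.IsCocomm R B)
      (_ : Module.Finite R B) (_ : Module.Projective R B) (e : P ≅ SpecOver R B), IsMonHom e.hom := by
  have : IsAffine P.left := isAffine_of_isAffineHom P.hom
  obtain ⟨B, _, _, e, he⟩ := exists_hopf R P
  have hei : IsMonHom e.inv := inferInstance
  have hil : IsIso e.inv.left := inferInstanceAs (IsIso ((Over.forget _).map e.inv))
  have hc : IsCommMonObj (SpecOver R B) := K267.DeligneSch.isCommMonObj_of_iso e.inv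
  have hcc : Coalgebra.IsCocomm R B := K267.DeligneSch.isCocomm_of_isCommMonObj hc
  have hw : e.inv.left ≫ P.hom = Spec.map (CommRingCat.ofHom (algebraMap R B)) := Over.w e.inv
  have hfin : Module.Finite R B := by
    have h1 : IsFinite (e.inv.left ≫ P.hom) := inferInstance
    rw [hw] at h1
    have h2 : IsFinite (Spec.map (CommRingCat.ofHom (algebraMap R B))) := h1
    rw [IsFinite.SpecMap_iff] at h2
    exact RingHom.finite_algebraMap.mp h2
  have hfl : Module.Flat R B := by
    have h1 : Flat (e.inv.left ≫ P.hom) := inferInstance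
    rw [hw] at h1
    have h2 : Flat (Spec.map (CommRingCat.ofHom (algebraMap R B))) := h1
    rw [Flat.SpecMap_iff] at h2
    exact (RingHom.flat_algebraMap_iff (R := R) (S := B)).mp h2
  have hfp' : Module.FinitePresentation R B := Module.finitePresentation_of_finite R B
  exact ⟨B, inferInstance, inferInstance, hcc, hfin,
    Module.Flat.projective_of_finitePresentation, e, he⟩

section

variable {R : Type u} [CommRing R] {κ : Type u} [Field κ] [Algebra R κ]
variable {B : Type u} [CommRing B] [HopfAlgebra R B] {G : Type} [CommGroup G]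

theorem bcHom_eq (w : Red.bc (fK R κ) (SpecOver R (MonoidAlgebra R G)) ⟶ Red.bc (fK R κ) (SpecOver R B))
    [IsMonHom w] :
    ∃ F : κ ⊗[R] B →ₐc[κ] κ ⊗[R] MonoidAlgebra R G,
      w ≫ (bsIso R κ B).hom = (bsIso R κ (MonoidAlgebra R G)).hom ≫ specMap κ (F : κ ⊗[R] B →ₐ[κ] κ ⊗[R] MonoidAlgebra R G) := by
  have h1 : IsMonHom (bsIso R κ (MonoidAlgebra R G)).inv :=
    inferInstanceAs (IsMonHom (bsHom R κ (MonoidAlgebra R G)))
  have h2 : IsMonHom ((bsIso R κ (MonoidAlgebra R G)).inv ≫ w ≫ (bsIso R κ B).hom) := inferInstance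
  obtain ⟨F, hF⟩ := exists_bialgHom_of_isMonHom κ ((bsIso R κ (MonoidAlgebra R G)).inv ≫ w ≫ (bsIso R κ B).hom)
  exact ⟨F, by rw [hF, Iso.hom_inv_id_assoc]⟩

theorem map_specMap_eq (w : Red.bc (fK R κ) (SpecOver R (MonoidAlgebra R G)) ⟶ Red.bc (fK R κ) (SpecOver R B))
    (F : κ ⊗[R] B →ₐc[κ] κ ⊗[R] MonoidAlgebra R G)
    (hF : w ≫ (bsIso R κ B).hom = (bsIso R κ (MonoidAlgebra R G)).hom ≫
      specMap κ (F : κ ⊗[R] B →ₐ[κ] κ ⊗[R] MonoidAlgebra R G)) (f : B →ₐc[R] MonoidAlgebra R G) :
    (Over.pullback (fK R κ)).map (specMap R (f : B →ₐ[R] MonoidAlgebra R G)) = w ↔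
      ∀ b, F (1 ⊗ₜ b) = 1 ⊗ₜ f b := by
  rw [← cancel_mono (bsIso R κ B).hom, hF, bsIso_naturality, cancel_epi]
  constructor
  · intro h b
    have h1 := specMap_injective κ h
    exact (congrArg (fun k : κ ⊗[R] B →ₐ[κ] κ ⊗[R] MonoidAlgebra R G => k (1 ⊗ₜ b)) h1).symm
  · intro h
    congr 1
    apply AlgHom.ext
    intro z
    change Sga3A.BCIso.mapBialg κ f z = F z
    induction z using TensorProduct.induction_on with
    | zero => rw [map_zero, map_zero]
    | add z z' h4 h5 => rw [map_add, map_add, h4, h5]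
    | tmul a b =>
      have h4 : a ⊗ₜ[R] b = a • ((1 : κ) ⊗ₜ[R] b) := by simp [TensorProduct.smul_tmul']
      rw [h4, map_smul, map_smul, h]
      rfl

theorem scalar_cf [DecidableEq G] [Fintype G] (z : MonoidAlgebra R G) (g : G) :
    cf g (Sga3A.BCIso.scalarBialg R κ G (1 ⊗ₜ[R] z)) = algebraMap R κ (cf g z) := by
  induction z using MonoidAlgebra.induction_linear with
  | zero => rw [TensorProduct.tmul_zero, map_zero, map_zero, map_zero, map_zero]
  | add x y hx hy => rw [TensorProduct.tmul_add, map_add, map_add, hx, hy, map_add, map_add]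
  | single h a =>
    rw [Sga3A.BCIso.scalarBialg_tmul_single, cf_single, cf_single, _root_.one_mul]
    split_ifs
    · rfl
    · rw [map_zero]

variable [HenselianLocalRing R] [IsSepClosed (ResidueField R)]
  [Coalgebra.IsCocomm R B] [Module.Finite R B] [Module.Projective R B] [Fintype G]

theorem exists_lift_spec (hφ : RingHom.ker (algebraMap R κ) = maximalIdeal R)
    (w : Red.bc (fK R κ) (SpecOver R (MonoidAlgebra R G)) ⟶ Red.bc (fK R κ) (SpecOver R B)) [IsMonHom w] :
    ∃ v : SpecOver R (MonoidAlgebra R G) ⟶ SpecOver R B, IsMonHom v ∧ (Over.pullback (fK R κ)).map v = w ∧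
      (IsClosedImmersion w.left → IsClosedImmersion v.left) := by
  classical
  obtain ⟨F, hF⟩ := bcHom_eq w
  let F' : κ ⊗[R] B →ₐc[κ] MonoidAlgebra κ G :=
    (Sga3A.BCIso.scalarBialg R κ G : κ ⊗[R] MonoidAlgebra R G →ₐc[κ] MonoidAlgebra κ G).comp F
  obtain ⟨f, hf, hsurj⟩ := MultLift.exists_lift hφ F'
  refine ⟨specMap R (f : B →ₐ[R] MonoidAlgebra R G), isMonHom_specMap R f, ?_, fun hw => ?_⟩
  · rw [map_specMap_eq w F hF]
    intro b
    apply (Sga3A.BCIso.scalarBialg R κ G).injective
    apply ext_cf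
    intro g
    have h1 := scalar_cf (κ := κ) (f b) g
    rw [hf] at h1
    exact h1.symm
  · rw [Books.AffBridge2.isClosedImmersion_specMap_iff]
    apply hsurj
    have h1 : IsClosedImmersion (specMap κ (F : κ ⊗[R] B →ₐ[κ] κ ⊗[R] MonoidAlgebra R G)).left := by
      have h2 : specMap κ (F : κ ⊗[R] B →ₐ[κ] κ ⊗[R] MonoidAlgebra R G) =
          (bsIso R κ (MonoidAlgebra R G)).inv ≫ w ≫ (bsIso R κ B).hom := by
        rw [hF, Iso.inv_hom_id_assoc]
      have h3 : IsIso (bsIso R κ (MonoidAlgebra R G)).inv.left :=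
        inferInstanceAs (IsIso ((Over.forget _).map (bsIso R κ (MonoidAlgebra R G)).inv))
      have h4 : IsIso (bsIso R κ B).hom.left :=
        inferInstanceAs (IsIso ((Over.forget _).map (bsIso R κ B).hom))
      rw [h2, Over.comp_left, Over.comp_left]
      infer_instance
    rw [Books.AffBridge2.isClosedImmersion_specMap_iff] at h1
    exact (Sga3A.BCIso.scalarBialg R κ G).surjective.comp h1

theorem lift_unique_spec (hφ : RingHom.ker (algebraMap R κ) = maximalIdeal R)
    (v v' : SpecOver R (MonoidAlgebra R G) ⟶ SpecOver R B) [IsMonHom v] [IsMonHom v']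
    (h : (Over.pullback (fK R κ)).map v = (Over.pullback (fK R κ)).map v') : v = v' := by
  classical
  obtain ⟨f, rfl⟩ := exists_bialgHom_of_isMonHom R v
  obtain ⟨f', rfl⟩ := exists_bialgHom_of_isMonHom R v'
  have h1 := (map_specMap_eq _ (Sga3A.BCIso.mapBialg κ f') (bsIso_naturality κ f') f).1 h
  have h2 : f = f' := by
    apply MultLift.hom_ext hφ
    intro b g
    rw [← scalar_cf, ← scalar_cf, ← h1]
    rfl
  rw [h2]

end

section

variable {R : Type u} [CommRing R] [IsNoetherianRing R] [HenselianLocalRing R]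
  [IsSepClosed (ResidueField R)] {κ : Type u} [Field κ] [Algebra R κ]
  (hφ : RingHom.ker (algebraMap R κ) = maximalIdeal R)
  (P : Over (Spec (CommRingCat.of R))) [GrpObj P] [IsCommMonObj P] (hf : IsFinite P.hom) (hfl : Flat P.hom)
  {G : Type} [CommGroup G] [Fintype G]

include hφ hf hfl

/-- **Lifting** homomorphisms from diagonalisable groups. -/
theorem exists_lift (w : Red.bc (fK R κ) (SpecOver R (MonoidAlgebra R G)) ⟶ Red.bc (fK R κ) P) [IsMonHom w] :
    ∃ v : SpecOver R (MonoidAlgebra R G) ⟶ P, IsMonHom v ∧ (Over.pullback (fK R κ)).map v = w ∧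
      (IsClosedImmersion w.left → IsClosedImmersion v.left) := by
  obtain ⟨B, _, _, _, _, _, e, he⟩ := exists_model P hf hfl
  have h1 : IsMonHom ((Over.pullback (fK R κ)).map e.hom) := inferInstance
  obtain ⟨v, h2, h3, h4⟩ := exists_lift_spec hφ (w ≫ (Over.pullback (fK R κ)).map e.hom)
  have h5 : IsIso e.inv.left := inferInstanceAs (IsIso ((Over.forget _).map e.inv))
  have h6 : IsIso ((Over.pullback (fK R κ)).map e.hom).left :=
    inferInstanceAs (IsIso ((Over.forget _).map ((Over.pullback (fK R κ)).map e.hom)))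
  refine ⟨v ≫ e.inv, inferInstance, ?_, fun hw => ?_⟩
  · rw [Functor.map_comp, h3, Category.assoc, ← Functor.map_comp, Iso.hom_inv_id, CategoryTheory.Functor.map_id,
      Category.comp_id]
  · have := h4 (by rw [Over.comp_left]; infer_instance)
    rw [Over.comp_left]
    infer_instance

/-- **Uniqueness** of the lift. -/
theorem lift_unique (v v' : SpecOver R (MonoidAlgebra R G) ⟶ P) [IsMonHom v] [IsMonHom v']
    (h : (Over.pullback (fK R κ)).map v = (Over.pullback (fK R κ)).map v') : v = v' := by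
  obtain ⟨B, _, _, _, _, _, e, he⟩ := exists_model P hf hfl
  rw [← cancel_mono e.hom]
  apply lift_unique_spec hφ
  rw [Functor.map_comp, Functor.map_comp, h]

end

end K267.MultSch
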