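import Groth.Agent.GrpSch.K267.SemiRank

/-!
# Node (1) of the plan of S14306: finite parts, multiplicative parts and their ranks
-/

set_option autoImplicit false
universe u

open CategoryTheory Limits MonoidalCategory CartesianMonoidalCategory MonObj GrpObj AlgebraicGeometry
open IsLocalRing

namespace K267.NodeFin

open Groth.Agent K270.MB K267.MuSch K267.TorsFin K267.MultPart

section Trans

variable {R : Type u} [CommRing R]

/-- The transition morphism `μ_N^r ⟶ μ_{N'}^r`. -/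
theorem exists_mu_trans {N N' r : ℕ} [NeZero N] [NeZero N'] (h : N ∣ N') :
    ∃ t : Mu R N r ⟶ Mu R N' r, IsMonHom t ∧ ∀ j, ures t (chi R N' r j) = chi R N r j := by
  obtain ⟨t, ht, _⟩ := (isMu (R := R) (N := N') (r := r)).bij (fun j => chi R N r j) fun j => by
    obtain ⟨m, rfl⟩ := h
    rw [pow_mul, chi_pow, one_pow]
  refine ⟨t, isMonHom_to_mu isMu t fun {X} x y j => ?_, ht⟩
  rw [ht, isMu.mul]

end Trans

section Level

variable {R : Type u} [CommRing R] [IsNoetherianRing R] [HenselianLocalRing R]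
  [IsSepClosed (ResidueField R)] {A : Over (Spec (CommRingCat.of R))} [GrpObj A] [IsCommMonObj A]
  [IsSeparated A.hom] {κ : Type u} [Field κ] (φ : R →+* κ) (hφ : RingHom.ker φ = maximalIdeal R)

include hφ in
theorem trans_eq {N N' r : ℕ} [NeZero N] [NeZero N'] {F F' : Over (Spec (CommRingCat.of R))} [GrpObj F]
    [GrpObj F'] (f : F ⟶ A) (f' : F' ⟶ A) [IsMonHom f] [IsMonHom f'] (hf : IsTors A N f)
    (hf' : IsTors A N' f') (h : N ∣ N') {T : Over (Spec (CommRingCat.of κ))} [GrpObj T] {χ₀ : Fin r → U T}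
    (hT : IsGmPow r T χ₀) (τ : T ⟶ Red.bc (Spec.map (CommRingCat.ofHom φ)) A)
    (i : Mu R N r ⟶ F) (τ₁ : Red.bc (Spec.map (CommRingCat.ofHom φ)) (Mu R N r) ⟶ T) [IsMonHom i]
    (e1 : τ₁ ≫ τ = (Over.pullback (Spec.map (CommRingCat.ofHom φ))).map (i ≫ f))
    (e2 : ∀ j, ures τ₁ (χ₀ j) = bcU (Spec.map (CommRingCat.ofHom φ)) (chi R N r j))
    (i' : Mu R N' r ⟶ F') (τ₂ : Red.bc (Spec.map (CommRingCat.ofHom φ)) (Mu R N' r) ⟶ T) [IsMonHom i']
    (e1' : τ₂ ≫ τ = (Over.pullback (Spec.map (CommRingCat.ofHom φ))).map (i' ≫ f'))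
    (e2' : ∀ j, ures τ₂ (χ₀ j) = bcU (Spec.map (CommRingCat.ofHom φ)) (chi R N' r j))
    (t : Mu R N r ⟶ Mu R N' r) [IsMonHom t] (ht : ∀ j, ures t (chi R N' r j) = chi R N r j) :
    t ≫ i' ≫ f' = i ≫ f := by
  obtain ⟨s, hs⟩ := hf.exists_trans hf' h
  have h1 := hf'.mono
  have h2 : IsMonHom (s ≫ f') := by rw [hs]; infer_instance
  have h3 : IsMonHom s := isMonHom_of_comp_mono s f'
  have h4 : t ≫ i' = i ≫ s := by
    refine MultPart.hom_ext φ hφ f' hf' (t ≫ i') (i ≫ s) ?_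
    rw [← cancel_mono ((Over.pullback (Spec.map (CommRingCat.ofHom φ))).map f'), ← Functor.map_comp,
      ← Functor.map_comp, Category.assoc, Category.assoc, hs, Functor.map_comp, ← e1', ← e1,
      ← Category.assoc]
    congr 1
    refine gm_ext hT fun j => ?_
    rw [ures_comp, e2', e2, ← ht, bcU_ures]
  rw [← Category.assoc, h4, Category.assoc, hs]

end Level

/-- **Node (1).** -/
theorem main : K270.MB.NodeFin.{u} := by
  intro R _ _ _ _ _ _ p hp hpm A _ _ hA1 hA2 hA3 hA4 hA5 hgen κ _ _ φ hφ T B _ _ r χ₀ τ π hsa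
  have hp0 : NeZero p := ⟨hp.ne_zero⟩
  have hpow : ∀ m, 0 < p ^ m := fun m => pow_pos hp.pos m
  choose F gF f hfm hf using fun m => exists_isTors A hA5 (p ^ m) (hpow m)
  choose i τ' hi h1 h2 h3 using fun m =>
    MultPart.exists_level (r := r) φ hφ (N := p ^ m) (f m) (hf m) hsa.gm τ hsa.sub
  choose t ht1 ht2 using fun m => exists_mu_trans (R := R) (r := r) (N := p ^ m) (N' := p ^ (m + 1))
    (pow_dvd_pow p (Nat.le_succ m))
  obtain ⟨b, hb⟩ := SemiRank.exists_dim hsa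
  refine ⟨F, fun m => Mu R (p ^ m) r, gF, fun m => inferInstance, f, i, fun m => chi R (p ^ m) r, t, b, τ',
    fun m => FinMB.isFinPart_of_isTors (hf m), hi, fun m => isMu, fun m => ?_, ht2, fun m s => ?_, fun m s => ?_,
    h1, fun m {T'} x hx hxN => h3 m x hx hxN⟩
  · have j1 := (hi m).mon
    have j2 := (hi (m + 1)).mon
    exact trans_eq φ hφ (f m) (f (m + 1)) (hf m) (hf (m + 1)) (pow_dvd_pow p (Nat.le_succ m)) hsa.gm τ (i m)
      (τ' m) (h1 m) (h2 m) (i (m + 1)) (τ' (m + 1)) (h1 (m + 1)) (h2 (m + 1)) (t m) (ht2 m)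
  · rw [SemiRank.finrank_finPart φ hφ hsa hb (hpow m) (hf m) s, ← pow_mul]
  · rw [SemiRank.finrank_gen φ hsa hb (hpow m) s, ← pow_mul]

end K267.NodeFin
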