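import Mathlib.AlgebraicGeometry.PullbackCarrier
import Mathlib.AlgebraicGeometry.Morphisms.ClosedImmersion
import Mathlib.Algebra.Category.Ring.Constructions

/-!
# Algebras which are directed unions of finite products of copies of the base field

For such an algebra `A` the underlying space of `Spec A ×_k X` is the product of the spaces.
-/

set_option autoImplicit false
universe u

open CategoryTheory CategoryTheory.Limits AlgebraicGeometry TensorProduct

namespace K267.Profinite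

section Algebra

variable {k : Type u} [Field k] {A : Type u} [CommRing A] [Algebra k A]

/-- every finite subset lies in a subalgebra isomorphic to a finite power of `k` -/
def IsProfiniteAlg (k A : Type u) [Field k] [CommRing A] [Algebra k A] : Prop :=
  ∀ s : Finset A, ∃ (B : Subalgebra k A) (n : ℕ), (↑s : Set A) ⊆ (B : Set A) ∧
    Nonempty (B ≃ₐ[k] (Fin n → k))

/-- A finite family of elements is diagonalised by a finite orthogonal family of idempotents with
sum one. -/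
theorem exists_idempotents (hA : IsProfiniteAlg k A) (s : Finset A) :
    ∃ (n : ℕ) (e : Fin n → A) (c : A → Fin n → k), ∑ i, e i = 1 ∧
      ∀ a ∈ s, ∀ i, e i * a = c a i • e i := by
  classical
  obtain ⟨B, n, hs, ⟨ψ⟩⟩ := hA s
  refine ⟨n, fun i => (ψ.symm (Pi.single i 1) : B),
    fun a => if h : a ∈ B then ψ ⟨a, h⟩ else 0, ?_, ?_⟩
  · have h1 : ∑ i, ψ.symm (Pi.single i 1) = (1 : B) := by
      rw [← map_sum, Finset.univ_sum_single]
      exact map_one ψ.symm
    have h2 := congrArg (Subtype.val : B → A) h1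
    rwa [AddSubmonoidClass.coe_finsetSum] at h2
  · intro a ha i
    have haB : a ∈ B := hs ha
    simp only [haB, dif_pos]
    have h1 : (ψ.symm (Pi.single i 1) : B) * ⟨a, haB⟩ = (ψ ⟨a, haB⟩ i) • ψ.symm (Pi.single i 1) := by
      apply ψ.injective
      rw [map_mul, map_smul, AlgEquiv.apply_symm_apply]
      ext j
      by_cases hj : j = i
      · subst hj; simp
      · simp [hj]
    exact congrArg (Subtype.val : B → A) h1

/-- the residue algebras are equal to `k` -/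
theorem surjective_algebraMap_quotient (hA : IsProfiniteAlg k A) (p : Ideal A) [p.IsPrime] :
    Function.Surjective (algebraMap k (A ⧸ p)) := by
  intro x
  obtain ⟨a, rfl⟩ := Ideal.Quotient.mk_surjective x
  obtain ⟨n, e, c, he, hc⟩ := exists_idempotents hA {a}
  obtain ⟨i, hi⟩ : ∃ i, e i ∉ p := by
    by_contra hcon
    push Not at hcon
    have : (1 : A) ∈ p := by
      rw [← he]
      exact sum_mem fun i _ => hcon i
    exact (Ideal.ne_top_iff_one p).mp (Ideal.IsPrime.ne_top ‹_›) this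
  refine ⟨c a i, ?_⟩
  have h1 := hc a (by simp) i
  have h2 : e i * (a - algebraMap k A (c a i)) = 0 := by
    rw [mul_sub, h1, Algebra.smul_def, mul_comm, sub_self]
  have h3 : e i * (a - algebraMap k A (c a i)) ∈ p := h2 ▸ p.zero_mem
  have h4 := (Ideal.IsPrime.mem_or_mem ‹_› h3).resolve_left hi
  have h5 : Ideal.Quotient.mk p a = Ideal.Quotient.mk p (algebraMap k A (c a i)) :=
    Ideal.Quotient.eq.mpr h4
  rw [h5]
  rfl

variable {R : Type u} [CommRing R] [Algebra k R]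

theorem exists_diag (hA : IsProfiniteAlg k A) (h : A ⊗[k] R) :
    ∃ (n : ℕ) (e : Fin n → A) (r : Fin n → R), ∑ i, e i = 1 ∧
      ∀ i, (e i ⊗ₜ[k] (1 : R)) * h = e i ⊗ₜ[k] r i := by
  classical
  obtain ⟨s, rfl⟩ := TensorProduct.exists_finset h
  obtain ⟨n, e, c, he, hc⟩ := exists_idempotents hA (s.image Prod.fst)
  refine ⟨n, e, fun i => ∑ x ∈ s, c x.1 i • x.2, he, fun i => ?_⟩
  rw [Finset.mul_sum, TensorProduct.tmul_sum]
  refine Finset.sum_congr rfl fun x hx => ?_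
  rw [Algebra.TensorProduct.tmul_mul_tmul, one_mul, hc x.1 (Finset.mem_image_of_mem _ hx) i,
    TensorProduct.smul_tmul]

/-- Boxes form a basis of `Spec (A ⊗ R)`. -/
theorem exists_box (hA : IsProfiniteAlg k A) (z : PrimeSpectrum (A ⊗[k] R)) (h : A ⊗[k] R)
    (hz : h ∉ z.asIdeal) : ∃ (e : A) (r : R), (e ⊗ₜ[k] (1 : R)) ∉ z.asIdeal ∧
      ((1 : A) ⊗ₜ[k] r) ∉ z.asIdeal ∧ ∀ z' : PrimeSpectrum (A ⊗[k] R),
        (e ⊗ₜ[k] (1 : R)) ∉ z'.asIdeal → ((1 : A) ⊗ₜ[k] r) ∉ z'.asIdeal → h ∉ z'.asIdeal := by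
  obtain ⟨n, e, r, he, hr⟩ := exists_diag hA h
  obtain ⟨i, hi⟩ : ∃ i, (e i ⊗ₜ[k] (1 : R)) ∉ z.asIdeal := by
    by_contra hcon
    push Not at hcon
    have : (1 : A ⊗[k] R) ∈ z.asIdeal := by
      rw [Algebra.TensorProduct.one_def, ← he, TensorProduct.sum_tmul]
      exact sum_mem fun i _ => hcon i
    exact (Ideal.ne_top_iff_one _).mp z.isPrime.ne_top this
  have key : ∀ z' : PrimeSpectrum (A ⊗[k] R), (e i ⊗ₜ[k] (1 : R)) ∉ z'.asIdeal →
      (h ∉ z'.asIdeal ↔ ((1 : A) ⊗ₜ[k] r i) ∉ z'.asIdeal) := by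
    intro z' hz'
    have h1 : e i ⊗ₜ[k] r i = (e i ⊗ₜ[k] (1 : R)) * ((1 : A) ⊗ₜ[k] r i) := by
      rw [Algebra.TensorProduct.tmul_mul_tmul, mul_one, one_mul]
    have h2 := hr i
    rw [h1] at h2
    constructor
    · intro hh hcon
      have h3 : (e i ⊗ₜ[k] (1 : R)) * h ∈ z'.asIdeal := h2 ▸ z'.asIdeal.mul_mem_left _ hcon
      exact (z'.isPrime.mem_or_mem h3).elim hz' hh
    · intro hh hcon
      have h3 : (e i ⊗ₜ[k] (1 : R)) * ((1 : A) ⊗ₜ[k] r i) ∈ z'.asIdeal :=
        h2 ▸ z'.asIdeal.mul_mem_left _ hcon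
      exact (z'.isPrime.mem_or_mem h3).elim hz' hh
  exact ⟨e i, r i, hi, (key z hi).mp hz, fun z' h1 h2 => (key z' h1).mpr h2⟩

end Algebra

section Scheme

variable {k : Type u} [Field k] {A : Type u} [CommRing A] [Algebra k A]

/-- the structure morphism of `Spec A` -/
noncomputable abbrev str (k A : Type u) [Field k] [CommRing A] [Algebra k A] :
    Spec (CommRingCat.of A) ⟶ Spec (CommRingCat.of k) :=
  Spec.map (CommRingCat.ofHom (algebraMap k A))

/-- Every point of `Spec A` is rational. -/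
theorem exists_section (hA : IsProfiniteAlg k A) (a : Spec (CommRingCat.of A)) :
    ∃ s : Spec (CommRingCat.of k) ⟶ Spec (CommRingCat.of A), s ≫ str k A = 𝟙 _ ∧
      ∀ p, s p = a := by
  let P : Ideal A := a.asIdeal
  have hP : P.IsPrime := a.isPrime
  have hsurj := surjective_algebraMap_quotient hA P
  have hbij : Function.Bijective (algebraMap k (A ⧸ P)) :=
    ⟨(algebraMap k (A ⧸ P)).injective, hsurj⟩
  let e : k ≃ₐ[k] (A ⧸ P) := AlgEquiv.ofBijective (Algebra.ofId k (A ⧸ P)) hbij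
  let φ : A →ₐ[k] k := (e.symm : (A ⧸ P) →ₐ[k] k).comp (Ideal.Quotient.mkₐ k P)
  refine ⟨Spec.map (CommRingCat.ofHom φ.toRingHom), ?_, fun p => ?_⟩
  · rw [← Spec.map_comp, ← CommRingCat.ofHom_comp]
    have : φ.toRingHom.comp (algebraMap k A) = RingHom.id k := by
      ext x
      exact φ.commutes x
    rw [this]
    exact Spec.map_id _
  · apply PrimeSpectrum.ext
    have hp : p.asIdeal = ⊥ := by
      have := p.isPrime
      exact (Ideal.eq_bot_of_prime p.asIdeal)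
    ext x
    change φ x ∈ p.asIdeal ↔ x ∈ P
    rw [hp, Ideal.mem_bot]
    change e.symm (Ideal.Quotient.mk P x) = 0 ↔ x ∈ P
    rw [map_eq_zero_iff _ e.symm.injective, Ideal.Quotient.eq_zero_iff_mem]

variable {X Z : Scheme.{u}} {f : X ⟶ Spec (CommRingCat.of k)} {p₁ : Z ⟶ Spec (CommRingCat.of A)}
  {p₂ : Z ⟶ X}

theorem injective (hA : IsProfiniteAlg k A) (h : IsPullback p₁ p₂ (str k A) f) :
    Function.Injective (fun z : Z => (p₁ z, p₂ z)) := by
  intro z z' hzz
  obtain ⟨h1, h2⟩ := Prod.mk.inj hzz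
  obtain ⟨s, hs, hsa⟩ := exists_section hA (p₁ z)
  let t : X ⟶ Z := h.lift (f ≫ s) (𝟙 X) (by rw [Category.assoc, hs]; simp)
  have ht1 : t ≫ p₁ = f ≫ s := h.lift_fst _ _ _
  have ht2 : t ≫ p₂ = 𝟙 X := h.lift_snd _ _ _
  have hpb : IsPullback t f p₁ s := by
    refine IsPullback.of_right (h₁₂ := p₂) (h₂₂ := str k A) (v₁₃ := f) ?_ ht1 h.flip
    rw [ht2, hs]
    exact IsPullback.of_horiz_isIso ⟨by simp⟩
  have key : ∀ w : Z, p₁ w = p₁ z → w = t (p₂ w) := by
    intro w hw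
    obtain ⟨x, hx, -⟩ := Scheme.exists_preimage_of_isPullback hpb w
      (IsLocalRing.closedPoint k) (hw.trans (hsa _).symm)
    rw [← hx, ← Scheme.Hom.comp_apply t p₂, ht2]
    rfl
  rw [key z rfl, key z' h1.symm, h2]

theorem surjective (h : IsPullback p₁ p₂ (str k A) f) :
    Function.Surjective (fun z : Z => (p₁ z, p₂ z)) := by
  rintro ⟨a, x⟩
  obtain ⟨z, h1, h2⟩ := Scheme.exists_preimage_of_isPullback h a x
    (Subsingleton.elim (α := PrimeSpectrum k) _ _)
  exact ⟨z, Prod.ext h1 h2⟩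

/-- The box neighbourhoods form a basis. -/
theorem exists_box_nhd (hA : IsProfiniteAlg k A) (h : IsPullback p₁ p₂ (str k A) f) (z : Z)
    (W : Set Z) (hW : IsOpen W) (hz : z ∈ W) :
    ∃ (V : Set (Spec (CommRingCat.of A))) (U : Set X), IsOpen V ∧ IsOpen U ∧ p₁ z ∈ V ∧ p₂ z ∈ U ∧
      ∀ w : Z, p₁ w ∈ V → p₂ w ∈ U → w ∈ W := by
  obtain ⟨R, i, hi, y, hy⟩ := X.exists_Spec_apply_eq (p₂ z)
  let g : CommRingCat.of k ⟶ R := Spec.preimage (i ≫ f)
  have hg : Spec.map g = i ≫ f := Spec.map_preimage _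
  let _ : Algebra k R := g.hom.toAlgebra
  have hg' : Spec.map (CommRingCat.ofHom (algebraMap k R)) = i ≫ f := hg
  let inl : CommRingCat.of A ⟶ CommRingCat.of (A ⊗[k] R) :=
    CommRingCat.ofHom Algebra.TensorProduct.includeLeftRingHom
  let inr : R ⟶ CommRingCat.of (A ⊗[k] R) :=
    CommRingCat.ofHom (Algebra.TensorProduct.includeRight (R := k) (A := A) (B := R)).toRingHom
  have hpo : IsPullback (Spec.map inl) (Spec.map inr) (str k A) (i ≫ f) := by
    rw [← hg']
    exact isPullback_SpecMap_of_isPushout _ _ _ _ (CommRingCat.isPushout_tensorProduct k A R)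
  let q : Spec (CommRingCat.of (A ⊗[k] R)) ⟶ Z :=
    h.lift (Spec.map inl) (Spec.map inr ≫ i) (by rw [Category.assoc]; exact hpo.w)
  have hq1 : q ≫ p₁ = Spec.map inl := h.lift_fst _ _ _
  have hq2 : q ≫ p₂ = Spec.map inr ≫ i := h.lift_snd _ _ _
  have hqpb : IsPullback q (Spec.map inr) p₂ i := by
    refine IsPullback.of_right (h₁₂ := p₁) (h₂₂ := f) (v₁₃ := str k A) ?_ hq2 h
    rw [hq1]
    exact hpo
  have hqo : IsOpenImmersion q := MorphismProperty.of_isPullback hqpb.flip hi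
  obtain ⟨w, hw, -⟩ := Scheme.exists_preimage_of_isPullback hqpb z y hy.symm
  -- a basic open around `w`
  have hW' : IsOpen (q ⁻¹' W) := hW.preimage q.continuous
  have hwW : w ∈ q ⁻¹' W := by
    change q w ∈ W
    rw [hw]; exact hz
  obtain ⟨_, ⟨_, ⟨b, rfl⟩, rfl⟩, hwb, hbW⟩ :=
    PrimeSpectrum.isBasis_basic_opens.exists_subset_of_mem_open hwW hW'
  obtain ⟨e, r, he, hr, her⟩ := exists_box (R := R) hA w b hwb
  refine ⟨{a | e ∉ a.asIdeal}, i '' {y | r ∉ y.asIdeal}, ?_, ?_, ?_, ?_, ?_⟩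
  · exact (PrimeSpectrum.basicOpen e).isOpen
  · exact i.isOpenEmbedding.isOpenMap _ (PrimeSpectrum.basicOpen r).isOpen
  · rw [← hw, ← Scheme.Hom.comp_apply, hq1]
    exact he
  · rw [← hw, ← Scheme.Hom.comp_apply, hq2, Scheme.Hom.comp_apply]
    exact ⟨_, hr, rfl⟩
  · rintro w' hw1 ⟨y', hy', hyw⟩
    obtain ⟨v, hv, hv'⟩ := Scheme.exists_preimage_of_isPullback hqpb w' y' hyw.symm
    have h1 : e ⊗ₜ[k] (1 : R) ∉ v.asIdeal := by
      have h3 : p₁ w' = (Spec.map inl) v := by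
        rw [← hv, ← Scheme.Hom.comp_apply, hq1]
      have h4 : e ∉ ((Spec.map inl) v).asIdeal := by
        rw [← h3]; exact hw1
      exact h4
    have h2 : (1 : A) ⊗ₜ[k] r ∉ v.asIdeal := by
      have h4 : r ∉ ((Spec.map inr) v).asIdeal := by
        rw [hv']; exact hy'
      exact h4
    have h5 : v ∈ q ⁻¹' W := hbW (her v h1 h2)
    rw [← hv]
    exact h5

/-- The underlying space of `Spec A ×_k X` is the product. -/
theorem isHomeomorph (hA : IsProfiniteAlg k A) (h : IsPullback p₁ p₂ (str k A) f) :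
    IsHomeomorph (fun z : Z => (p₁ z, p₂ z)) := by
  refine ⟨p₁.continuous.prodMk p₂.continuous, ?_, injective hA h, surjective h⟩
  intro W hW
  rw [isOpen_iff_forall_mem_open]
  rintro _ ⟨z, hz, rfl⟩
  obtain ⟨V, U, hV, hU, h1, h2, h3⟩ := exists_box_nhd hA h z W hW hz
  refine ⟨V ×ˢ U, ?_, hV.prod hU, ⟨h1, h2⟩⟩
  rintro ⟨a, x⟩ ⟨ha, hx⟩
  obtain ⟨z', hz'⟩ := surjective h ⟨a, x⟩
  obtain ⟨h4, h5⟩ := Prod.mk.inj hz'
  exact ⟨z', h3 z' (h4 ▸ ha) (h5 ▸ hx), hz'⟩

end Scheme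

end K267.Profinite
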