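import Groth.Agent.GrpSch.K267.ProfTop
import Groth.Agent.GrpSch.K267.Profinite
import Groth.Agent.Localalg.GrpSchComp2
import Groth.Agent.Grpsch.OpenSubgroup
import Groth.Agent.Grpsch.Transl

/-!
# Profinite families of rational points of a group scheme lie in an affine open
-/

set_option autoImplicit false
universe u

open CategoryTheory Limits MonoidalCategory CartesianMonoidalCategory MonObj GrpObj AlgebraicGeometry

namespace K267.ProfGrp

open Groth.Agent.Grpsch.Transl Groth.Agent.Grpsch.OpenSubgroup Groth.Agent.Localalg.GrpSchComp2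
  K267.Profinite K267.ProfTop

variable {k : Type u} [Field k]

/-- the point of the unit object -/
noncomputable abbrev o : (𝟙_ (Over (Spec (CommRingCat.of k)))).left := IsLocalRing.closedPoint k

lemma eq_o (s : (𝟙_ (Over (Spec (CommRingCat.of k)))).left) : s = o :=
  Subsingleton.elim (α := PrimeSpectrum k) _ _

lemma comp_apply {X Y Z : Over (Spec (CommRingCat.of k))} (f : X ⟶ Y) (g : Y ⟶ Z) (x : X.left) :
    (f ≫ g).left x = g.left (f.left x) := by
  rw [Over.comp_left, Scheme.Hom.comp_apply]

instance isIso_left_hom {X Y : Over (Spec (CommRingCat.of k))} (e : X ≅ Y) : IsIso e.hom.left :=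
  inferInstanceAs (IsIso ((Over.forget _).map e.hom))

instance isIso_left_inv {X Y : Over (Spec (CommRingCat.of k))} (e : X ≅ Y) : IsIso e.inv.left :=
  inferInstanceAs (IsIso ((Over.forget _).map e.inv))

lemma hom_inv_apply {X Y : Over (Spec (CommRingCat.of k))} (e : X ≅ Y) (x : X.left) :
    e.inv.left (e.hom.left x) = x := by
  rw [← comp_apply, e.hom_inv_id]; rfl

lemma inv_hom_apply {X Y : Over (Spec (CommRingCat.of k))} (e : X ≅ Y) (y : Y.left) :
    e.hom.left (e.inv.left y) = y := by
  rw [← comp_apply, e.inv_hom_id]; rfl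

lemma mem_connectedComponent_map {X Y : Over (Spec (CommRingCat.of k))} (f : X ⟶ Y) {x y : X.left}
    (h : y ∈ connectedComponent x) : f.left y ∈ connectedComponent (f.left x) :=
  f.left.continuous.image_connectedComponent_subset x ⟨y, h, rfl⟩

section

variable {G : Over (Spec (CommRingCat.of k))} [GrpObj G]

/-- the underlying point of a rational point -/
noncomputable def rp (y : 𝟙_ (Over (Spec (CommRingCat.of k))) ⟶ G) : G.left := y.left o

omit [GrpObj G] in
lemma comp_rp {X : Over (Spec (CommRingCat.of k))} (y : 𝟙_ (Over (Spec (CommRingCat.of k))) ⟶ X)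
    (f : X ⟶ G) : f.left (rp y) = rp (y ≫ f) := (comp_apply y f o).symm

omit [GrpObj G] in
lemma toUnit_comp_apply {X : Over (Spec (CommRingCat.of k))} (y : 𝟙_ (Over (Spec (CommRingCat.of k))) ⟶ G)
    (x : X.left) : (toUnit X ≫ y).left x = rp y := by
  rw [comp_apply, eq_o ((toUnit X).left x)]
  rfl

lemma rp_one : rp (1 : 𝟙_ (Over (Spec (CommRingCat.of k))) ⟶ G) = one G := by
  rw [← MonObj.one_eq_one]
  rfl

lemma leftTr_rp (x y : 𝟙_ (Over (Spec (CommRingCat.of k))) ⟶ G) :
    (leftTr G x).hom.left (rp y) = rp (x * y) := by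
  rw [comp_rp, point_leftTr]

lemma rightTr_rp (x y : 𝟙_ (Over (Spec (CommRingCat.of k))) ⟶ G) :
    (rightTr G x).hom.left (rp y) = rp (y * x) := by
  rw [comp_rp, point_rightTr]

lemma inv_rp (y : 𝟙_ (Over (Spec (CommRingCat.of k))) ⟶ G) :
    ι[G].left (rp y) = rp y⁻¹ := by
  rw [comp_rp, ← Hom.inv_def]

/-- the connected component of a rational point is irreducible -/
lemma isIrreducible_component (x : 𝟙_ (Over (Spec (CommRingCat.of k))) ⟶ G) :
    IsIrreducible (connectedComponent (rp x)) := by
  have h1 : connectedComponent (rp x) = (rightTr G x).hom.left '' (N G) := by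
    have hN : N G = connectedComponent (one G) := connectedComponent_one.symm
    have e1 : (rightTr G x).hom.left (one G) = rp x := by
      rw [← rp_one, rightTr_rp, _root_.one_mul]
    rw [hN]
    apply Set.Subset.antisymm
    · intro y hy
      refine ⟨(rightTr G x).inv.left y, ?_, inv_hom_apply _ _⟩
      have h2 := mem_connectedComponent_map (rightTr G x).inv hy
      rwa [← e1, hom_inv_apply] at h2
    · rintro _ ⟨y, hy, rfl⟩
      have h2 := mem_connectedComponent_map (rightTr G x).hom hy
      rwa [e1] at h2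
  rw [h1]
  exact (isIrreducible_N G).image _ (rightTr G x).hom.left.continuous.continuousOn

variable {T : Over (Spec (CommRingCat.of k))} (x : T ⟶ G)

/-- `(t, g) ↦ g x(t)` -/
noncomputable def ract : T ⊗ G ⟶ G := snd T G * (fst T G ≫ x)

/-- the automorphism `(t, g) ↦ (t, g x(t))` -/
noncomputable def rshear : T ⊗ G ≅ T ⊗ G where
  hom := lift (fst T G) (snd T G * (fst T G ≫ x))
  inv := lift (fst T G) (snd T G * (fst T G ≫ x)⁻¹)
  hom_inv_id := by
    ext
    · simp
    · simp [comp_mul, comp_inv]
  inv_hom_id := by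
    ext
    · simp
    · simp [comp_mul]

lemma rshear_snd : (rshear x).hom ≫ snd T G = ract x := by simp [rshear, ract]

/-- The set of `(t, g)` with `g x(t) ∈ U` is open and quasi-compact. -/
lemma isCompact_ract [CompactSpace T.left] (U : G.left.Opens) (hU : IsCompact (U : Set G.left)) :
    IsCompact ((ract x).left ⁻¹' (U : Set G.left)) := by
  have h1 : IsCompact ((snd T G).left ⁻¹' (U : Set G.left)) := by
    have := isCompact_prod T G ⊤ U isCompact_univ hU
    simpa using this
  have h2 : (ract x).left ⁻¹' (U : Set G.left) =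
      (rshear x).inv.left '' ((snd T G).left ⁻¹' (U : Set G.left)) := by
    rw [← rshear_snd]
    ext z
    constructor
    · intro hz
      refine ⟨(rshear x).hom.left z, ?_, hom_inv_apply _ _⟩
      change (snd T G).left ((rshear x).hom.left z) ∈ (U : Set G.left)
      rw [← comp_apply]
      exact hz
    · rintro ⟨w, hw, rfl⟩
      change ((rshear x).hom ≫ snd T G).left ((rshear x).inv.left w) ∈ (U : Set G.left)
      rw [comp_apply, inv_hom_apply]
      exact hw
  rw [h2]
  exact h1.image (rshear x).inv.left.continuous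

/-- the slice of `(t, g) ↦ g x(t)` at a rational point is a translation -/
lemma lift_ract (s : 𝟙_ (Over (Spec (CommRingCat.of k))) ⟶ T) :
    lift (toUnit G ≫ s) (𝟙 G) ≫ ract x = (rightTr G (s ≫ x)).hom := by
  simp [ract, rightTr, comp_mul]

/-- topological hypotheses on `T` -/
structure Prof (T : Over (Spec (CommRingCat.of k))) : Prop where
  compact : CompactSpace T.left
  homeo : ∀ X : Over (Spec (CommRingCat.of k)), IsHomeomorph
    (fun z : (T ⊗ X).left => ((fst T X).left z, (snd T X).left z))
  sec : ∀ t : T.left, ∃ s : 𝟙_ (Over (Spec (CommRingCat.of k))) ⟶ T, s.left o = t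

/-- A translate of `U` contains all values of `x` in a given connected component. -/
theorem exists_translate (hT : Prof T) [JacobsonSpace G.left]
    (hrat : ∀ g : G.left, IsClosed ({g} : Set G.left) →
      ∃ y : 𝟙_ (Over (Spec (CommRingCat.of k))) ⟶ G, rp y = g)
    (U : G.left.Opens) (hU : IsCompact (U : Set G.left)) (heU : one G ∈ U) (t₀ : T.left) :
    ∃ y : 𝟙_ (Over (Spec (CommRingCat.of k))) ⟶ G,
      rp y⁻¹ ∈ connectedComponent (x.left t₀) ∧
      ∀ t, x.left t ∈ connectedComponent (x.left t₀) → (leftTr G y).hom.left (x.left t) ∈ U := by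
  have := hT.compact
  let Z : Set G.left := connectedComponent (x.left t₀)
  obtain ⟨s₀, hs₀⟩ := hT.sec t₀
  have hx₀ : rp (s₀ ≫ x) = x.left t₀ := by rw [← comp_rp, rp, hs₀]
  have hZ : IsIrreducible Z := by
    have := isIrreducible_component (s₀ ≫ x)
    rwa [hx₀] at this
  let Y : Set G.left := ι[G].left '' Z
  have hY : IsIrreducible Y := hZ.image _ ι[G].left.continuous.continuousOn
  let φ : (T ⊗ G).left → T.left × G.left := fun z => ((fst T G).left z, (snd T G).left z)
  have hφ : IsHomeomorph φ := hT.homeo G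
  let Ω : Set (T.left × G.left) := φ '' ((ract x).left ⁻¹' (U : Set G.left))
  have hΩo : IsOpen Ω := hφ.isOpenMap _ (U.2.preimage (ract x).left.continuous)
  have hΩc : IsCompact Ω := (isCompact_ract x U hU).image hφ.continuous
  have hslice : ∀ (s : 𝟙_ (Over (Spec (CommRingCat.of k))) ⟶ T) (g : G.left),
      (s.left o, g) ∈ Ω ↔ (rightTr G (s ≫ x)).hom.left g ∈ U := by
    intro s g
    let z : (T ⊗ G).left := (lift (toUnit G ≫ s) (𝟙 G)).left g
    have hz : φ z = (s.left o, g) := by
      refine Prod.ext ?_ ?_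
      · change (fst T G).left z = _
        rw [← comp_apply, lift_fst, comp_apply, eq_o ((toUnit G).left g)]
      · change (snd T G).left z = _
        rw [← comp_apply, lift_snd]
        rfl
    have hz2 : (ract x).left z = (rightTr G (s ≫ x)).hom.left g := by
      rw [← comp_apply, lift_ract]
    rw [← hz, ← hz2]
    constructor
    · rintro ⟨w, hw, hwz⟩
      rw [← hφ.injective hwz]
      exact hw
    · intro h
      exact ⟨z, h, rfl⟩
  obtain ⟨D, hD, hYD, hDO⟩ := exists_common Y hY (fun t : T.left => {g : G.left | (t, g) ∈ Ω})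
    (fun t => hΩo.preimage (Continuous.prodMk_right t)) (finite_slices Ω hΩo hΩc)
    {t | x.left t ∈ Z} (by
      intro t ht
      obtain ⟨s, hs⟩ := hT.sec t
      have hxt : rp (s ≫ x) = x.left t := by rw [← comp_rp, rp, hs]
      refine ⟨ι[G].left (x.left t), ⟨_, ht, rfl⟩, ?_⟩
      change (t, ι[G].left (x.left t)) ∈ Ω
      rw [← hs, hslice, hs, ← hxt, inv_rp, rightTr_rp, inv_mul_cancel, rp_one]
      exact heU)
  obtain ⟨g, ⟨hgY, hgD⟩, hg⟩ := nonempty_inter_closedPoints (X := G.left) (Z := Y ∩ D) hYD (by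
    have hYc : IsClosed Y := by
      have h1 : Y = ι[G].left ⁻¹' Z := by
        have hιι : ∀ w : G.left, ι[G].left (ι[G].left w) = w := by
          intro w
          have h2 : ι[G] ≫ ι[G] = 𝟙 G := by
            rw [GrpObj.inv_eq_inv, GrpObj.comp_inv, Category.comp_id, _root_.inv_inv]
          rw [← comp_apply, h2]
          rfl
        ext w
        constructor
        · rintro ⟨v, hv, rfl⟩
          change ι[G].left (ι[G].left v) ∈ Z
          rw [hιι]; exact hv
        · intro hw
          exact ⟨_, hw, hιι w⟩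
      rw [h1]
      exact isClosed_connectedComponent.preimage ι[G].left.continuous
    exact hYc.isLocallyClosed.inter hD.isLocallyClosed)
  obtain ⟨y, rfl⟩ := hrat g hg
  refine ⟨y, ?_, ?_⟩
  · obtain ⟨v, hv, hvy⟩ := hgY
    have h2 : ι[G].left (rp y) = v := by
      rw [← hvy, ← comp_apply, GrpObj.inv_eq_inv, GrpObj.comp_inv, Category.comp_id,
        _root_.inv_inv]
      rfl
    rw [inv_rp] at h2
    rw [h2]
    exact hv
  · intro t ht
    obtain ⟨s, hs⟩ := hT.sec t
    have hxt : rp (s ≫ x) = x.left t := by rw [← comp_rp, rp, hs]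
    have h1 : (t, rp y) ∈ Ω := hDO t ht hgD
    rw [← hs, hslice, rightTr_rp] at h1
    rw [← hxt, leftTr_rp]
    exact h1

/-- A quasi-compact open subset containing all the relevant translates of `U`. -/
theorem exists_big_open (hT : Prof T) (U : G.left.Opens) (hU : IsCompact (U : Set G.left))
    (heU : one G ∈ U) :
    ∃ W : G.left.Opens, IsCompact (W : Set G.left) ∧ (∀ t, x.left t ∈ W) ∧
      ∀ (t₀ : T.left) (y : 𝟙_ (Over (Spec (CommRingCat.of k))) ⟶ G),
        rp y⁻¹ ∈ connectedComponent (x.left t₀) →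
        ∀ v : G.left, (leftTr G y).hom.left v ∈ U → v ∈ W := by
  have := hT.compact
  have := quasiSeparatedSpace G
  obtain ⟨M, hMc, hMo, hNM, -⟩ := PrespectralSpace.exists_isCompact_and_isOpen_between
    (K := N G) (U := Set.univ) (isCompact_N G) isOpen_univ (Set.subset_univ _)
  let M' : G.left.Opens := ⟨M, hMo⟩
  let act : T ⊗ G ⟶ G := (fst T G ≫ x) * snd T G
  have hact : IsOpenMap act.left := by
    have := universallyOpen_act G x
    exact act.left.isOpenMap
  let W₁ : G.left.Opens := ⟨act.left '' ((snd T G).left ⁻¹' M),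
    hact _ (hMo.preimage (snd T G).left.continuous)⟩
  have hW₁ : IsCompact (W₁ : Set G.left) := by
    have h1 : IsCompact ((snd T G).left ⁻¹' (M' : Set G.left)) := by
      have := isCompact_prod T G ⊤ M' isCompact_univ hMc
      simpa using this
    exact h1.image act.left.continuous
  let W : G.left.Opens := ⟨μ[G].left '' ((fst G G).left ⁻¹' (W₁ : Set G.left) ∩
      (snd G G).left ⁻¹' (U : Set G.left)),
    μ[G].left.isOpenMap _ ((W₁.2.preimage (fst G G).left.continuous).inter
        (U.2.preimage (snd G G).left.continuous))⟩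
  have hW : IsCompact (W : Set G.left) :=
    (isCompact_prod G G W₁ U hW₁ hU).image μ[G].left.continuous
  -- membership in `W₁`
  have hmem₁ : ∀ (s : 𝟙_ (Over (Spec (CommRingCat.of k))) ⟶ T)
      (h : 𝟙_ (Over (Spec (CommRingCat.of k))) ⟶ G), rp h ∈ N G → rp ((s ≫ x) * h) ∈ W₁ := by
    intro s h hh
    refine ⟨(lift s h).left o, ?_, ?_⟩
    · change (snd T G).left ((lift s h).left o) ∈ M
      rw [← comp_apply, lift_snd]
      exact hNM hh
    · rw [← comp_apply, comp_mul, lift_fst_assoc, lift_snd]
      rfl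
  refine ⟨W, hW, ?_, ?_⟩
  · intro t
    obtain ⟨s, hs⟩ := hT.sec t
    have hxt : rp (s ≫ x) = x.left t := by rw [← comp_rp, rp, hs]
    have h1 : rp (s ≫ x) ∈ W₁ := by
      have := hmem₁ s 1 (by rw [rp_one]; exact one_mem_N G)
      rwa [_root_.mul_one] at this
    refine ⟨(lift (s ≫ x) 1).left o, ⟨?_, ?_⟩, ?_⟩
    · change (fst G G).left ((lift (s ≫ x) 1).left o) ∈ W₁
      rw [← comp_apply, lift_fst]
      exact h1
    · change (snd G G).left ((lift (s ≫ x) 1).left o) ∈ U
      rw [← comp_apply, lift_snd]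
      have : (1 : 𝟙_ (Over (Spec (CommRingCat.of k))) ⟶ G).left o = one G := rp_one
      rw [this]
      exact heU
    · rw [← comp_apply, ← hxt, ← Hom.mul_def, _root_.mul_one]
      rfl
  · intro t₀ y hy v hv
    obtain ⟨s₀, hs₀⟩ := hT.sec t₀
    have hx₀ : rp (s₀ ≫ x) = x.left t₀ := by rw [← comp_rp, rp, hs₀]
    have h1 : rp y⁻¹ ∈ W₁ := by
      have h2 := mem_connectedComponent_map (leftTr G (s₀ ≫ x)⁻¹).hom hy
      rw [← hx₀, leftTr_rp, leftTr_rp, inv_mul_cancel, rp_one, connectedComponent_one] at h2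
      have h3 := hmem₁ s₀ _ h2
      rwa [mul_inv_cancel_left] at h3
    refine ⟨(lift (toUnit G ≫ y⁻¹) (leftTr G y).hom).left v, ⟨?_, ?_⟩, ?_⟩
    · change (fst G G).left ((lift (toUnit G ≫ y⁻¹) (leftTr G y).hom).left v) ∈ W₁
      rw [← comp_apply, lift_fst, toUnit_comp_apply]
      exact h1
    · change (snd G G).left ((lift (toUnit G ≫ y⁻¹) (leftTr G y).hom).left v) ∈ U
      rw [← comp_apply, lift_snd]
      exact hv
    · rw [← comp_apply, ← Hom.mul_def, leftTr_hom, GrpObj.comp_inv, inv_mul_cancel_left]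
      rfl

/-- All values of a profinite family lie in an affine open. -/
theorem exists_affine (hT : Prof T) [JacobsonSpace G.left]
    (hrat : ∀ g : G.left, IsClosed ({g} : Set G.left) →
      ∃ y : 𝟙_ (Over (Spec (CommRingCat.of k))) ⟶ G, rp y = g) :
    ∃ U : G.left.Opens, IsAffineOpen U ∧ Set.range x.left ⊆ (U : Set G.left) := by
  have := hT.compact
  have := quasiSeparatedSpace G
  obtain ⟨_, ⟨U, hUa, rfl⟩, heU, -⟩ := (G.left.isBasis_affineOpens).exists_subset_of_mem_open
      (Set.mem_univ (one G)) isOpen_univ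
  have hU : IsAffineOpen U := hUa
  obtain ⟨W, hWc, hxW, hW⟩ := exists_big_open x hT U hU.isCompact heU
  refine exists_affine_of_local W hWc x.left x.left.continuous hxW fun t₀ => ?_
  obtain ⟨y, hy, hyU⟩ := exists_translate x hT hrat U hU.isCompact heU t₀
  refine ⟨(leftTr G y).hom.left ⁻¹ᵁ U, hU.preimage_of_isIso _, ?_, ?_⟩
  · intro v hv
    exact hW t₀ y hy v hv
  · intro t ht
    exact hyU t ht

end

end K267.ProfGrp
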