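import Groth.Agent.Pi1A.CompSpectral
import Mathlib.AlgebraicGeometry.Limits
import Mathlib.AlgebraicGeometry.Morphisms.ClosedImmersion
import Mathlib.AlgebraicGeometry.Morphisms.QuasiSeparated

/-!
# Topological and scheme-theoretic preliminaries for affine neighbourhoods of profinite families
-/

set_option autoImplicit false
universe u

open CategoryTheory CategoryTheory.Limits AlgebraicGeometry TopologicalSpace

namespace K267.ProfTop

section Top

variable {T X : Type*} [TopologicalSpace T] [TopologicalSpace X]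

/-- A quasi-compact open subset of a product has only finitely many slices. -/
theorem finite_slices (Ω : Set (T × X)) (hΩ : IsOpen Ω) (hc : IsCompact Ω) :
    (Set.range fun a : T => {x : X | (a, x) ∈ Ω}).Finite := by
  classical
  have h1 : ∀ p : T × X, p ∈ Ω → ∃ (V : Set T) (W : Set X), IsOpen V ∧ IsOpen W ∧ p.1 ∈ V ∧
      p.2 ∈ W ∧ V ×ˢ W ⊆ Ω := by
    rintro ⟨a, x⟩ hp
    obtain ⟨V, W, hV, hW, ha, hx, h⟩ := isOpen_prod_iff.mp hΩ a x hp
    exact ⟨V, W, hV, hW, ha, hx, h⟩
  choose! V W hV hW haV hxW hVW using h1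
  obtain ⟨t, htΩ, ht⟩ := hc.elim_nhds_subcover (fun p => V p ×ˢ W p)
    (fun p hp => ((hV p hp).prod (hW p hp)).mem_nhds ⟨haV p hp, hxW p hp⟩)
  let g : Finset (T × X) → Set X := fun s => ⋃ p ∈ s, W p
  refine ((t.powerset.finite_toSet).image g).subset ?_
  rintro _ ⟨a, rfl⟩
  refine ⟨t.filter (fun p => a ∈ V p), Finset.mem_coe.mpr (Finset.mem_powerset.mpr
    (Finset.filter_subset _ _)), ?_⟩
  ext x
  simp only [g, Finset.mem_filter, Set.mem_iUnion, exists_prop, Set.mem_ofPred_eq]
  constructor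
  · rintro ⟨p, ⟨hp, hap⟩, hx⟩
    exact hVW p (htΩ p hp) ⟨hap, hx⟩
  · intro hx
    obtain ⟨p, hp, h⟩ := Set.mem_iUnion₂.mp (ht hx)
    exact ⟨p, ⟨hp, h.1⟩, h.2⟩

omit [TopologicalSpace T] in
/-- Finitely many open slices which meet an irreducible set have a common point in it. -/
theorem exists_common (Y : Set X) (hY : IsIrreducible Y) (O : T → Set X)
    (hO : ∀ a, IsOpen (O a)) (hfin : (Set.range O).Finite) (F : Set T)
    (hF : ∀ a ∈ F, (Y ∩ O a).Nonempty) :
    ∃ D : Set X, IsOpen D ∧ (Y ∩ D).Nonempty ∧ ∀ a ∈ F, D ⊆ O a := by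
  classical
  have hfin' : (O '' F).Finite := hfin.subset (Set.image_subset_range _ _)
  refine ⟨⋂₀ ((hfin'.toFinset : Finset (Set X)) : Set (Set X)), ?_, ?_, ?_⟩
  · refine Set.Finite.isOpen_sInter (Finset.finite_toSet _) ?_
    intro s hs
    obtain ⟨a, -, rfl⟩ := (hfin'.mem_toFinset).mp hs
    exact hO a
  · refine (isIrreducible_iff_sInter.mp hY) _ ?_ ?_
    · intro s hs
      obtain ⟨a, -, rfl⟩ := (hfin'.mem_toFinset).mp hs
      exact hO a
    · intro s hs
      obtain ⟨a, ha, rfl⟩ := (hfin'.mem_toFinset).mp hs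
      exact hF a ha
  · intro a ha x hx
    exact hx (O a) ((hfin'.mem_toFinset).mpr ⟨a, ha, rfl⟩)

/-- Gluing along a clopen decomposition of a quasi-compact open `W`. -/
theorem exists_of_local [CompactSpace T] [QuasiSeparatedSpace X] [PrespectralSpace X]
    (P : Set X → Prop) (hempty : P ∅)
    (hsub : ∀ U O : Set X, P U → IsOpen O → O ⊆ U → (∃ C, IsClosed C ∧ O = U ∩ C) → P O)
    (hopen : ∀ U, P U → IsOpen U)
    (hsup : ∀ U V, P U → P V → Disjoint U V → P (U ∪ V))
    (W : Set X) (hWo : IsOpen W) (hW : IsCompact W) (f : T → X)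
    (hf : Continuous f) (hfW : ∀ t, f t ∈ W)
    (H : ∀ t₀ : T, ∃ U : Set X, P U ∧ U ⊆ W ∧
      ∀ t, f t ∈ connectedComponent (f t₀) → f t ∈ U) :
    ∃ U : Set X, P U ∧ Set.range f ⊆ U := by
  classical
  have i1 : CompactSpace W := isCompact_iff_compactSpace.mp hW
  have i2 : QuasiSeparatedSpace W := QuasiSeparatedSpace.of_isOpenEmbedding hWo.isOpenEmbedding_subtypeVal
  have i3 : PrespectralSpace W := Topology.IsOpenEmbedding.prespectralSpace hWo.isOpenEmbedding_subtypeVal
  let f' : T → W := fun t => ⟨f t, hfW t⟩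
  have hf' : Continuous f' := hf.subtype_mk _
  -- local clopens
  have key : ∀ t₀ : T, ∃ (U : Set X) (s : Set W), P U ∧ U ⊆ W ∧ IsClopen s ∧
      f' t₀ ∈ s ∧ ∀ t, f' t ∈ s → f t ∈ U := by
    intro t₀
    obtain ⟨U, hU, hUW, hfU⟩ := H t₀
    have hK : IsCompact (f' '' (f ⁻¹' (U : Set X))ᶜ) :=
      (((hopen U hU).preimage hf).isClosed_compl.isCompact).image hf'
    obtain ⟨s, hs, hts, hd⟩ := Groth.Agent.Pi1A.CompSpectral.exists_isClopen_disjoint
      (x := f' t₀) hK (by
        rw [← Groth.Agent.Pi1A.CompSpectral.connectedComponent_eq_iInter_isClopen]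
        rw [Set.eq_empty_iff_forall_notMem]
        rintro _ ⟨⟨t, ht, rfl⟩, ht'⟩
        apply ht
        apply hfU
        have h1 : _root_.IsPreconnected (Subtype.val '' connectedComponent (f' t₀) : Set X) :=
          isPreconnected_connectedComponent.image _ continuous_subtype_val.continuousOn
        exact h1.subset_connectedComponent ⟨f' t₀, mem_connectedComponent, rfl⟩ ⟨f' t, ht', rfl⟩)
    refine ⟨U, s, hU, hUW, hs, hts, fun t ht => ?_⟩
    by_contra hcon
    exact Set.disjoint_left.mp hd ⟨t, hcon, rfl⟩ ht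
  choose U s hU hUW hs hts hsU using key
  -- finite subcover
  obtain ⟨t, -, ht⟩ := isCompact_univ.elim_nhds_subcover (fun a => f' ⁻¹' s a)
    (fun a _ => ((hs a).isOpen.preimage hf').mem_nhds (hts a))
  have main : ∀ t : Finset T, ∃ O : Set X, P O ∧
      O ⊆ Subtype.val '' (⋃ a ∈ t, s a) ∧ ∀ x, f' x ∈ (⋃ a ∈ t, s a) → f x ∈ O := by
    intro t
    induction t using Finset.induction_on with
    | empty =>
      exact ⟨∅, hempty, by simp, by simp⟩
    | insert a t ha ih =>
      obtain ⟨O, hO, hOs, hOf⟩ := ih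
      let B : Set W := ⋃ b ∈ t, s b
      have hB : IsClopen B := t.finite_toSet.isClopen_biUnion fun b _ => hs b
      -- the new piece
      let Q : Set W := s a \ B
      have hQ : IsClopen Q := (hs a).diff hB
      obtain ⟨C, hC, hCP⟩ := (Topology.IsInducing.subtypeVal.isClosed_iff).mp hQ.isClosed
      let P' : Set X := Subtype.val '' Q
      have hP' : IsOpen P' := hWo.isOpenMap_subtype_val _ hQ.isOpen
      let N : Set X := U a ∩ P'
      have hN : P N := by
        refine hsub (U a) N (hU a) ((hopen _ (hU a)).inter hP') Set.inter_subset_left ⟨C, hC, ?_⟩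
        ext x
        constructor
        · rintro ⟨hx, ⟨y, hy, rfl⟩⟩
          refine ⟨hx, ?_⟩
          rw [← hCP] at hy
          exact hy
        · rintro ⟨hx, hxC⟩
          refine ⟨hx, ⟨⟨x, hUW a hx⟩, ?_, rfl⟩⟩
          rw [← hCP]
          exact hxC
      have hd : Disjoint O N := by
        rw [Set.disjoint_left]
        rintro x hxO ⟨-, ⟨y, hy, rfl⟩⟩
        obtain ⟨y', hy', h⟩ := hOs hxO
        have : y' = y := Subtype.ext h
        subst this
        exact hy.2 hy'
      refine ⟨O ∪ N, hsup _ _ hO hN hd, ?_, ?_⟩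
      · rw [Finset.set_biUnion_insert, Set.image_union]
        refine Set.union_subset (hOs.trans Set.subset_union_right) ?_
        rintro x ⟨-, ⟨y, hy, rfl⟩⟩
        exact Or.inl ⟨y, hy.1, rfl⟩
      · intro x hx
        rw [Finset.set_biUnion_insert] at hx
        by_cases hxB : f' x ∈ B
        · exact Or.inl (hOf x hxB)
        · have hxa : f' x ∈ s a := hx.resolve_right hxB
          exact Or.inr ⟨hsU a x hxa, ⟨f' x, ⟨hxa, hxB⟩, rfl⟩⟩
  obtain ⟨O, hO, -, hOf⟩ := main t
  refine ⟨O, hO, ?_⟩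
  rintro _ ⟨x, rfl⟩
  apply hOf
  obtain ⟨a, ha, hxa⟩ := Set.mem_iUnion₂.mp (ht (Set.mem_univ x))
  exact Set.mem_iUnion₂.mpr ⟨a, ha, hxa⟩

end Top

section Sch

variable {X : Scheme.{u}}

/-- A relatively closed open subset of an affine open is affine. -/
theorem isAffineOpen_of_closed {U O : X.Opens} (hU : IsAffineOpen U) (h : O ≤ U)
    (hcl : ∃ C : Set X, IsClosed C ∧ (O : Set X) = (U : Set X) ∩ C) : IsAffineOpen O := by
  obtain ⟨C, hC, hOC⟩ := hcl
  have h1 : IsClosed (Set.range (X.homOfLE h)) := by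
    have h2 : Set.range (X.homOfLE h) = U.ι ⁻¹' C := by
      ext x
      have hx0 : U.ι x ∈ (U : Set X) := by
        have : U.ι x ∈ Set.range U.ι := ⟨x, rfl⟩
        rwa [Scheme.Opens.range_ι] at this
      constructor
      · rintro ⟨y, rfl⟩
        have h3 : O.ι y ∈ (O : Set X) := by
          have : O.ι y ∈ Set.range O.ι := ⟨y, rfl⟩
          rwa [Scheme.Opens.range_ι] at this
        rw [hOC] at h3
        have h4 : U.ι ((X.homOfLE h) y) = O.ι y := by
          rw [← Scheme.Hom.comp_apply, Scheme.homOfLE_ι]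
        change U.ι ((X.homOfLE h) y) ∈ C
        rw [h4]
        exact h3.2
      · intro hx
        have h3 : U.ι x ∈ (O : Set X) := by rw [hOC]; exact ⟨hx0, hx⟩
        rw [← Scheme.Opens.range_ι] at h3
        obtain ⟨y, hy⟩ := h3
        refine ⟨y, U.ι.isOpenEmbedding.injective ?_⟩
        rw [← Scheme.Hom.comp_apply, Scheme.homOfLE_ι]
        exact hy
    rw [h2]
    exact hC.preimage U.ι.continuous
  have h4 : IsClosedImmersion (X.homOfLE h) := IsClosedImmersion.of_isPreimmersion _ h1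
  have h5 : IsAffine U := hU
  exact isAffine_of_isAffineHom (X.homOfLE h)

/-- Gluing affine opens along a clopen decomposition of a quasi-compact open `W`. -/
theorem exists_affine_of_local {T : Type*} [TopologicalSpace T] [CompactSpace T]
    [QuasiSeparatedSpace X] (W : X.Opens) (hW : IsCompact (W : Set X)) (f : T → X)
    (hf : Continuous f) (hfW : ∀ t, f t ∈ W)
    (H : ∀ t₀ : T, ∃ U : X.Opens, IsAffineOpen U ∧ U ≤ W ∧
      ∀ t, f t ∈ connectedComponent (f t₀) → f t ∈ U) :
    ∃ U : X.Opens, IsAffineOpen U ∧ Set.range f ⊆ U := by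
  obtain ⟨U, ⟨U', hU', rfl⟩, h⟩ := exists_of_local (X := X)
    (fun U => ∃ U' : X.Opens, IsAffineOpen U' ∧ (U' : Set X) = U)
    ⟨⊥, isAffineOpen_bot X, rfl⟩
    (by
      rintro _ O ⟨U', hU', rfl⟩ hO hOU hC
      exact ⟨⟨O, hO⟩, isAffineOpen_of_closed hU' hOU hC, rfl⟩)
    (by
      rintro _ ⟨U', hU', rfl⟩
      exact U'.2)
    (by
      rintro _ _ ⟨U', hU', rfl⟩ ⟨V', hV', rfl⟩ hd
      refine ⟨U' ⊔ V', hU'.sup_of_disjoint hV' ?_, TopologicalSpace.Opens.coe_sup _ _⟩
      rwa [← TopologicalSpace.Opens.coe_disjoint])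
    (W : Set X) W.2 hW f hf hfW
    (by
      intro t₀
      obtain ⟨U, hU, hUW, h⟩ := H t₀
      exact ⟨U, ⟨U, hU, rfl⟩, hUW, h⟩)
  exact ⟨U', hU', h⟩

end Sch

end K267.ProfTop
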