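import Groth.Agent.GrpSch.K86.GmPow
import Groth.Agent.S17456
import Groth.Agent.S4081
import Groth.Agent.S3016
import Groth.Agent.Sga3.H816.TorusDim
import Groth.Agent.AbVar.K505.Image
import Groth.Agent.AbVar.K523.AvField
import Groth.Agent.AlgGrp.K404.DimKer
import Groth.Agent.AlgGrp.K411.DimPt
import Groth.Agent.Sga7.H760.KerBc
import Groth.Agent.Sga3.H786.TCAff
import Groth.Agent.GrpSch.K267.MultPart
import Groth.Agent.Flat2E.GeomConnCover

/-!
# Dimensions and degrees of torsion for semi-abelian varieties, in the vocabulary of `K270.MB`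
-/

set_option autoImplicit false
universe u

open CategoryTheory Limits MonoidalCategory CartesianMonoidalCategory MonObj GrpObj AlgebraicGeometry
open IsLocalRing

namespace K267.SemiRank

open Groth.Agent K270.MB

section Field

variable {k : Type u} [Field k] {G T B : Over (Spec (CommRingCat.of k))} [GrpObj G] [GrpObj T] [GrpObj B]
  {r : ℕ} {χ : Fin r → U T} {τ : T ⟶ G} {π : G ⟶ B}

theorem isKernel (h : IsSemiAb r χ τ π) : AlgGrp.IsKernel τ π := by
  have h1 := h.sub.closed
  have hm : Mono τ := Functor.mono_of_mono_map (Over.forget _) (inferInstanceAs (Mono τ.left))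
  rw [Sga7.H760.KerBc.isKernel_iff]
  refine ⟨(h.ker τ).1 ⟨𝟙 _, Category.id_comp _⟩, fun X g hg => ?_⟩
  obtain ⟨y, hy⟩ := (h.ker g).2 hg
  exact ⟨y, hy, fun z hz => by rw [← cancel_mono τ, hz, hy]⟩

theorem exists_dim (h : IsSemiAb r χ τ π) : ∃ b : ℕ, topologicalKrullDim B.left = b := by
  have h1 := h.proper
  have h2 := h.gi
  exact S4081.exists_dim B

theorem dim_eq (h : IsSemiAb r χ τ π) [LocallyOfFiniteType G.hom] [QuasiCompact G.hom] {b : ℕ}
    (hb : topologicalKrullDim B.left = b) : topologicalKrullDim G.left = ((b + r : ℕ) : WithBot ℕ∞) := by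
  have h1 := h.proper
  have h2 := h.mon
  have h3 := h.surj
  have hqc : QuasiCompact π.left := by
    have : QuasiCompact (π.left ≫ B.hom) := by rw [Over.w]; infer_instance
    exact QuasiCompact.of_comp π.left B.hom
  obtain ⟨h5, h6⟩ := Groth.Agent.S3016.result k G B π
  have h4 : topologicalKrullDim T.left =
      topologicalKrullDim ↥(pullback π.left (η[B] : 𝟙_ (Over (Spec (CommRingCat.of k))) ⟶ B).left) :=
    IsHomeomorph.topologicalKrullDim_eq _
      (Scheme.homeoOfIso ((isKernel h).map (Over.forget _)).isoPullback).isHomeomorph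
  have h7 : Set.range π.left.base = Set.univ := Set.range_eq_univ.2 h3.surj
  have h8 : topologicalKrullDim (Set.range π.left.base) = topologicalKrullDim B.left := by
    rw [h7]
    exact IsHomeomorph.topologicalKrullDim_eq _ (Homeomorph.Set.univ B.left).isHomeomorph
  rw [h6, h8, hb, ← h4, Sga3.H816.TorusDim.topologicalKrullDim_of_split (K86.GmPow.isSplit h.gm)]
  norm_cast

theorem isTorus (h : IsGmPow r T χ) : Red.IsTorus T :=
  Sga3.H786.TCAff.isTorus_of_isSplitTorusWith (K86.GmPow.isSplit h)

theorem deg_ker (h : IsSemiAb r χ τ π) [IsCommMonObj G] [Smooth G.hom] [QuasiCompact G.hom] [ConnectedSpace G.left]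
    {b : ℕ} (hb : topologicalKrullDim B.left = b) (N : ℕ) (hN : 0 < N)
    (K : Over (Spec (CommRingCat.of k))) [GrpObj K] (κ : K ⟶ G) [IsMonHom κ]
    (hK : AlgGrp.IsKernel κ ((𝟙 G) ^ N)) : Mor2.IsFinLocFreeOfDeg (N ^ (r + 2 * b)) K.hom := by
  have h1 := h.proper
  have h2 := h.mon
  have h3 := h.surj
  have h4 := h.flat
  have h5 := h.gi
  have h6 := h.sub.mon
  have h7 := h.sub.closed
  have h8 : Smooth B.hom := K505.Image.smooth_of_av B
  have h9 : ConnectedSpace B.left := K505.Image.connected_of_av B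
  exact S17456.result k G T B τ (isTorus h.gm) π (isKernel h) r b
    (Sga3.H816.TorusDim.topologicalKrullDim_of_split (K86.GmPow.isSplit h.gm)) hb N hN K κ hK

end Field

section Loc

open K267.TorsFin K267.MultPart

variable {R : Type u} [CommRing R] [IsLocalRing R] {A : Over (Spec (CommRingCat.of R))} [GrpObj A]
  [IsCommMonObj A] {κ : Type u} [Field κ] (φ : R →+* κ) (hφ : RingHom.ker φ = maximalIdeal R)

theorem preconnectedSpace (R : Type u) [CommRing R] [IsLocalRing R] :
    PreconnectedSpace (Spec (CommRingCat.of R)) := by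
  refine ⟨isPreconnected_of_forall (closedPoint R) fun y _ => ?_⟩
  refine ⟨closure {y}, Set.subset_univ _, ?_, subset_closure rfl, isPreconnected_singleton.closure⟩
  exact (specializes_closedPoint y).mem_closure

omit [IsCommMonObj A] in
include hφ in
/-- The finite part gives the kernel of multiplication by `N` on the closed fibre. -/
theorem isKernel_bc {N : ℕ} {F : Over (Spec (CommRingCat.of R))} {f : F ⟶ A} (hf : IsTors A N f) :
    AlgGrp.IsKernel ((Over.pullback (Spec.map (CommRingCat.ofHom φ))).map f)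
      ((𝟙 (Red.bc (Spec.map (CommRingCat.ofHom φ)) A)) ^ N) := by
  have h0 := hf.mono
  have hm : Mono ((Over.pullback (Spec.map (CommRingCat.ofHom φ))).map f) := inferInstance
  rw [Sga7.H760.KerBc.isKernel_iff]
  refine ⟨?_, fun X g hg => ?_⟩
  · rw [comp_one_pow, ← map_pow_eq, hf.pow]
    exact Functor.map_one _
  · obtain ⟨y, hy⟩ := hf.exists_bc_lift (Spec.map (CommRingCat.ofHom φ)) (closedPoint_of_ker φ hφ) g
      (by rw [← comp_one_pow]; exact hg)
    exact ⟨y, hy, fun z hz => by
      rw [← cancel_mono ((Over.pullback (Spec.map (CommRingCat.ofHom φ))).map f), hz, hy]⟩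

variable {T B : Over (Spec (CommRingCat.of κ))} [GrpObj T] [GrpObj B]
  {r : ℕ} {χ : Fin r → U T} {τ : T ⟶ Red.bc (Spec.map (CommRingCat.ofHom φ)) A}
  {π : Red.bc (Spec.map (CommRingCat.ofHom φ)) A ⟶ B}

include hφ in
/-- The rank of the finite part. -/
theorem finrank_finPart (h : IsSemiAb r χ τ π) [Smooth A.hom] [QuasiCompact A.hom] [GeometricallyConnected A.hom]
    {b : ℕ} (hb : topologicalKrullDim B.left = b) {N : ℕ} (hN : 0 < N)
    {F : Over (Spec (CommRingCat.of R))} [GrpObj F] {f : F ⟶ A} [IsMonHom f] (hf : IsTors A N f)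
    (s : Spec (CommRingCat.of R)) : F.hom.finrank s = N ^ (2 * b + r) := by
  have i1 : Smooth (Red.bc (Spec.map (CommRingCat.ofHom φ)) A).hom :=
    inferInstanceAs (Smooth (pullback.snd A.hom (Spec.map (CommRingCat.ofHom φ))))
  have i2 : QuasiCompact (Red.bc (Spec.map (CommRingCat.ofHom φ)) A).hom :=
    inferInstanceAs (QuasiCompact (pullback.snd A.hom (Spec.map (CommRingCat.ofHom φ))))
  have i3 : ConnectedSpace (Red.bc (Spec.map (CommRingCat.ofHom φ)) A).left :=
    Flat2E.GeomConnCover.connectedSpace_pullback A.hom κ (Spec.map (CommRingCat.ofHom φ))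
  have i4 : IsMonHom ((Over.pullback (Spec.map (CommRingCat.ofHom φ))).map f) := inferInstance
  have h1 := hf.fin
  have h2 := hf.flat
  have h3 := hf.lfp
  have h4 := deg_ker h hb N hN (Red.bc (Spec.map (CommRingCat.ofHom φ)) F)
    ((Over.pullback (Spec.map (CommRingCat.ofHom φ))).map f) (isKernel_bc φ hφ hf)
  have h5 := h4.2 (closedPoint κ)
  have h6 : (pullback.snd F.hom (Spec.map (CommRingCat.ofHom φ))).finrank (closedPoint κ) =
      F.hom.finrank ((Spec.map (CommRingCat.ofHom φ)) (closedPoint κ)) :=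
    Scheme.Hom.finrank_pullback_snd F.hom _ _
  have h7 : F.hom.finrank ((Spec.map (CommRingCat.ofHom φ)) (closedPoint κ)) = N ^ (r + 2 * b) :=
    h6.symm.trans h5
  have := preconnectedSpace R
  rw [add_comm (2 * b), ← h7]
  exact (Scheme.Hom.isLocallyConstant_finrank F.hom).apply_eq_of_preconnectedSpace _ _

omit [IsCommMonObj A] in
/-- The degree of `[N]` on the generic fibre. -/
theorem finrank_gen [IsDomain R] (h : IsSemiAb r χ τ π) [Smooth A.hom] [QuasiCompact A.hom]
    [GeometricallyConnected A.hom] [IsProper (Red.bc (gen R) A).hom]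
    {b : ℕ} (hb : topologicalKrullDim B.left = b) {N : ℕ} (hN : 0 < N) (s) :
    (((𝟙 (Red.bc (gen R) A) : Red.bc (gen R) A ⟶ Red.bc (gen R) A) ^ N).left).finrank s =
        N ^ (2 * (b + r)) := by
  have := preconnectedSpace R
  have i1 : Smooth (Red.bc (Spec.map (CommRingCat.ofHom φ)) A).hom :=
    inferInstanceAs (Smooth (pullback.snd A.hom (Spec.map (CommRingCat.ofHom φ))))
  have i2 : QuasiCompact (Red.bc (Spec.map (CommRingCat.ofHom φ)) A).hom :=
    inferInstanceAs (QuasiCompact (pullback.snd A.hom (Spec.map (CommRingCat.ofHom φ))))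
  have j1 : Smooth (Red.bc (gen R) A).hom := inferInstanceAs (Smooth (pullback.snd A.hom (gen R)))
  have j2 : GeometricallyConnected (Red.bc (gen R) A).hom :=
    inferInstanceAs (GeometricallyConnected (pullback.snd A.hom (gen R)))
  have j3 : GeometricallyIntegral (Red.bc (gen R) A).hom :=
    K523.AvField.geometricallyIntegral_of_smooth_geometricallyConnected _
  have h1 := dim_eq h hb
  have h2 : topologicalKrullDim (Red.bc (gen R) A).left = ((b + r : ℕ) : WithBot ℕ∞) := by
    rw [← h1]
    exact AlgGrp.K411.DimPt.dim_bc_eq A (gen R) (Spec.map (CommRingCat.ofHom φ))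
  exact (S1842.pos_case (FractionRing R) (Red.bc (gen R) A) (b + r) h2 N hN).2.2 s

end Loc

end K267.SemiRank
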