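import Mathlib.RingTheory.Smooth.Local
import Mathlib.RingTheory.Smooth.Locus
import Mathlib.RingTheory.Etale.Kaehler
import Mathlib.RingTheory.RingHom.Surjective
import Mathlib.LinearAlgebra.LinearPMap

/-!
# Smoothness of a closed subscheme along the unit section

`A` an `R`-algebra with an augmentation `ε`, `I = ker ε`, `J ≤ I` with `J ∩ I² = I J` and `I/(J + I²)` projective
over `R`: there is a derivation `A → M` extending the canonical map `J → M` for every `A`-module `M` killed by `I`
(and any `A`-linear map `J → M`). If `A` is smooth then `A/J` is smooth at all primes containing `I`.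
-/

set_option autoImplicit false
universe u

open TensorProduct

namespace K267.SmoothUnit

variable {R A : Type u} [CommRing R] [CommRing A] [Algebra R A]

/-- Every linear map from `J` to a module killed by `I` extends to a derivation of `A`. -/
theorem exists_derivation (ε : A →ₐ[R] R) (J : Ideal A) (hJI : J ≤ RingHom.ker ε)
    (h2 : J ⊓ RingHom.ker ε ^ 2 = RingHom.ker ε * J)
    (h3 : Module.Projective R (↥(RingHom.ker ε) ⧸ Submodule.comap (RingHom.ker ε).subtype (J ⊔ RingHom.ker ε ^ 2)))
    {M : Type u} [AddCommGroup M] [Module A M] [Module R M] [IsScalarTower R A M]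
    (hM : ∀ a ∈ RingHom.ker ε, ∀ m : M, a • m = 0) (β : J →ₗ[A] M) :
    ∃ D : Derivation R A M, ∀ j : J, D j = β j := by
  classical
  -- extension of `β` by zero on `I²`
  let f : A →ₗ.[A] M := ⟨J, β⟩
  let g : A →ₗ.[A] M := ⟨RingHom.ker ε ^ 2, 0⟩
  have hβ : ∀ (x : J), (x : A) ∈ RingHom.ker ε * J → β x = 0 := by
    rintro ⟨x, hx⟩ hx'
    have key : ∀ y (hy : y ∈ RingHom.ker ε * J), ∃ hyJ : y ∈ J, β ⟨y, hyJ⟩ = 0 := by
      intro y hy
      induction hy using Submodule.mul_induction_on' with
      | mem_mul_mem a ha b hb =>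
        refine ⟨J.mul_mem_left a hb, ?_⟩
        have : (⟨a * b, J.mul_mem_left a hb⟩ : J) = a • (⟨b, hb⟩ : J) := rfl
        rw [this, map_smul, hM a ha]
      | add x hx y hy h1 h2 =>
        obtain ⟨h1, h1'⟩ := h1
        obtain ⟨h2, h2'⟩ := h2
        refine ⟨J.add_mem h1 h2, ?_⟩
        have : (⟨x + y, J.add_mem h1 h2⟩ : J) = ⟨x, h1⟩ + ⟨y, h2⟩ := rfl
        rw [this, map_add, h1', h2', add_zero]
    obtain ⟨_, h⟩ := key x hx'
    exact h
  have hfg : ∀ (x : f.domain) (y : g.domain), (x : A) = y → f x = g y := by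
    rintro ⟨x, hx⟩ ⟨y, hy⟩ (rfl : x = y)
    have : x ∈ RingHom.ker ε * J := by rw [← h2]; exact ⟨hx, hy⟩
    exact hβ ⟨x, hx⟩ this
  let h : A →ₗ.[A] M := f.sup g hfg
  have hJh : J ≤ h.domain := le_sup_left (a := f.domain) (b := g.domain)
  have hIh : RingHom.ker ε ^ 2 ≤ h.domain := le_sup_right (a := f.domain) (b := g.domain)
  have hhJ : ∀ (x : A) (hx : x ∈ J) (hx' : x ∈ h.domain), h ⟨x, hx'⟩ = β ⟨x, hx⟩ := by
    intro x hx hx'
    have := LinearPMap.sup_apply hfg ⟨x, hx⟩ ⟨0, Submodule.zero_mem _⟩ ⟨x, hx'⟩ (by simp)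
    rw [show h ⟨x, hx'⟩ = f ⟨x, hx⟩ + g ⟨0, Submodule.zero_mem _⟩ from this]
    change β ⟨x, hx⟩ + 0 = _
    rw [add_zero]
  have hhI : ∀ (x : A) (hx : x ∈ RingHom.ker ε ^ 2) (hx' : x ∈ h.domain), h ⟨x, hx'⟩ = 0 := by
    intro x hx hx'
    have := LinearPMap.sup_apply hfg ⟨0, Submodule.zero_mem _⟩ ⟨x, hx⟩ ⟨x, hx'⟩ (by simp)
    rw [show h ⟨x, hx'⟩ = f ⟨0, Submodule.zero_mem _⟩ + g ⟨x, hx⟩ from this]
    change β ⟨0, _⟩ + 0 = _
    rw [add_zero]
    exact map_zero β
  -- splitting
  let N : Submodule A ↥(RingHom.ker ε) := Submodule.comap (RingHom.ker ε).subtype (J ⊔ RingHom.ker ε ^ 2)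
  let π : ↥(RingHom.ker ε) →ₗ[R] (↥(RingHom.ker ε) ⧸ N) := N.mkQ.restrictScalars R
  obtain ⟨s, hs⟩ := Module.projective_lifting_property π LinearMap.id (Submodule.mkQ_surjective N)
  have hs' : ∀ x : ↥(RingHom.ker ε), ((x - s (π x) : ↥(RingHom.ker ε)) : A) ∈ h.domain := by
    intro x
    have : π (x - s (π x)) = 0 := by
      rw [map_sub]
      have := LinearMap.congr_fun hs (π x)
      simp only [LinearMap.comp_apply, LinearMap.id_apply] at this
      rw [this, sub_self]
    have h4 : x - s (π x) ∈ N := (Submodule.Quotient.mk_eq_zero N).mp this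
    exact h4
  let γ : ↥(RingHom.ker ε) →ₗ[R] M :=
    { toFun := fun x => h ⟨_, hs' x⟩
      map_add' := by
        intro x y
        rw [← h.map_add]
        congr 1
        ext
        simp only [map_add, Submodule.coe_sub, Submodule.coe_add]
        ring
      map_smul' := by
        intro r x
        have : (⟨_, hs' (r • x)⟩ : h.domain) = (algebraMap R A r) • ⟨_, hs' x⟩ := by
          ext
          simp only [map_smul, Submodule.coe_sub, SetLike.val_smul, smul_eq_mul]
          rw [Submodule.coe_smul_of_tower, Submodule.coe_smul_of_tower, mul_sub, Algebra.smul_def,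
            Algebra.smul_def]
        rw [this, h.map_smul, RingHom.id_apply, algebraMap_smul] }
  have hγJ : ∀ (x : A) (hx : x ∈ J), γ ⟨x, hJI hx⟩ = β ⟨x, hx⟩ := by
    intro x hx
    have hπ : π ⟨x, hJI hx⟩ = 0 :=
      (Submodule.Quotient.mk_eq_zero N).mpr (hJh hx)
    change h ⟨_, hs' _⟩ = _
    have : (⟨_, hs' ⟨x, hJI hx⟩⟩ : h.domain) = ⟨x, hJh hx⟩ := by
      ext
      simp [hπ]
    rw [this, hhJ x hx]
  have hγI : ∀ (x : A) (hx : x ∈ RingHom.ker ε ^ 2) (hx' : x ∈ RingHom.ker ε), γ ⟨x, hx'⟩ = 0 := by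
    intro x hx hx'
    have hπ : π ⟨x, hx'⟩ = 0 :=
      (Submodule.Quotient.mk_eq_zero N).mpr (hIh hx)
    change h ⟨_, hs' _⟩ = _
    have : (⟨_, hs' ⟨x, hx'⟩⟩ : h.domain) = ⟨x, hIh hx⟩ := by
      ext
      simp [hπ]
    rw [this, hhI x hx]
  -- the projection
  let pr : A →ₗ[R] ↥(RingHom.ker ε) :=
    { toFun := fun a => ⟨a - algebraMap R A (ε a), by simp [RingHom.mem_ker]⟩
      map_add' := by intro a b; ext; simp only [map_add, Submodule.coe_add]; ring
      map_smul' := by
        intro r a; ext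
        simp only [RingHom.id_apply, Submodule.coe_smul_of_tower, map_mul, Algebra.smul_def,
          AlgHom.commutes, Algebra.algebraMap_self, RingHom.id_apply]
        ring }
  have hprI : ∀ (a : A) (ha : a ∈ RingHom.ker ε), pr a = ⟨a, ha⟩ := by
    intro a ha
    ext
    have : ε a = 0 := ha
    simp [pr, this]
  have hAM : ∀ (a : A) (m : M), a • m = ε a • m := by
    intro a m
    have h5 : (a - algebraMap R A (ε a)) • m = 0 := hM _ (pr a).2 m
    rw [sub_smul, sub_eq_zero, algebraMap_smul] at h5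
    exact h5
  let D : Derivation R A M := Derivation.mk' (γ ∘ₗ pr) (by
    intro a b
    have h6 : pr (a * b) = ⟨(a - algebraMap R A (ε a)) * (b - algebraMap R A (ε b)),
        (RingHom.ker ε).mul_mem_left _ (pr b).2⟩ + (ε a • pr b + ε b • pr a) := by
      ext
      simp only [pr, LinearMap.coe_mk, AddHom.coe_mk, Submodule.coe_add, Submodule.coe_smul_of_tower,
        Algebra.smul_def, map_mul]
      ring
    rw [LinearMap.comp_apply, h6, map_add, hγI _ _ _, zero_add, map_add, map_smul, map_smul,
      LinearMap.comp_apply, LinearMap.comp_apply, hAM a, hAM b]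
    rw [pow_two]
    exact Ideal.mul_mem_mul (pr a).2 (pr b).2)
  refine ⟨D, fun j => ?_⟩
  change γ (pr j) = _
  rw [hprI j (hJI j.2), hγJ j j.2]

open IsLocalRing KaehlerDifferential in
theorem formallySmooth_of (ε : A →ₐ[R] R) (J : Ideal A) (hJI : J ≤ RingHom.ker ε) (hJ : J.FG)
    (h2 : J ⊓ RingHom.ker ε ^ 2 = RingHom.ker ε * J)
    (h3 : Module.Projective R (↥(RingHom.ker ε) ⧸ Submodule.comap (RingHom.ker ε).subtype (J ⊔ RingHom.ker ε ^ 2)))
    (B S : Type u) [CommRing B] [CommRing S] [IsLocalRing S] [Algebra R B] [Algebra A B]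
    [IsScalarTower R A B] [Algebra B S] [Algebra R S] [IsScalarTower R B S] [Algebra A S]
    [IsScalarTower A B S] [IsScalarTower R A S] [Algebra.FormallyEtale A B] [Algebra.FormallySmooth R B]
    [Module.Free B Ω[B⁄R]] [Module.Finite B Ω[B⁄R]]
    (hsurj : Function.Surjective (algebraMap B S))
    (hker : RingHom.ker (algebraMap B S) = J.map (algebraMap A B))
    (hI : ∀ a ∈ RingHom.ker ε, algebraMap A (ResidueField S) a = 0) : Algebra.FormallySmooth R S := by
  rw [Algebra.FormallySmooth.iff_injective_cotangentComplexBaseChange_residueField B hsurj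
    (by rw [hker]; exact hJ.map _)]
  let β : J →ₗ[A] (ResidueField S) ⊗[B] (RingHom.ker (algebraMap B S)) :=
    { toFun := fun j => 1 ⊗ₜ ⟨algebraMap A B j, by rw [hker]; exact Ideal.mem_map_of_mem _ j.2⟩
      map_add' := by
        intro x y
        rw [← TensorProduct.tmul_add]
        congr 1
        ext
        simp
      map_smul' := by
        intro a x
        rw [RingHom.id_apply, TensorProduct.smul_tmul', ← IsScalarTower.algebraMap_smul B a (1 : ResidueField S),
          TensorProduct.smul_tmul]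
        congr 1
        ext
        simp [Algebra.smul_def] }
  have hM : ∀ a ∈ RingHom.ker ε, ∀ m : (ResidueField S) ⊗[B] (RingHom.ker (algebraMap B S)), a • m = 0 := by
    intro a ha m
    induction m using TensorProduct.induction_on with
    | zero => simp
    | tmul x y =>
      rw [TensorProduct.smul_tmul', Algebra.smul_def, hI a ha, zero_mul, TensorProduct.zero_tmul]
    | add x y hx hy => rw [smul_add, hx, hy, add_zero]
  obtain ⟨D', hD'⟩ := exists_derivation ε J hJI h2 h3 hM β
  let ψ : Ω[B⁄R] →ₗ[B] (ResidueField S) ⊗[B] (RingHom.ker (algebraMap B S)) :=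
    (LinearMap.liftBaseChange B D'.liftKaehlerDifferential) ∘ₗ
      (tensorKaehlerEquivOfFormallyEtale R A B).symm.toLinearMap
  have hψ : ∀ a : A, ψ (D R B (algebraMap A B a)) = D' a := by
    intro a
    simp only [ψ, LinearMap.comp_apply, LinearEquiv.coe_coe,
      tensorKaehlerEquivOfFormallyEtale_symm_D_algebraMap, LinearMap.liftBaseChange_tmul, one_smul,
      Derivation.liftKaehlerDifferential_comp_D]
  have hB : ∀ b ∈ RingHom.ker (algebraMap B S),
      ∀ m : (ResidueField S) ⊗[B] (RingHom.ker (algebraMap B S)), b • m = 0 := by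
    intro a ha m
    induction m using TensorProduct.induction_on with
    | zero => simp
    | tmul x y =>
      rw [TensorProduct.smul_tmul', Algebra.smul_def, IsScalarTower.algebraMap_apply B S (ResidueField S),
        show algebraMap B S a = 0 from ha, map_zero, zero_mul, TensorProduct.zero_tmul]
    | add x y hx hy => rw [smul_add, hx, hy, add_zero]
  have key : ∀ (x : B) (hx : x ∈ RingHom.ker (algebraMap B S)),
      ψ (D R B x) = (1 : ResidueField S) ⊗ₜ[B] (⟨x, hx⟩ : RingHom.ker (algebraMap B S)) := by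
    intro x hx
    have hx' : x ∈ J.map (algebraMap A B) := hker ▸ hx
    induction hx' using Submodule.span_induction with
    | mem x h =>
      obtain ⟨j, hj, rfl⟩ := h
      rw [hψ]
      exact hD' ⟨j, hj⟩
    | zero =>
      rw [map_zero, map_zero]
      exact (TensorProduct.tmul_zero _ _).symm
    | add x y hx1 hy1 h1 h2 =>
      have hx2 : x ∈ RingHom.ker (algebraMap B S) := by rw [hker]; exact hx1
      have hy2 : y ∈ RingHom.ker (algebraMap B S) := by rw [hker]; exact hy1
      rw [map_add, map_add, h1 hx2, h2 hy2, ← TensorProduct.tmul_add]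
      rfl
    | smul b x hx1 h1 =>
      have hx2 : x ∈ RingHom.ker (algebraMap B S) := by rw [hker]; exact hx1
      have h5 : ψ (D R B (b * x)) = b • ((1 : ResidueField S) ⊗ₜ[B] (⟨x, hx2⟩ : RingHom.ker (algebraMap B S))) := by
        rw [Derivation.leibniz, map_add, map_smul, map_smul, hB x hx2, add_zero, h1 hx2]
      rw [TensorProduct.smul_tmul', TensorProduct.smul_tmul] at h5
      exact h5
  let Ψ := LinearMap.liftBaseChange (ResidueField S) ψ
  have hΨ : Ψ ∘ₗ cotangentComplexBaseChange R S B (ResidueField S) = LinearMap.id := by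
    apply TensorProduct.AlgebraTensorModule.curry_injective
    ext x
    simp only [TensorProduct.AlgebraTensorModule.curry_apply,
      TensorProduct.curry_apply, LinearMap.comp_apply, LinearMap.coe_restrictScalars,
      cotangentComplexBaseChange_tmul, one_smul, kerToTensor_apply, LinearMap.id_apply]
    simp only [Ψ, LinearMap.liftBaseChange_tmul, one_smul]
    exact key x.1 x.2
  exact Function.LeftInverse.injective (g := Ψ) (fun x => LinearMap.congr_fun hΨ x)

end K267.SmoothUnit
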