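import Groth.Agent.GrpSch.K267.FinPart
import Groth.Agent.Flat2D.LfpComp

/-!
# The finite part of the `N`-torsion of a semi-stable group scheme

`R` a local ring, `S = Spec R`, `A` an `S`-group scheme.

* `IsTors A N f`: `f : F ⟶ A` is the finite part of the kernel of `[N]`: `F` is finite flat, closed
  in `A`, killed by `N`, and every `T`-point of `A` killed by `N` comes from `F` as soon as all
  points of `T` specialise to the closed fibre (`FinPart.Clo`);
* `exists_isTors`: existence for semi-stable `A` over a henselian `R`;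
* `IsTors.bc`: base change along local morphisms;
* `IsTors.trans`: `F_N = F_{N'}[N]` for `N ∣ N'`.
-/

set_option autoImplicit false

universe u

open CategoryTheory CategoryTheory.Limits MonoidalCategory CartesianMonoidalCategory MonObj GrpObj
  AlgebraicGeometry

namespace K267.TorsFin

open Groth.Agent Groth.Agent.Sga3B.KerGrp K267.FinPart

/-- The finite part of the `N`-torsion. -/
structure IsTors {R : Type u} [CommRing R] [IsLocalRing R] (A : Over (Spec (CommRingCat.of R)))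
    [GrpObj A] (N : ℕ) {F : Over (Spec (CommRingCat.of R))} (f : F ⟶ A) : Prop where
  cl : IsClosedImmersion f.left
  fin : IsFinite F.hom
  flat : Flat F.hom
  lfp : LocallyOfFinitePresentation F.hom
  pow : f ^ N = 1
  op : ∀ k : F ⟶ kerObj ((𝟙 A : A ⟶ A) ^ N), k ≫ kerι _ = f → IsOpenImmersion k.left
  lift : ∀ {T : Over (Spec (CommRingCat.of R))} (x : T ⟶ A), Clo T → x ^ N = 1 →
    ∃ y : T ⟶ F, y ≫ f = x

theorem comp_one_pow {S : Scheme.{u}} {A T : Over S} [GrpObj A] (x : T ⟶ A) (N : ℕ) :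
    x ≫ ((𝟙 A : A ⟶ A) ^ N) = x ^ N := by rw [MonObj.comp_pow, Category.comp_id]

theorem exists_isTors {R : Type u} [CommRing R] [HenselianLocalRing R]
    (A : Over (Spec (CommRingCat.of R))) [GrpObj A] [IsCommMonObj A] [Smooth A.hom]
    [IsSeparated A.hom] [QuasiCompact A.hom] (hA : SGA7.FibresUnipotentRankZero A) (N : ℕ)
    (hN : 0 < N) : ∃ (F : Over (Spec (CommRingCat.of R))) (_ : GrpObj F) (f : F ⟶ A),
      IsMonHom f ∧ IsTors A N f := by
  have i0 : IsMonHom ((𝟙 A : A ⟶ A) ^ N) := SemiPow.isMonHom_pow A N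
  obtain ⟨i1, i2⟩ := SemiPow.flat_lqf_pow A hA N hN
  obtain ⟨_, i3⟩ := exists_grpObj ((𝟙 A : A ⟶ A) ^ N)
  have i4 : IsClosedImmersion (kerι ((𝟙 A : A ⟶ A) ^ N)).left := inferInstance
  have hlft : LocallyOfFinitePresentation ((𝟙 A : A ⟶ A) ^ N).left := by
    have : LocallyOfFinitePresentation (((𝟙 A : A ⟶ A) ^ N).left ≫ A.hom) := by
      rw [Over.w]; infer_instance
    exact Flat2D.LfpComp.lfp_of_comp _ A.hom
  have hqc : QuasiCompact ((𝟙 A : A ⟶ A) ^ N).left := by
    have : QuasiCompact (((𝟙 A : A ⟶ A) ^ N).left ≫ A.hom) := by rw [Over.w]; infer_instance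
    exact QuasiCompact.of_comp _ A.hom
  have hsep : IsSeparated ((𝟙 A : A ⟶ A) ^ N).left := by
    have : IsSeparated (((𝟙 A : A ⟶ A) ^ N).left ≫ A.hom) := by rw [Over.w]; infer_instance
    exact IsSeparated.of_comp _ A.hom
  have sq := (isPullback_ker ((𝟙 A : A ⟶ A) ^ N)).map (Over.forget _)
  have e1 : (kerObj ((𝟙 A : A ⟶ A) ^ N)).hom = (toUnit (kerObj ((𝟙 A : A ⟶ A) ^ N))).left := by
    rw [← Over.w (toUnit (kerObj ((𝟙 A : A ⟶ A) ^ N)))]
    exact (Category.comp_id _)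
  have j1 : LocallyQuasiFinite (kerObj ((𝟙 A : A ⟶ A) ^ N)).hom := by
    rw [e1]; exact MorphismProperty.of_isPullback (P := @LocallyQuasiFinite) sq i2
  have j2 : Flat (kerObj ((𝟙 A : A ⟶ A) ^ N)).hom := by
    rw [e1]; exact MorphismProperty.of_isPullback (P := @Flat) sq i1
  have j3 : LocallyOfFinitePresentation (kerObj ((𝟙 A : A ⟶ A) ^ N)).hom := by
    rw [e1]; exact MorphismProperty.of_isPullback (P := @LocallyOfFinitePresentation) sq hlft
  have j4 : QuasiCompact (kerObj ((𝟙 A : A ⟶ A) ^ N)).hom := by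
    rw [e1]; exact MorphismProperty.of_isPullback (P := @QuasiCompact) sq hqc
  have j5 : IsSeparated (kerObj ((𝟙 A : A ⟶ A) ^ N)).hom := by
    rw [e1]; exact MorphismProperty.of_isPullback (P := @IsSeparated) sq hsep
  obtain ⟨F, j, hj⟩ := exists_isFinPart (kerObj ((𝟙 A : A ⟶ A) ^ N))
  obtain ⟨_, hjm⟩ := hj.exists_grpObj
  have k1 := hj.op
  have k2 := hj.cl
  refine ⟨F, inferInstance, j ≫ kerι _, inferInstance, ?_, hj.fin, ?_, ?_, ?_, ?_, ?_⟩
  · rw [Over.comp_left]; infer_instance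
  · rw [← Over.w j]; infer_instance
  · rw [← Over.w j]; infer_instance
  · rw [← comp_one_pow, Category.assoc, kerι_comp, MonObj.comp_one]
  · intro k hk
    have h1 : k = j := by
      rw [← cancel_mono (kerι ((𝟙 A : A ⟶ A) ^ N))]
      exact hk
    rw [h1]; exact k1
  · intro T x hT hx
    obtain ⟨t, ht⟩ := exists_lift ((𝟙 A : A ⟶ A) ^ N) x (by rw [comp_one_pow, hx])
    obtain ⟨y, hy⟩ := hj.exists_lift hT t
    exact ⟨y, by rw [← Category.assoc, hy, ht]⟩

variable {R : Type u} [CommRing R] [IsLocalRing R] {A : Over (Spec (CommRingCat.of R))} [GrpObj A]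
  {N : ℕ} {F : Over (Spec (CommRingCat.of R))} {f : F ⟶ A}

namespace IsTors

theorem mono (hf : IsTors A N f) : Mono f := by
  have := hf.cl
  exact Functor.mono_of_mono_map (Over.forget _) (inferInstanceAs (Mono f.left))

theorem clo (hf : IsTors A N f) : Clo F := by
  have := hf.fin
  exact clo_of_universallyClosed F

theorem clo_tensor (hf : IsTors A N f) {N' : ℕ} {F' : Over (Spec (CommRingCat.of R))} {f' : F' ⟶ A}
    (hf' : IsTors A N' f') : Clo (F ⊗ F') := by
  have := hf.fin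
  have := hf'.fin
  have h2 : IsProper (F ⊗ F').hom := by
    rw [Over.tensorObj_hom]
    infer_instance
  exact clo_of_universallyClosed _

theorem pow_comp (hf : IsTors A N f) {T : Over (Spec (CommRingCat.of R))} (y : T ⟶ F) :
    (y ≫ f) ^ N = 1 := by
  rw [← MonObj.comp_pow, hf.pow, MonObj.comp_one]

/-- The finite part of the torsion is a subgroup. -/
theorem exists_grpObj [IsCommMonObj A] (hf : IsTors A N f) : ∃ _ : GrpObj F, IsMonHom f := by
  have h0 := hf.mono
  refine Sga3C.ClosedSub.exists_grpObj_of_mono f ?_ ?_ ?_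
  · refine hf.lift η[A] ?_ ?_
    · have h3 : IsProper (𝟙_ (Over (Spec (CommRingCat.of R)))).hom := by
        rw [Over.tensorUnit_hom]
        have h4 : IsFinite (𝟙 (Spec (CommRingCat.of R))) := inferInstance
        infer_instance
      exact clo_of_universallyClosed _
    · rw [one_eq_one, one_pow]
  · refine hf.lift ((f ⊗ₘ f) ≫ μ[A]) (hf.clo_tensor hf) ?_
    have h1 : (f ⊗ₘ f) ≫ μ[A] = (fst F F ≫ f) * (snd F F ≫ f) := by
      rw [Hom.mul_def]
      congr 1
    rw [h1, mul_pow, hf.pow_comp, hf.pow_comp, _root_.mul_one]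
  · refine hf.lift (f ≫ ι[A]) hf.clo ?_
    rw [← Hom.inv_def, inv_pow, hf.pow, inv_one]

/-- `F_N ⊆ F_{N'}` for `N ∣ N'`. -/
theorem exists_trans (hf : IsTors A N f) {N' : ℕ} {F' : Over (Spec (CommRingCat.of R))}
    {f' : F' ⟶ A} (hf' : IsTors A N' f') (h : N ∣ N') : ∃ t : F ⟶ F', t ≫ f' = f := by
  obtain ⟨M, rfl⟩ := h
  exact hf'.lift f hf.clo (by rw [pow_mul, hf.pow, one_pow])

theorem unique (hf : IsTors A N f) {F' : Over (Spec (CommRingCat.of R))}
    {f' : F' ⟶ A} (hf' : IsTors A N f') : ∃ e : F ≅ F', e.hom ≫ f' = f := by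
  obtain ⟨t, ht⟩ := hf.exists_trans hf' dvd_rfl
  obtain ⟨s, hs⟩ := hf'.exists_trans hf dvd_rfl
  have h1 := hf.mono
  have h2 := hf'.mono
  refine ⟨⟨t, s, ?_, ?_⟩, ht⟩
  · rw [← cancel_mono f, Category.assoc, hs, ht, Category.id_comp]
  · rw [← cancel_mono f', Category.assoc, ht, hs, Category.id_comp]

/-- `F_{N'}[N] ⊆ F_N` (for arbitrary points). -/
theorem exists_of_pow [IsCommMonObj A] [IsSeparated A.hom] (hf : IsTors A N f) {N' : ℕ}
    {F' : Over (Spec (CommRingCat.of R))} {f' : F' ⟶ A} (hf' : IsTors A N' f')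
    {T : Over (Spec (CommRingCat.of R))} (y : T ⟶ F') (hy : (y ≫ f') ^ N = 1) :
    ∃ z : T ⟶ F, z ≫ f = y ≫ f' := by
  obtain ⟨_, hm⟩ := hf'.exists_grpObj
  have h0 := hf'.fin
  have h5 := hf'.mono
  have h1 : IsCommMonObj F' := Sga7.H758.AlgClosed.isCommMonObj_of_mono f'
  have h2 : IsMonHom ((𝟙 F' : F' ⟶ F') ^ N) := SemiPow.isMonHom_pow F' N
  have h3 : IsSeparated F'.hom := inferInstance
  have h4 : IsClosedImmersion (kerι ((𝟙 F' : F' ⟶ F') ^ N)).left := inferInstance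
  have h6 : IsFinite (kerObj ((𝟙 F' : F' ⟶ F') ^ N)).hom := by
    rw [← Over.w (kerι ((𝟙 F' : F' ⟶ F') ^ N))]; infer_instance
  have h7 : y ^ N = 1 := by
    rw [← cancel_mono f', MonObj.pow_comp, hy, MonObj.one_comp]
  obtain ⟨t, ht⟩ := exists_lift ((𝟙 F' : F' ⟶ F') ^ N) y (by rw [comp_one_pow, h7])
  obtain ⟨w, hw⟩ := hf.lift (kerι ((𝟙 F' : F' ⟶ F') ^ N) ≫ f') (clo_of_universallyClosed _) (by
    have h8 : kerι ((𝟙 F' : F' ⟶ F') ^ N) ^ N = 1 :=
      (comp_one_pow (kerι ((𝟙 F' : F' ⟶ F') ^ N)) N).symm.trans (kerι_comp _)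
    rw [← MonObj.pow_comp, h8, MonObj.one_comp])
  exact ⟨t ≫ w, by rw [Category.assoc, hw, ← Category.assoc, ht]⟩

/-- Base change along a local morphism. -/
theorem bc [IsCommMonObj A] (hf : IsTors A N f) {R' : Type u} [CommRing R'] [IsLocalRing R']
    (φ : Spec (CommRingCat.of R') ⟶ Spec (CommRingCat.of R))
    (hφ : φ (IsLocalRing.closedPoint R') = IsLocalRing.closedPoint R) :
    IsTors (Red.bc φ A) N ((Over.pullback φ).map f) := by
  have h1 := hf.cl
  have h2 := hf.fin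
  have h3 := hf.flat
  have h4 := hf.lfp
  have hm := hf.mono
  have sq := Sga3C.ActBase.isPullback_map_left φ f
  have hp : (Over.pullback φ).map ((𝟙 A : A ⟶ A) ^ N) =
      (𝟙 (Red.bc φ A) : Red.bc φ A ⟶ Red.bc φ A) ^ N := K567.SemiAb.map_one_pow φ A N
  refine ⟨MorphismProperty.of_isPullback (P := @IsClosedImmersion) sq.flip inferInstance,
    inferInstanceAs (IsFinite (pullback.snd F.hom φ)),
    inferInstanceAs (Flat (pullback.snd F.hom φ)),
    inferInstanceAs (LocallyOfFinitePresentation (pullback.snd F.hom φ)), ?_, ?_, ?_⟩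
  · rw [← comp_one_pow, ← hp, ← Functor.map_comp, comp_one_pow, hf.pow]
    exact Functor.map_one _
  · intro k hk
    obtain ⟨k0, hk0⟩ := exists_lift ((𝟙 A : A ⟶ A) ^ N) f (by rw [comp_one_pow, hf.pow])
    have h5 := hf.op k0 hk0
    have sq' := Sga3C.ActBase.isPullback_map_left φ k0
    have h6 : IsOpenImmersion ((Over.pullback φ).map k0).left :=
      MorphismProperty.of_isPullback (P := @IsOpenImmersion) sq'.flip inferInstance
    have h7 : (Over.pullback φ).map (kerι ((𝟙 A : A ⟶ A) ^ N)) ≫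
        (𝟙 (Red.bc φ A) : Red.bc φ A ⟶ Red.bc φ A) ^ N = 1 := by
      rw [← hp, ← Functor.map_comp, kerι_comp]
      exact Functor.map_one _
    obtain ⟨e, he⟩ := exists_lift _ _ h7
    have h12 : (kerι ((𝟙 (Red.bc φ A) : Red.bc φ A ⟶ Red.bc φ A) ^ N)) ^ N = 1 :=
      (comp_one_pow (kerι ((𝟙 (Red.bc φ A) : Red.bc φ A ⟶ Red.bc φ A) ^ N)) N).symm.trans
        (kerι_comp _)
    obtain ⟨y, hy⟩ := exists_lift ((𝟙 A : A ⟶ A) ^ N)
      ((Sga3B.BcPts.bcMulEquiv φ _ A).symm
        (kerι ((𝟙 (Red.bc φ A) : Red.bc φ A ⟶ Red.bc φ A) ^ N))) (by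
        rw [comp_one_pow, ← map_pow, h12, map_one])
    have h13 : Sga3B.BcPts.bcEquiv φ _ _ y ≫ (Over.pullback φ).map (kerι ((𝟙 A : A ⟶ A) ^ N)) =
        kerι ((𝟙 (Red.bc φ A) : Red.bc φ A ⟶ Red.bc φ A) ^ N) := by
      rw [← Sga3B.BcPts.bcEquiv_comp, hy]
      exact (Sga3B.BcPts.bcMulEquiv φ _ A).apply_symm_apply _
    have h14 : Mono ((Over.pullback φ).map (kerι ((𝟙 A : A ⟶ A) ^ N))) := inferInstance
    have h9 : IsIso e := by
      refine ⟨Sga3B.BcPts.bcEquiv φ _ _ y, ?_, ?_⟩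
      · rw [← cancel_mono ((Over.pullback φ).map (kerι ((𝟙 A : A ⟶ A) ^ N))), Category.assoc, h13,
          he, Category.id_comp]
      · rw [← cancel_mono (kerι ((𝟙 (Red.bc φ A) : Red.bc φ A ⟶ Red.bc φ A) ^ N)),
          Category.assoc, he, h13, Category.id_comp]
    have h10 : k = (Over.pullback φ).map k0 ≫ e := by
      rw [← cancel_mono (kerι _), hk, Category.assoc, he, ← Functor.map_comp, hk0]
    have h11 : IsIso e.left := inferInstanceAs (IsIso ((Over.forget _).map e))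
    rw [h10, Over.comp_left]
    infer_instance
  · intro T x hT hx
    have h5 : Clo ((Over.map φ).obj T) := by
      intro t
      obtain ⟨t', ht, ht'⟩ := hT t
      exact ⟨t', ht, ((Scheme.Hom.comp_apply T.hom φ t').trans (congrArg φ ht')).trans hφ⟩
    obtain ⟨y, hy⟩ := hf.lift ((Sga3B.BcPts.bcMulEquiv φ T A).symm x) h5 (by
      rw [← map_pow, hx, map_one])
    refine ⟨Sga3B.BcPts.bcEquiv φ T F y, ?_⟩
    rw [← Sga3B.BcPts.bcEquiv_comp, hy]
    exact (Sga3B.BcPts.bcMulEquiv φ T A).apply_symm_apply x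

/-- Points concentrated over the closed point. -/
theorem lift_closed (hf : IsTors A N f) {T : Over (Spec (CommRingCat.of R))} (x : T ⟶ A)
    (hT : ∀ t : T.left, T.hom t = IsLocalRing.closedPoint R) (hx : x ^ N = 1) :
    ∃ y : T ⟶ F, y ≫ f = x := hf.lift x (clo_of_forall T hT) hx

end IsTors

end K267.TorsFin
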