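import Groth.Agent.GrpSch.K270.ImageFam
import Groth.Agent.Divis.ColonIdeal
import Groth.Agent.Sga3.H830.CommAux
import Groth.Agent.AlgSp.K621.Jac
import Groth.Agent.Grpsch.KerMul
import Groth.Agent.Books.AlgPtsGrp
import Groth.Agent.S0079
import Mathlib.AlgebraicGeometry.Morphisms.FlatDescent

/-!
# Lifting torsion along quotients by subgroups of finite type
-/

set_option autoImplicit false
universe u
open CategoryTheory CategoryTheory.Limits MonoidalCategory CartesianMonoidalCategory MonObj GrpObj AlgebraicGeometry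

namespace K267.TorsLift

open Groth.Agent

/-- fppf coverings -/
structure IsCov {S : Scheme.{u}} {T' T : Over S} (c : T' ⟶ T) : Prop where
  flat : Flat c.left
  surj : Surjective c.left
  lfp : LocallyOfFinitePresentation c.left

section cov

variable {S : Scheme.{u}}

lemma IsCov.comp {T T' T'' : Over S} {c : T' ⟶ T} {d : T'' ⟶ T'} (hd : IsCov d) (hc : IsCov c) : IsCov (d ≫ c) := by
  have := hc.1
  have := hc.2
  have := hc.3
  have := hd.1
  have := hd.2
  have := hd.3
  exact ⟨by rw [Over.comp_left]; infer_instance, by rw [Over.comp_left]; infer_instance,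
    by rw [Over.comp_left]; infer_instance⟩

lemma exists_cover {A B T : Over S} (p : A ⟶ B) (hp : IsCov p) (x : T ⟶ B) :
    ∃ (T' : Over S) (c : T' ⟶ T) (x' : T' ⟶ A), IsCov c ∧ x' ≫ p = c ≫ x := by
  have := hp.1
  have := hp.2
  have := hp.3
  let c : Over.mk (pullback.snd p.left x.left ≫ T.hom) ⟶ T := Over.homMk (pullback.snd p.left x.left)
  let x' : Over.mk (pullback.snd p.left x.left ≫ T.hom) ⟶ A := Over.homMk (pullback.fst p.left x.left) (by
    simp only [Over.mk_hom]
    rw [← Over.w p, pullback.condition_assoc, Over.w])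
  refine ⟨_, c, x', ⟨?_, ?_, ?_⟩, ?_⟩
  · change Flat (pullback.snd p.left x.left); infer_instance
  · change Surjective (pullback.snd p.left x.left); infer_instance
  · change LocallyOfFinitePresentation (pullback.snd p.left x.left); infer_instance
  · ext1
    exact pullback.condition

end cov

/-- A morphism whose composition with a monomorphic homomorphism is a homomorphism is one. -/
lemma isMonHom_of_comp_mono {C : Type*} [Category C] [CartesianMonoidalCategory C] {A B D : C} [MonObj A] [MonObj B]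
    [MonObj D] (f : A ⟶ B) (g : B ⟶ D) [Mono g] [IsMonHom g] [IsMonHom (f ≫ g)] : IsMonHom f := by
  refine ⟨?_, ?_⟩
  · rw [← cancel_mono g, Category.assoc, IsMonHom.one_hom g]
    exact IsMonHom.one_hom (f ≫ g)
  · rw [← cancel_mono g, Category.assoc, Category.assoc, IsMonHom.mul_hom g, IsMonHom.mul_hom (f ≫ g),
      ← Category.assoc, MonoidalCategory.tensorHom_comp_tensorHom]

lemma isClosedImmersion_unit {S : Scheme.{u}} (Q : Over S) [GrpObj Q] [IsSeparated Q.hom] :
    IsClosedImmersion (η[Q] : 𝟙_ (Over S) ⟶ Q).left := by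
  have h0 : IsClosedImmersion (𝟙 S) := inferInstance
  have h1 : IsClosedImmersion ((η[Q] : 𝟙_ (Over S) ⟶ Q).left ≫ Q.hom) := by
    rw [Over.w (η[Q] : 𝟙_ (Over S) ⟶ Q)]; exact h0
  exact IsClosedImmersion.of_comp _ Q.hom

/-- quasi-compactness descends along fppf coverings -/
lemma quasiCompact_of_cover {X Y Z W : Scheme.{u}} {a : W ⟶ X} {b : W ⟶ Y} {f : X ⟶ Z} {g : Y ⟶ Z}
    (h : IsPullback a b f g) [Flat f] [Surjective f] [LocallyOfFinitePresentation f] [QuasiCompact a] :
    QuasiCompact g := by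
  have := Groth.Agent.S0079.result.{u}
  exact MorphismProperty.of_isPullback_of_descendsAlong (P := @QuasiCompact)
    (Q := @Surjective ⊓ @Flat ⊓ @LocallyOfFinitePresentation) h ⟨⟨inferInstance, inferInstance⟩, inferInstance⟩
    inferInstance

variable {k : Type u} [Field k]

/-- A quasi-compact homomorphism through which an fppf covering factors is faithfully flat. -/
theorem fppf_of_cover {G K T : Over (Spec (CommRingCat.of k))} [GrpObj G] [GrpObj K] [LocallyOfFiniteType G.hom]
    [LocallyOfFiniteType K.hom] (ℓ : G ⟶ K) [IsMonHom ℓ] [QuasiCompact ℓ.left] (t : T ⟶ G)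
    (h : IsCov (t ≫ ℓ)) : Flat ℓ.left ∧ Surjective ℓ.left := by
  obtain ⟨C, _, p, i, hp, hi, hpi, h1, h2, h3, h4⟩ := K270.ImageFam.exists_factor G K ℓ
  have hm : Mono i := Books.AlgPtsGrp.mono_of_isClosedImmersion i
  have f1 := h.1
  have f2 := h.2
  have f3 := h.3
  obtain ⟨s, hs⟩ := Sga3C.QuotProps.exists_desc (t ≫ ℓ) (t ≫ p) (by
    intro W x y hxy
    rw [← cancel_mono i]
    simp only [Category.assoc, hpi]
    exact hxy)
  have he : Epi (t ≫ ℓ) := Sga3C.QuotProps.epi_of_flat_surjective (t ≫ ℓ)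
  have hsi : s ≫ i = 𝟙 K := by
    rw [← cancel_epi (t ≫ ℓ), ← Category.assoc, hs, Category.assoc, hpi, Category.comp_id]
  have his : i ≫ s = 𝟙 C := by
    rw [← cancel_mono i, Category.assoc, hsi, Category.comp_id, Category.id_comp]
  have hiso : IsIso i := ⟨s, his, hsi⟩
  have hiso' : IsIso i.left := inferInstanceAs (IsIso ((Over.forget _).map i))
  rw [← hpi, Over.comp_left]
  exact ⟨inferInstance, inferInstance⟩

/-- The descending chain of images of `n^r` stabilises. -/
theorem exists_stable (H : Over (Spec (CommRingCat.of k))) [GrpObj H] [IsCommMonObj H] [LocallyOfFiniteType H.hom]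
    [QuasiCompact H.hom] (n M : ℕ) : ∃ r : ℕ, ∀ (T : Over (Spec (CommRingCat.of k))) (h : T ⟶ H),
      ∃ (T' : Over (Spec (CommRingCat.of k))) (c : T' ⟶ T) (h' : T' ⟶ H), IsCov c ∧
        h' ^ (n ^ (M + r)) = (c ≫ h) ^ (n ^ r) := by
  have : IsNoetherianRing (CommRingCat.of k) := inferInstanceAs (IsNoetherianRing k)
  have : IsLocallyNoetherian H.left := LocallyOfFiniteType.isLocallyNoetherian H.hom
  have : CompactSpace H.left := (quasiCompact_iff_compactSpace H.hom).1 inferInstance
  have : IsNoetherian H.left := { }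
  have := Divis.ColonIdeal.wellFoundedGT (X := H.left)
  let v : ℕ → (H ⟶ H) := fun r => (𝟙 H) ^ (n ^ r)
  have hv : ∀ r, IsMonHom (v r) := fun r => inferInstance
  have hcomp : ∀ r, v (r + 1) = v 1 ≫ v r := by
    intro r
    simp only [v]
    rw [pow_one, MonObj.comp_pow, Category.comp_id, ← pow_mul, pow_succ, mul_comm]
  let U : ℕ →o H.left.IdealSheafData :=
    ⟨fun r => (v r).left.ker, monotone_nat_of_le_succ fun r => by
      rw [hcomp r, Over.comp_left]
      exact Scheme.Hom.le_ker_comp _ _⟩
  obtain ⟨r, hr⟩ := WellFoundedGT.monotone_chain_condition U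
  have hr' : (v r).left.ker = (v (M + r)).left.ker := hr (M + r) (by omega)
  refine ⟨r, fun T h => ?_⟩
  obtain ⟨C, _, p, i, hp, hi, hpi, h1, h2, h3, h4⟩ := K270.ImageFam.exists_factor H H (v (M + r))
  have hle : i.left.ker ≤ (v r).left.ker := by
    rw [hr', ← hpi, Over.comp_left]
    exact Scheme.Hom.le_ker_comp _ _
  let w₀ : H.left ⟶ C.left := IsClosedImmersion.lift i.left (v r).left hle
  have hw₀ : w₀ ≫ i.left = (v r).left := IsClosedImmersion.lift_fac _ _ _
  let w : H ⟶ C := Over.homMk w₀ (by rw [← Over.w i, ← Category.assoc, hw₀, Over.w])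
  have hw : w ≫ i = v r := by
    ext1
    exact hw₀
  obtain ⟨T', c, h', hc, hh'⟩ := exists_cover p ⟨h1, h2, h3⟩ (h ≫ w)
  refine ⟨T', c, h', hc, ?_⟩
  have e1 : h' ≫ v (M + r) = (c ≫ h) ≫ v r := by
    rw [← hpi, ← hw, ← Category.assoc, hh']
    simp only [Category.assoc]
  simpa only [v, MonObj.comp_pow, Category.comp_id] using e1

end K267.TorsLift
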